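import Cfsg.Prelude.Def_Characters
import Cfsg.Agent.Lib.Characters.Basic
import Cfsg.Agent.Lib.Characters.Scalar
import Mathlib.RingTheory.Norm.Transitivity
import Mathlib.RingTheory.Norm.Basic
import Mathlib.Analysis.MeanInequalities
import Mathlib.FieldTheory.IntermediateField.Adjoin.Basic
import Mathlib.RingTheory.RootsOfUnity.Complex
import Mathlib.RepresentationTheory.Invariants
import Mathlib.Analysis.Complex.Polynomial.Basic
import Mathlib.FieldTheory.Perfect

/-!
# Averaging over the conjugates of algebraic integers; averaged character values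

* `card_le_sum_of_totallyPositive`: non-zero cyclotomic algebraic integers all of whose
  conjugates are non-negative reals, with rational sum, sum up to at least their number.
* `card_ne_zero_le_sum_normSq`: the same for squared absolute values.
* `avg_isIntegral`, `avg_mem_rootField`: an average of a character over a coset of a subgroup
  normalised by the coset representative is a cyclotomic algebraic integer.
-/

set_option autoImplicit false

noncomputable section

namespace CfsgLib.KGV

open scoped ComplexConjugate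
open Finset

/-- The field generated by the `N`-th roots of unity. -/
def rootField (N : ℕ) : IntermediateField ℚ ℂ :=
  IntermediateField.adjoin ℚ {z : ℂ | z ^ N = 1}

theorem mem_rootField_of_pow_eq_one {N : ℕ} {z : ℂ} (h : z ^ N = 1) : z ∈ rootField N :=
  IntermediateField.subset_adjoin ℚ _ h

theorem rootField_mono {M N : ℕ} (h : M ∣ N) : rootField M ≤ rootField N := by
  obtain ⟨k, rfl⟩ := h
  refine IntermediateField.adjoin.mono ℚ _ _ fun z (hz : z ^ M = 1) => ?_
  show z ^ (M * k) = 1
  rw [pow_mul, hz, one_pow]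

theorem conj_mem_rootField {N : ℕ} {z : ℂ} (hz : z ∈ rootField N) : conj z ∈ rootField N := by
  induction hz using IntermediateField.adjoin_induction with
  | mem x hx =>
    refine mem_rootField_of_pow_eq_one ?_
    rw [← map_pow, show x ^ N = 1 from hx, map_one]
  | algebraMap q => simpa using (rootField N).algebraMap_mem q
  | add x y _ _ hx hy => simpa using add_mem hx hy
  | inv x _ hx => simpa using inv_mem hx
  | mul x y _ _ hx hy => simpa using mul_mem hx hy

theorem finiteDimensional_rootField {N : ℕ} (hN : 0 < N) : FiniteDimensional ℚ (rootField N) := by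
  have hfin : ({z : ℂ | z ^ N = 1}).Finite := by
    refine (Polynomial.finite_setOf_isRoot (Polynomial.X_pow_sub_C_ne_zero hN (1 : ℂ))).subset ?_
    intro z (hz : z ^ N = 1)
    simp [Polynomial.IsRoot, hz]
  haveI := hfin.to_subtype
  refine IntermediateField.finiteDimensional_adjoin fun x (hx : x ^ N = 1) => ?_
  exact IsIntegral.of_pow hN (by rw [hx]; exact isIntegral_one)

/-- Embeddings of a root field commute with complex conjugation. -/
theorem map_conj_rootField {N : ℕ} (hN : 0 < N) (σ : rootField N →ₐ[ℚ] ℂ) {z : ℂ}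
    (hz : z ∈ rootField N) :
    σ ⟨conj z, conj_mem_rootField hz⟩ = conj (σ ⟨z, hz⟩) := by
  induction hz using IntermediateField.adjoin_induction with
  | mem x hx =>
    have hx' : x ^ N = 1 := hx
    have hn : ∀ w : ℂ, w ^ N = 1 → conj w = w⁻¹ := fun w hw =>
      (Complex.inv_eq_conj (Complex.norm_eq_one_of_pow_eq_one hw hN.ne')).symm
    have h1 : (σ ⟨x, IntermediateField.subset_adjoin ℚ _ hx⟩) ^ N = 1 := by
      rw [← map_pow, show (⟨x, IntermediateField.subset_adjoin ℚ _ hx⟩ : rootField N) ^ N = 1 from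
        Subtype.ext (by simpa using hx'), map_one]
    rw [hn _ h1, ← map_inv₀]
    exact congrArg σ (Subtype.ext (by simpa using hn x hx'))
  | algebraMap q =>
    have e1 : (⟨conj ((algebraMap ℚ ℂ) q), conj_mem_rootField ((rootField N).algebraMap_mem q)⟩ :
        rootField N) = algebraMap ℚ (rootField N) q := Subtype.ext (by simp)
    have e2 : (⟨(algebraMap ℚ ℂ) q, (rootField N).algebraMap_mem q⟩ : rootField N) =
        algebraMap ℚ (rootField N) q := Subtype.ext (by simp)
    exact (congrArg σ e1).trans (((σ.commutes q).trans (by simp)).trans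
      (congrArg conj ((congrArg σ e2).trans (σ.commutes q)).symm))
  | add x y hx hy ihx ihy =>
    have e1 : (⟨x + y, add_mem hx hy⟩ : rootField N) = ⟨x, hx⟩ + ⟨y, hy⟩ := rfl
    have e2 : (⟨conj (x + y), conj_mem_rootField (add_mem hx hy)⟩ : rootField N) =
        ⟨conj x, conj_mem_rootField hx⟩ + ⟨conj y, conj_mem_rootField hy⟩ :=
      Subtype.ext (map_add _ x y)
    rw [e1, e2, map_add, map_add, ihx, ihy, map_add]
  | inv x hx ihx =>
    have e1 : (⟨x⁻¹, inv_mem hx⟩ : rootField N) = (⟨x, hx⟩ : rootField N)⁻¹ := rfl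
    have e2 : (⟨conj x⁻¹, conj_mem_rootField (inv_mem hx)⟩ : rootField N) =
        (⟨conj x, conj_mem_rootField hx⟩ : rootField N)⁻¹ :=
      Subtype.ext (map_inv₀ (starRingEnd ℂ) x)
    rw [e1, e2, map_inv₀, map_inv₀, ihx, map_inv₀]
  | mul x y hx hy ihx ihy =>
    have e1 : (⟨x * y, mul_mem hx hy⟩ : rootField N) = ⟨x, hx⟩ * ⟨y, hy⟩ := rfl
    have e2 : (⟨conj (x * y), conj_mem_rootField (mul_mem hx hy)⟩ : rootField N) =
        ⟨conj x, conj_mem_rootField hx⟩ * ⟨conj y, conj_mem_rootField hy⟩ :=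
      Subtype.ext (map_mul _ x y)
    rw [e1, e2, map_mul, map_mul, ihx, ihy, map_mul]

/-- The arithmetic-geometric mean inequality over all conjugates. -/
theorem card_le_sum_of_totallyPositive {ι : Type*} [Fintype ι] {N : ℕ} (hN : 0 < N)
    (b : ι → rootField N) (hint : ∀ i, IsIntegral ℤ ((b i : ℂ))) (hne : ∀ i, b i ≠ 0)
    (hpos : ∀ (σ : rootField N →ₐ[ℚ] ℂ) i, ∃ r : ℝ, 0 ≤ r ∧ σ (b i) = (r : ℂ))
    (q : ℚ) (hsum : ∑ i, (b i : ℂ) = (q : ℂ)) : (Fintype.card ι : ℝ) ≤ (q : ℝ) := by
  classical
  haveI := finiteDimensional_rootField hN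
  let E := rootField N →ₐ[ℚ] ℂ
  haveI : Nonempty E := ⟨(rootField N).val⟩
  choose r hr0 hr using hpos
  have hone : ∀ i, (Fintype.card E : ℝ) ≤ ∑ σ : E, r σ i := by
    intro i
    have hnorm := Algebra.norm_eq_prod_embeddings ℚ ℂ (b i)
    have hi' : IsIntegral ℤ (b i) :=
      (isIntegral_algebraMap_iff (algebraMap (rootField N) ℂ).injective).1 (hint i)
    obtain ⟨m, hm⟩ := IsIntegrallyClosed.isIntegral_iff.1 (Algebra.isIntegral_norm ℚ hi')
    have hm' : ((m : ℤ) : ℂ) = ((∏ σ : E, r σ i : ℝ) : ℂ) := by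
      rw [Complex.ofReal_prod]
      simp only [← hr]
      rw [← hnorm, ← hm]
      simp
    have hm'' : ((m : ℤ) : ℝ) = ∏ σ : E, r σ i := by exact_mod_cast hm'
    have hpne : ∀ σ : E, 0 < r σ i := fun σ => lt_of_le_of_ne (hr0 σ i) fun h0 => by
      have := hr σ i
      rw [← h0, Complex.ofReal_zero, map_eq_zero_iff σ σ.toRingHom.injective] at this
      exact hne i this
    have hp1 : (1 : ℝ) ≤ ∏ σ : E, r σ i := by
      have h0 : (0 : ℝ) < ∏ σ : E, r σ i := Finset.prod_pos fun σ _ => hpne σ
      rw [← hm''] at h0 ⊢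
      have h1 : 0 < m := by exact_mod_cast h0
      exact_mod_cast h1
    have hc : (0 : ℝ) < Fintype.card E := Nat.cast_pos.2 Fintype.card_pos
    have hgm := Real.geom_mean_le_arith_mean (Finset.univ : Finset E) (fun _ => (1 : ℝ))
      (fun σ => r σ i) (fun _ _ => zero_le_one) (by simpa using hc) fun σ _ => hr0 σ i
    simp only [Real.rpow_one, one_mul, sum_const, card_univ, nsmul_eq_mul, mul_one] at hgm
    have h2 : (1 : ℝ) ≤ (∏ σ : E, r σ i) ^ ((Fintype.card E : ℝ)⁻¹) :=
      Real.one_le_rpow hp1 (inv_nonneg.2 hc.le)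
    have h3 := h2.trans hgm
    rwa [le_div_iff₀ hc, one_mul] at h3
  have hq : ∀ σ : E, ∑ i, r σ i = (q : ℝ) := by
    intro σ
    have h1 : ∑ i, b i = algebraMap ℚ (rootField N) q := Subtype.ext (by simp [hsum])
    have h2 := congrArg σ h1
    rw [map_sum, AlgHom.commutes] at h2
    simp only [hr] at h2
    rw [← Complex.ofReal_sum] at h2
    have h3 : ((∑ i, r σ i : ℝ) : ℂ) = ((q : ℝ) : ℂ) := by rw [h2]; simp
    exact_mod_cast h3
  have key : (Fintype.card ι : ℝ) * Fintype.card E ≤ (q : ℝ) * Fintype.card E := by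
    calc (Fintype.card ι : ℝ) * Fintype.card E = ∑ _i : ι, (Fintype.card E : ℝ) := by simp
      _ ≤ ∑ i, ∑ σ : E, r σ i := Finset.sum_le_sum fun i _ => hone i
      _ = ∑ σ : E, ∑ i, r σ i := Finset.sum_comm
      _ = (q : ℝ) * Fintype.card E := by simp [hq, mul_comm]
  exact le_of_mul_le_mul_right key (Nat.cast_pos.2 Fintype.card_pos)

/-- The number of non-zero terms is at most the (rational) sum of the squared absolute values. -/
theorem card_ne_zero_le_sum_normSq {ι : Type*} (s : Finset ι) {N : ℕ} (hN : 0 < N) (a : ι → ℂ)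
    (hmem : ∀ i ∈ s, a i ∈ rootField N) (hint : ∀ i ∈ s, IsIntegral ℤ (a i))
    (q : ℚ) (hsum : ∑ i ∈ s, a i * conj (a i) = (q : ℂ)) :
    ((s.filter fun i => a i ≠ 0).card : ℝ) ≤ (q : ℝ) := by
  classical
  set t := s.filter fun i => a i ≠ 0 with ht
  have hts : ∀ i : t, (i : ι) ∈ s := fun i => (Finset.mem_filter.1 i.2).1
  let b : t → rootField N := fun i =>
    ⟨a i * conj (a i), mul_mem (hmem i (hts i)) (conj_mem_rootField (hmem i (hts i)))⟩
  have h := card_le_sum_of_totallyPositive hN b (fun i => (hint i (hts i)).mul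
    ((hint i (hts i)).map ((starRingEnd ℂ).toIntAlgHom))) (fun i h0 => ?_) (fun σ i => ?_) q ?_
  · simpa using h
  · have : a i * conj (a i) = 0 := congrArg Subtype.val h0
    rw [Complex.mul_conj, Complex.ofReal_eq_zero, Complex.normSq_eq_zero] at this
    exact (Finset.mem_filter.1 i.2).2 this
  · refine ⟨Complex.normSq (σ ⟨a i, hmem i (hts i)⟩), Complex.normSq_nonneg _, ?_⟩
    rw [← Complex.mul_conj, ← map_conj_rootField hN σ (hmem i (hts i)), ← map_mul]
    rfl
  · rw [← hsum, ← Finset.sum_subset (Finset.filter_subset (fun i => a i ≠ 0) s)]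
    · exact Finset.sum_coe_sort t (fun i => a i * conj (a i))
    · intro i hi hn
      have : a i = 0 := by
        by_contra h0
        exact hn (Finset.mem_filter.2 ⟨hi, h0⟩)
      simp [this]

variable {V : Type*} [AddCommGroup V] [Module ℂ V] [FiniteDimensional ℂ V]

theorem roots_pow_eq_one_of_pow {f : Module.End ℂ V} {N : ℕ} (hf : f ^ N = 1) {μ : ℂ}
    (hμ : μ ∈ (LinearMap.charpoly f).roots) : μ ^ N = 1 := by
  have h0 : Module.End.HasEigenvalue f μ := by
    rw [Module.End.hasEigenvalue_iff_isRoot_charpoly]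
    exact (Polynomial.mem_roots (LinearMap.charpoly_monic _).ne_zero).1 hμ
  obtain ⟨v, hv⟩ := h0.exists_hasEigenvector
  have h := hv.pow_apply N
  rw [hf, Module.End.one_apply] at h
  by_contra hne
  have h2 : (μ ^ N - 1) • v = 0 := by rw [sub_smul, one_smul, ← h, sub_self]
  rcases smul_eq_zero.1 h2 with h3 | h3
  · exact hne (sub_eq_zero.1 h3)
  · exact hv.2 h3

theorem trace_eq_roots_sum (f : Module.End ℂ V) :
    LinearMap.trace ℂ V f = (LinearMap.charpoly f).roots.sum := by
  classical
  let b := Module.Free.chooseBasis ℂ V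
  rw [← LinearMap.charpoly_toMatrix f b]
  exact (LinearMap.trace_eq_matrix_trace ℂ b f).trans (Matrix.trace_eq_sum_roots_charpoly _)

theorem trace_isIntegral_of_pow {f : Module.End ℂ V} {N : ℕ} (hN : 0 < N) (hf : f ^ N = 1) :
    IsIntegral ℤ (LinearMap.trace ℂ V f) := by
  rw [trace_eq_roots_sum]
  exact IsIntegral.multiset_sum fun μ hμ =>
    IsIntegral.of_pow hN (by rw [roots_pow_eq_one_of_pow hf hμ]; exact isIntegral_one)

theorem trace_mem_rootField_of_pow {f : Module.End ℂ V} {N : ℕ} (hf : f ^ N = 1) :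
    LinearMap.trace ℂ V f ∈ rootField N := by
  rw [trace_eq_roots_sum]
  exact multiset_sum_mem _ fun μ hμ => mem_rootField_of_pow_eq_one (roots_pow_eq_one_of_pow hf hμ)

variable {G : Type*} [Group G] [Finite G]

theorem char_mem_rootField {χ : G → ℂ} (h : Cfsg.IsCharacter G χ) (g : G) :
    χ g ∈ rootField (Nat.card G) := by
  obtain ⟨n, ρ, rfl⟩ := h
  exact trace_mem_rootField_of_pow (by rw [← map_pow, pow_card_eq_one', map_one])

theorem char_isIntegral {χ : G → ℂ} (h : Cfsg.IsCharacter G χ) (g : G) : IsIntegral ℤ (χ g) := by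
  obtain ⟨n, ρ, rfl⟩ := h
  exact CfsgLib.CharScalar.isIntegral_character ρ g

/-- Averages of character values over cosets are traces of finite-order endomorphisms. -/
theorem avg_spec {χ : G → ℂ} (h : Cfsg.IsCharacter G χ) (D : Subgroup G) [Fintype D] (x : G)
    (hx : x ∈ Subgroup.normalizer (D : Set G)) :
    IsIntegral ℤ ((Nat.card D : ℂ)⁻¹ * ∑ d : D, χ (x * d)) ∧
      (Nat.card D : ℂ)⁻¹ * ∑ d : D, χ (x * d) ∈ rootField (Nat.card G) := by
  obtain ⟨n, ρ, rfl⟩ := h
  haveI : Invertible (Fintype.card D : ℂ) := invertibleOfNonzero (Nat.cast_ne_zero.2 Fintype.card_ne_zero)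
  let σ : Representation ℂ D (Fin n → ℂ) := ρ.comp D.subtype
  let W := Representation.invariants σ
  let P := Representation.averageMap σ
  have hW : ∀ v ∈ W, ρ x v ∈ W := by
    intro v hv d
    show ρ (d : G) (ρ x v) = ρ x v
    have hd : x⁻¹ * d * x ∈ D := by
      have := (Subgroup.mem_normalizer_iff.1 (inv_mem hx) (d : G)).1 d.2
      simpa using this
    have h1 : ρ (x⁻¹ * d * x) v = v := hv ⟨_, hd⟩
    calc ρ (d : G) (ρ x v) = ρ x (ρ (x⁻¹ * d * x) v) := by
          rw [← Module.End.mul_apply, ← map_mul, ← Module.End.mul_apply, ← map_mul]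
          congr 2; group
      _ = ρ x v := by rw [h1]
  have hmem : ∀ v, (ρ x * P) v ∈ W := fun v => hW _ (Representation.averageMap_invariant σ v)
  have htr : (Nat.card D : ℂ)⁻¹ * ∑ d : D, ρ.character (x * d) =
      LinearMap.trace ℂ (Fin n → ℂ) (ρ x * P) := by
    have hP : P = (Fintype.card D : ℂ)⁻¹ • ∑ d : D, ρ (d : G) := by
      ext v
      simp [P, Representation.averageMap, GroupAlgebra.average, σ, map_sum,
        Representation.asAlgebraHom_single, invOf_eq_inv]
    rw [hP, mul_smul_comm, map_smul, smul_eq_mul, Nat.card_eq_fintype_card, Finset.mul_sum, Finset.mul_sum Finset.univ (fun d : D => ρ (d : G)) (ρ x), map_sum, Finset.mul_sum]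
    simp [Representation.character, map_mul]
  have htres : LinearMap.trace ℂ (Fin n → ℂ) (ρ x * P) =
      LinearMap.trace ℂ W ((ρ x * P).restrict (p := W) (q := W) fun v _ => hmem v) := by
    have e1 : ρ x * P = W.subtype ∘ₗ (ρ x * P).codRestrict W hmem := LinearMap.ext fun _ => rfl
    conv_lhs => rw [e1, LinearMap.trace_comp_comm']
    rfl
  rw [htr, htres]
  set f := (ρ x * P).restrict (p := W) (q := W) (fun v _ => hmem v) with hf
  have hfapp : ∀ v : W, ((f v : W) : Fin n → ℂ) = ρ x (v : Fin n → ℂ) := fun v => by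
    show ρ x (P v) = _
    rw [Representation.averageMap_id σ _ v.2]
  have hfp : ∀ (k : ℕ) (v : W), (((f ^ k) v : W) : Fin n → ℂ) = ρ (x ^ k) (v : Fin n → ℂ) := by
    intro k
    induction k with
    | zero => intro v; simp
    | succ k ih =>
      intro v
      rw [pow_succ, Module.End.mul_apply, ih, hfapp, pow_succ, map_mul, Module.End.mul_apply]
  have hfN : f ^ Nat.card G = 1 := LinearMap.ext fun v => Subtype.ext (by simp [hfp])
  exact ⟨trace_isIntegral_of_pow Nat.card_pos hfN, trace_mem_rootField_of_pow hfN⟩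

/-- The squared norm of a character over a subgroup is a natural multiple of its order. -/
theorem sum_norm_subgroup {χ : G → ℂ} (h : Cfsg.IsCharacter G χ) (D : Subgroup G) [Fintype D] :
    ∃ m : ℕ, ∑ d : D, χ d * conj (χ d) = (Nat.card D : ℂ) * m := by
  have hres : Cfsg.IsCharacter D (fun d : D => χ d) := by
    obtain ⟨n, ρ, rfl⟩ := h
    exact ⟨n, ρ.comp D.subtype, rfl⟩
  obtain ⟨m, hm⟩ := CfsgLib.Characters.classInner_char_nat hres hres
  refine ⟨m, ?_⟩
  rw [← hm, Cfsg.classInner, ← mul_assoc, mul_inv_cancel₀ (by simp), one_mul]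

end CfsgLib.KGV
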