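import Cfsg.Prelude.Def_Blocks
import Cfsg.Agent.Lib.Characters.Clifford
import Cfsg.Agent.Lib.Characters.Values
import Cfsg.Agent.Lib.Characters.Scalar
import Cfsg.Agent.Lib.Blocks.LocalRing
import Cfsg.Agent.Lib.KGV.CharTools

/-!
# Degrees over an abelian normal subgroup; values at p-elements
-/

set_option autoImplicit false

noncomputable section

namespace CfsgLib.KGV

open Cfsg CfsgLib.Characters CfsgLib.Blocks

universe u

variable {G : Type u} [Group G] [Finite G]

/-- **Itô**: the degree divides the index of an abelian normal subgroup. -/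
theorem irrDegree_dvd_abelian_index (V : Subgroup G) (hV : V.Normal)
    (hab : ∀ a ∈ V, ∀ b ∈ V, a * b = b * a) (χ : IrrCharacter G) (d : ℕ)
    (hd : (χ : G → ℂ) 1 = d) : d ∣ V.index := by
  classical
  haveI : Fintype G := Fintype.ofFinite G
  have hres := CfsgLib.Clifford.isCharacter_subtype (irr_isCharacter χ) V
  have h0 : (fun n : V => (χ : G → ℂ) n) ≠ 0 := fun h => irr_one_ne_zero χ (congrFun h 1)
  obtain ⟨θ, hθ⟩ := CfsgLib.Clifford.exists_constituent hres h0
  obtain ⟨T, hT⟩ : ∃ T : Subgroup G, T = CfsgLib.Clifford.inertia hV (θ : V → ℂ) := ⟨_, rfl⟩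
  have hVT : V ≤ T := hT ▸ CfsgLib.Clifford.le_inertia hV (irr_isClassFunction θ)
  obtain ⟨ψ, hψ, hind, hmult⟩ := CfsgLib.Clifford.correspondence hV θ.2 T hT hVT χ.2 hθ
  obtain ⟨e, he⟩ := classInner_char_nat hres (irr_isCharacter θ)
  obtain ⟨dθ, hdθ0, hdθ⟩ := irr_exists_degree θ.2
  obtain ⟨dψ, hdψ0, hdψ⟩ := irr_exists_degree hψ
  have hdeg := CfsgLib.Clifford.clifford_degree hV χ.2 θ.2 hθ
  have h1 : (χ : G → ℂ) 1 = (T.index : ℂ) * ψ 1 := by
    rw [← hind, CfsgLib.Induction.indFun_one_apply]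
  have hψ1 : dψ = e * dθ := by
    rw [← hT, h1, he, hdθ, hdψ] at hdeg
    have h' : T.index * dψ = T.index * (e * dθ) := by
      have : ((T.index * dψ : ℕ) : ℂ) = ((T.index * (e * dθ) : ℕ) : ℂ) := by
        push_cast; linear_combination hdeg
      exact_mod_cast this
    exact Nat.eq_of_mul_eq_mul_left (Nat.pos_of_ne_zero Subgroup.index_ne_zero_of_finite) h'
  -- the restriction of `ψ` to `V` is `e • θ`
  let ι : V →* T := Subgroup.inclusion hVT
  have hψV := CfsgLib.Clifford.isCharacter_pullback (isCharacter_of_irr hψ) ι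
  obtain ⟨m, hm, hsum⟩ := CfsgLib.Clifford.exists_mult hψV
  choose deg hdeg0 hdeg' using fun ξ : IrrCharacter V => irr_exists_degree ξ.2
  have hmθ : m θ = e := by
    have h2 := hm θ
    have h3 : classInner (fun n : V => ψ (ι n)) (θ : V → ℂ) = (e : ℂ) := hmult.trans he
    rw [h3] at h2
    exact_mod_cast h2.symm
  have hsumdeg : ∑ ξ : IrrCharacter V, m ξ * deg ξ = dψ := by
    have h4 := congrFun hsum 1
    rw [map_one, hdψ] at h4
    simp only [Finset.sum_apply, Pi.smul_apply, smul_eq_mul, hdeg'] at h4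
    exact_mod_cast h4.symm
  have hzero : ∀ ξ, ξ ≠ θ → m ξ = 0 := by
    intro ξ hξ
    have hle : m θ * deg θ + m ξ * deg ξ ≤ ∑ η : IrrCharacter V, m η * deg η := by
      rw [← Finset.sum_pair (f := fun η => m η * deg η) (Ne.symm hξ)]
      exact Finset.sum_le_sum_of_subset (Finset.subset_univ _)
    have hdd : deg θ = dθ := by
      have := (hdeg' θ).symm.trans hdθ
      exact_mod_cast this
    rw [hsumdeg, hψ1, hmθ, hdd] at hle
    have : m ξ * deg ξ = 0 := by omega
    exact (mul_eq_zero.1 this).resolve_right (hdeg0 ξ).ne'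
  have hψeq : ∀ n : V, ψ (ι n) = (e : ℂ) * (θ : V → ℂ) n := by
    intro n
    have h4 := congrFun hsum n
    simp only [Finset.sum_apply, Pi.smul_apply, smul_eq_mul] at h4
    rw [h4, Finset.sum_eq_single θ (fun ξ _ hξ => by rw [hzero ξ hξ, Nat.cast_zero, zero_mul])
      (fun h => absurd (Finset.mem_univ _) h), hmθ]
  -- `|θ|` is constant on the abelian group `V`
  have hθnorm : ∀ n : V, ‖(θ : V → ℂ) n‖ = (dθ : ℝ) := by
    intro n
    obtain ⟨k, σ, hσ, hσe⟩ := θ.2
    haveI := hσ
    have hk : k = dθ := by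
      have h5 := congrFun hσe 1
      rw [Representation.char_one, hdθ, Module.finrank_fin_fun] at h5
      exact_mod_cast h5
    obtain ⟨c, hc⟩ := CfsgLib.CharScalar.center_scalar σ (z := n)
      (Subgroup.mem_center_iff.2 fun a => Subtype.ext (hab a a.2 n n.2))
    have := (norm_char_eq_iff_scalar σ n).2 ⟨c, hc⟩
    rw [hσe, Module.finrank_fin_fun, hk] at this
    exact this
  obtain ⟨k, σ, hσ, hσe⟩ := hψ
  haveI := hσ
  have hk : k = dψ := by
    have h5 := congrFun hσe 1
    rw [Representation.char_one, hdψ, Module.finrank_fin_fun] at h5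
    exact_mod_cast h5
  have hscal : ∀ z ∈ V.subgroupOf T, ∃ c : ℂ, σ z = c • (1 : Module.End ℂ (Fin k → ℂ)) := by
    intro z hz
    refine (norm_char_eq_iff_scalar σ z).1 ?_
    rw [hσe, Module.finrank_fin_fun, hk, hψ1]
    have := hψeq ⟨(z : G), hz⟩
    rw [show ι ⟨(z : G), hz⟩ = z from Subtype.ext rfl] at this
    rw [this, norm_mul, hθnorm, Complex.norm_natCast]
    push_cast; ring
  haveI : (V.subgroupOf T).Normal := hV.subgroupOf T
  have hdvd := CfsgLib.CharScalar.finrank_dvd_index σ (V.subgroupOf T) hscal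
  rw [Module.finrank_fin_fun, hk] at hdvd
  have hd' : d = T.index * dψ := by
    rw [hd, hdψ] at h1
    exact_mod_cast h1
  rw [hd', ← Subgroup.relIndex_mul_index hVT, mul_comm (V.relIndex T)]
  exact mul_dvd_mul_left _ hdvd

/-- A modular maximal ideal exists for every prime. -/
theorem exists_isPModular (p : ℕ) (hp : p.Prime) : ∃ M : Ideal AlgInt, IsPModular p M := by
  have hne : Ideal.span {(p : AlgInt)} ≠ ⊤ := by
    rw [Ne, Ideal.span_singleton_eq_top]
    intro h
    obtain ⟨u, hu⟩ := h.exists_right_inv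
    have hu' : (p : ℂ) * (u : ℂ) = 1 := by exact_mod_cast congrArg (fun x : AlgInt => (x : ℂ)) hu
    have hpu : (u : ℂ) = ((1 : ℕ) : ℂ) / (p : ℂ) := by
      rw [Nat.cast_one, eq_div_iff (Nat.cast_ne_zero.2 hp.ne_zero), mul_comm, hu']
    have hint : IsIntegral ℤ (((1 : ℕ) : ℂ) / (p : ℂ)) := hpu ▸ u.2
    exact hp.ne_one (Nat.dvd_one.1 (CfsgLib.CharScalar.dvd_of_isIntegral_div hp.ne_zero hint))
  obtain ⟨M, hM, hle⟩ := Ideal.exists_le_maximal _ hne
  exact ⟨M, hp, hM, hle (Ideal.subset_span rfl)⟩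

/-- A character is congruent to its degree at a `p`-element. -/
theorem char_sub_one_mem {p : ℕ} {M : Ideal AlgInt} (hM : IsPModular p M) {χ : G → ℂ}
    (h : IsCharacter G χ) {x : G} {k : ℕ} (hx : x ^ p ^ k = 1) :
    MemLocalIdeal M (χ x - χ 1) := by
  classical
  obtain ⟨n, ρ, rfl⟩ := h
  have hroots : ∀ μ ∈ (LinearMap.charpoly (ρ x)).roots, μ ^ p ^ k = 1 := fun μ hμ =>
    roots_pow_eq_one_of_pow (by rw [← map_pow, hx, map_one]) hμ
  have hcard : Multiset.card (LinearMap.charpoly (ρ x)).roots = n := by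
    rw [← IsAlgClosed.splits (LinearMap.charpoly (ρ x)) |>.natDegree_eq_card_roots,
      LinearMap.charpoly_natDegree, Module.finrank_fin_fun]
  have hone : ∀ μ : ℂ, μ ^ p ^ k = 1 → MemLocalIdeal M (μ - 1) := by
    intro μ hμ
    have hint : IsIntegral ℤ μ := IsIntegral.of_pow (pow_pos hM.1.pos k) (by rw [hμ]; exact isIntegral_one)
    let z : lRing hM := ⟨μ, isIntegral_mem_lRing hM hint⟩
    rw [← show lRes hM z = lRes hM 1 ↔ MemLocalIdeal M (μ - 1) from lRes_eq_iff hM z 1]
    haveI := charP_residue hM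
    haveI := IsPModular.isMaximal hM
    letI := Ideal.Quotient.field M
    haveI : Fact p.Prime := ⟨hM.1⟩
    apply sub_eq_zero.1
    have h2 : (lRes hM z - lRes hM 1) ^ p ^ k = 0 := by
      rw [sub_pow_char_pow, ← map_pow, ← map_pow, show z ^ p ^ k = 1 from Subtype.ext hμ, one_pow,
        sub_self]
    exact pow_eq_zero_iff (pow_pos hM.1.pos k).ne' |>.1 h2
  rw [Representation.char_one, Module.finrank_fin_fun, show (n : ℂ) = (Multiset.card (LinearMap.charpoly (ρ x)).roots : ℂ) by rw [hcard]]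
  show MemLocalIdeal M (LinearMap.trace ℂ _ (ρ x) - _)
  rw [trace_eq_roots_sum]
  generalize (LinearMap.charpoly (ρ x)).roots = s at hroots
  induction s using Multiset.induction_on with
  | empty => simpa using memLocalIdeal_zero hM
  | cons a s ih =>
    rw [Multiset.sum_cons, Multiset.card_cons, Nat.cast_add, Nat.cast_one,
      show a + s.sum - ((Multiset.card s : ℂ) + 1) = (a - 1) + (s.sum - (Multiset.card s : ℂ)) by ring]
    exact MemLocalIdeal.add hM (hone a (hroots a (Multiset.mem_cons_self _ _)))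
      (ih fun μ hμ => hroots μ (Multiset.mem_cons_of_mem hμ))

/-- A character of degree prime to `p` vanishes at no `p`-element. -/
theorem char_pElement_ne_zero {p : ℕ} (hp : p.Prime) {χ : G → ℂ} (h : IsCharacter G χ) {d : ℕ}
    (hd : χ 1 = d) (hpd : ¬ p ∣ d) {x : G} {k : ℕ} (hx : x ^ p ^ k = 1) : χ x ≠ 0 := by
  obtain ⟨M, hM⟩ := exists_isPModular p hp
  intro h0
  have h1 := MemLocalIdeal.neg hM (char_sub_one_mem hM h hx)
  rw [h0, zero_sub, neg_neg, hd, memLocalIdeal_natCast_iff hM] at h1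
  exact hpd h1

end CfsgLib.KGV
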