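import Cfsg.Agent.Lib.Blocks.Reduced
import Cfsg.Agent.Lib.Blocks.WeakOrth
import Cfsg.Agent.Lib.Blocks.PairsAlgebra
import Cfsg.Agent.Lib.Chars17.IrrBasic
import Mathlib.RingTheory.Ideal.Quotient.Basic

/-!
# Blocks and a normal `p`-subgroup
-/

set_option autoImplicit false
set_option linter.style.haveILetI false

noncomputable section

namespace CfsgLib.KGV

open Cfsg MonoidAlgebra CfsgLib.Characters CfsgLib.Blocks
open scoped ComplexConjugate

variable {G : Type*} [Group G] [Fintype G] {p : ℕ} [Fact p.Prime] {M : Ideal AlgInt}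

/-- Central characters vanish modulo `M` at elements outside the centralizer of a normal
`p`-subgroup. -/
theorem centralChar_mem_ideal_of_notMem_centralizer (hM : IsPModular p M) (P : Subgroup G)
    [P.Normal] (hP : IsPGroup p P) (χ : IrrCharacter G) {g : G}
    (hg : g ∉ Subgroup.centralizer (P : Set G)) :
    MemLocalIdeal M (centralChar (χ : G → ℂ) g) := by
  classical
  haveI := IsPModular.isMaximal hM
  letI := Ideal.Quotient.field M
  haveI := charP_residue hM
  have hpk : (p : AlgInt ⧸ M) = 0 := CharP.cast_eq_zero _ p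
  have hN : Subgroup.normalizer (P : Set G) = ⊤ := Subgroup.normalizer_eq_top_iff.2 inferInstance
  have hout : ∀ x : G, IsConj g x → x ∉ Subgroup.centralizer (P : Set G) := by
    intro x hx hxC
    obtain ⟨c, rfl⟩ := isConj_iff.1 hx
    apply hg
    rw [Subgroup.mem_centralizer_iff] at hxC ⊢
    intro u hu
    have h2 := hxC (c * u * c⁻¹) (Subgroup.Normal.conj_mem inferInstance u hu c)
    calc u * g = c⁻¹ * (c * u * c⁻¹ * (c * g * c⁻¹)) * c := by group
      _ = c⁻¹ * (c * g * c⁻¹ * (c * u * c⁻¹)) * c := by rw [h2]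
      _ = g * u := by group
  have hnil : IsNilpotent (CfsgLib.Blocks.classSum (AlgInt ⧸ M) g) := by
    refine CfsgLib.BlockAlg.isNilpotent_of_br_eq_zero hpk hP ?_ ?_ ?_
    · intro x hx; exact absurd (hN ▸ Subgroup.mem_top x) hx
    · intro u _ x
      exact (mem_center_iff_coeff _).1 (CfsgLib.Blocks.classSum_mem_center g) x u
    · ext x
      by_cases hx : x ∈ Subgroup.centralizer (P : Set G)
      · rw [CfsgLib.BlockAlg.coeff_br_of_mem hx, CfsgLib.Blocks.coeff_classSum,
          if_neg fun h => hout x h hx]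
        simp
      · simp [CfsgLib.BlockAlg.coeff_br, hx]
  obtain ⟨n, hn⟩ := hnil
  rw [← lResD_eq_zero_iff hM (centralChar_mem_lRing hM χ g), ← lamB_classSum hM χ g]
  have : IsNilpotent (⟨CfsgLib.Blocks.classSum (AlgInt ⧸ M) g, CfsgLib.Blocks.classSum_mem_center g⟩ :
      Subalgebra.center (AlgInt ⧸ M) (MonoidAlgebra (AlgInt ⧸ M) G)) :=
    ⟨n, Subtype.ext (by simpa using hn)⟩
  exact (this.map (lamB hM χ)).eq_zero

/-- Every block contains a character with a given normal `p`-subgroup in its kernel. -/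
theorem exists_mem_block_le_irrKer (hM : IsPModular p M) (P : Subgroup G) [P.Normal]
    (hP : IsPGroup p P) {B : Set (IrrCharacter G)} (hB : IsPBlock M B) :
    ∃ θ ∈ B, P ≤ CfsgLib.Chars17.irrKer θ := by
  classical
  haveI := IsPModular.isMaximal hM
  letI := Ideal.Quotient.field M
  haveI := charP_residue hM
  have hpk : (p : AlgInt ⧸ M) = 0 := CharP.cast_eq_zero _ p
  by_contra! hcon
  set x := blockIdemRes hM B with hx
  -- the coefficient sums over the cosets of `P` vanish
  have hcoset : ∀ g : G, ∑ d : P, x.coeff (g * d) = 0 := by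
    intro g
    have h0 : ∑ d : P, blockCoeff B (g * d) = 0 := by
      simp only [blockCoeff_eq_sum, ← Finset.mul_sum]
      rw [Finset.sum_comm, Finset.sum_eq_zero, mul_zero]
      intro χ hχ
      rw [← Finset.mul_sum, ← map_sum,
        CfsgLib.Chars17.sum_coset_eq_zero (hcon χ (Finset.mem_filter.1 hχ).2) g, map_zero, mul_zero]
    simp only [hx, coeff_blockIdemRes]
    rw [← lResD_sum hM _ fun d _ => memLocalRing_blockCoeff hM hB _, h0, lResD_zero]
  have step : ∀ n, ∀ v ∈ CfsgLib.BlockAlg.unipSub (AlgInt ⧸ M) P (n + 1),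
      x * v ∈ CfsgLib.BlockAlg.unipSub (AlgInt ⧸ M) P n := by
    intro n v hv
    set W := CfsgLib.BlockAlg.unipSub (AlgInt ⧸ M) P n
    rw [← Submodule.Quotient.mk_eq_zero W]
    have hx' : x * v = ∑ g, x.coeff g • (single g (1 : AlgInt ⧸ M) * v) := by
      conv_lhs => rw [← sum_coeff_single x]
      rw [Finsupp.sum_fintype _ _ (by simp), Finset.sum_mul]
      refine Finset.sum_congr rfl fun g _ => ?_
      rw [← smul_mul_assoc]
      simp
    have hconst : ∀ (g : G) (d : P), W.mkQ (single (g * d) (1 : AlgInt ⧸ M) * v) =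
        W.mkQ (single g (1 : AlgInt ⧸ M) * v) := by
      intro g d
      rw [Submodule.mkQ_apply, Submodule.mkQ_apply, Submodule.Quotient.eq]
      have := CfsgLib.BlockAlg.single_mul_mem_unipSub
        (show g ∈ Subgroup.normalizer (P : Set G) by
          rw [Subgroup.normalizer_eq_top_iff.2 inferInstance]; trivial) n
        (CfsgLib.BlockAlg.mem_unipSub_succ.1 hv d)
      rwa [mul_sub, ← mul_assoc, single_mul_single, one_mul] at this
    rw [hx', ← Submodule.mkQ_apply, map_sum,
      ← Finset.sum_fiberwise Finset.univ (fun g : G => (g : G ⧸ P))]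
    refine Finset.sum_eq_zero fun q _ => ?_
    obtain ⟨g₀, rfl⟩ := QuotientGroup.mk_surjective q
    have hfib : ∑ g ∈ Finset.univ.filter (fun g : G => (g : G ⧸ P) = (g₀ : G ⧸ P)),
        W.mkQ (x.coeff g • (single g (1 : AlgInt ⧸ M) * v)) =
        ∑ d : P, W.mkQ (x.coeff (g₀ * d) • (single (g₀ * d) (1 : AlgInt ⧸ M) * v)) := by
      refine (Finset.sum_bij (fun (d : P) _ => g₀ * (d : G)) ?_ ?_ ?_ fun _ _ => rfl).symm
      · intro d _
        exact Finset.mem_filter.2 ⟨Finset.mem_univ _, QuotientGroup.mk_mul_of_mem g₀ d.2⟩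
      · intro a _ b _ h; exact Subtype.ext (mul_left_cancel h)
      · intro g hg
        exact ⟨⟨g₀⁻¹ * g, QuotientGroup.eq.1 (Finset.mem_filter.1 hg).2.symm⟩, Finset.mem_univ _,
          mul_inv_cancel_left g₀ g⟩
    rw [hfib]
    simp only [map_smul, hconst, ← Finset.sum_smul, hcoset, zero_smul]
  obtain ⟨n, hn⟩ := CfsgLib.BlockAlg.exists_unipSub_top (k := AlgInt ⧸ M) hpk hP
  have hall : ∀ m, ∀ v ∈ CfsgLib.BlockAlg.unipSub (AlgInt ⧸ M) P m, x ^ m * v = 0 := by
    intro m
    induction m with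
    | zero => intro v hv; simpa [CfsgLib.BlockAlg.unipSub] using hv
    | succ m ih => intro v hv; rw [pow_succ, mul_assoc]; exact ih _ (step m v hv)
  have hx0 : x = 0 := by
    have h1 := hall n 1 (hn ▸ Submodule.mem_top)
    rw [mul_one] at h1
    exact (isIdempotentElem_blockIdemRes hM hB).eq_zero_of_isNilpotent ⟨n, h1⟩
  obtain ⟨θ, hθ⟩ := IsPBlock.nonempty hM hB
  have h2 := lamB_blockIdemRes hM hB θ
  rw [if_pos hθ, show (⟨blockIdemRes hM B, blockIdemRes_mem_center hM B⟩ :
    Subalgebra.center (AlgInt ⧸ M) (MonoidAlgebra (AlgInt ⧸ M) G)) = 0 from Subtype.ext hx0,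
    map_zero] at h2
  exact zero_ne_one h2

end CfsgLib.KGV
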