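import Cfsg.Agent.Lib.KGV.Knorr
import Mathlib.NumberTheory.GaussSum
import Mathlib.NumberTheory.LegendreSymbol.Complex
import Mathlib.NumberTheory.MulChar.Duality
import Mathlib.Algebra.Ring.Subring.Basic
import Mathlib.GroupTheory.QuotientGroup.Finite
import Mathlib.RingTheory.RootsOfUnity.AlgebraicallyClosed

/-!
# The Gauss-sum witness for an abelian group acting coprimely on an abelian `p`-group
-/

set_option autoImplicit false

noncomputable section

namespace CfsgLib.KGV

open Cfsg CfsgLib.Characters CfsgLib.Blocks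
open scoped ComplexConjugate

theorem cycVirt_mono {C : Type*} [Group C] {M N : ℕ} (h : M ∣ N) : CycVirt C M ≤ CycVirt C N := by
  refine Subring.closure_le.2 ?_
  rintro f (⟨c, hc, rfl⟩ | hf)
  · exact const_mem_cycVirt (hc.mono h)
  · exact char_mem_cycVirt hf

theorem isIntegral_cycVirt {C : Type*} [Group C] [Finite C] {N : ℕ} {f : C → ℂ}
    (hf : f ∈ CycVirt C N) (y : C) : IsIntegral ℤ (f y) := by
  induction hf using Subring.closure_induction with
  | mem f hf =>
    rcases hf with ⟨c, hc, rfl⟩ | hf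
    · exact hc.1
    · exact char_isIntegral hf y
  | zero => exact isIntegral_zero
  | one => exact isIntegral_one
  | add f g _ _ hf hg => exact hf.add hg
  | neg f _ hf => exact hf.neg
  | mul f g _ _ hf hg => exact hf.mul hg

section Gauss

variable {F : Type*} [Field F] [Fintype F] {p : ℕ} [Fact p.Prime] [CharP F p]

theorem exists_addChar :
    ∃ ζ : AddChar F ℂ, ζ.IsPrimitive ∧ ∀ x, ζ x ^ p = 1 := by
  refine ⟨AddChar.FiniteField.primitiveChar_to_Complex F,
    AddChar.FiniteField.primitiveChar_to_Complex_isPrimitive F, fun x => ?_⟩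
  rw [← AddChar.map_nsmul_eq_pow, nsmul_eq_mul, CharP.cast_eq_zero, zero_mul,
    AddChar.map_zero_eq_one]

/-- The function `y ↦ -g(η y)` attached to a homomorphism to the dual of `Fˣ`. -/
theorem gauss_witness {M : Ideal AlgInt} (hM : IsPModular p M) {C : Type*} [Group C] [Finite C]
    (η : C →* (Fˣ →* ℂˣ)) :
    ∃ ψ : C → ℂ, ψ ∈ CycVirt C p ∧ (∀ y, η y = 1 → ψ y = 1) ∧
      ∀ y, η y ≠ 1 → MemLocalIdeal M (ψ y) ∧ ψ y * conj (ψ y) = (Fintype.card F : ℂ) := by
  classical
  obtain ⟨ζ, hζ, hζp⟩ := exists_addChar (F := F) (p := p)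
  have hp : 0 < p := (Fact.out : p.Prime).pos
  have hunits : ∀ (g : F → ℂ), g 0 = 0 → ∑ x : F, g x = ∑ u : Fˣ, g u := by
    intro g h0
    rw [← Finset.sum_erase (Finset.univ : Finset F) h0]
    refine Finset.sum_bij (fun x hx => Units.mk0 x (Finset.ne_of_mem_erase hx)) (fun _ _ => Finset.mem_univ _) ?_ ?_ ?_
    · intro a _ b _ h
      exact congrArg Units.val h
    · intro u _
      exact ⟨(u : F), Finset.mem_erase.2 ⟨u.ne_zero, Finset.mem_univ _⟩, Units.ext rfl⟩
    · intro a _; rfl
  let ψ : C → ℂ := -∑ u : Fˣ, (fun _ : C => ζ (u : F)) * fun y => ((η y) u : ℂ)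
  have hψ : ∀ y, ψ y = -∑ u : Fˣ, ((η y) u : ℂ) * ζ (u : F) := by
    intro y
    simp only [ψ, Pi.neg_apply, Finset.sum_apply, Pi.mul_apply]
    rw [Finset.sum_congr rfl fun u _ => mul_comm _ _]
  refine ⟨ψ, ?_, fun y hy => ?_, fun y hy => ?_⟩
  · refine neg_mem (sum_mem fun u _ => mul_mem (const_mem_cycVirt (isCycInt_root hp (hζp _))) ?_)
    let f : C →* ℂˣ :=
      { toFun := fun y => η y u
        map_one' := by simp
        map_mul' := fun a b => by simp }
    exact char_mem_cycVirt (isCharacter_of_irr (isIrrCharacter_of_hom f))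
  · have hne : ζ ≠ 1 := fun h => by
      have h1 := hζ (a := 1) one_ne_zero
      rw [AddChar.mulShift_one] at h1
      exact h1 h
    have h0 := AddChar.sum_eq_zero_of_ne_one hne
    rw [← Finset.add_sum_erase _ _ (Finset.mem_univ (0 : F)), AddChar.map_zero_eq_one] at h0
    have h2 := hunits (fun x => if x = 0 then 0 else ζ x) (by simp)
    have h3 : ∑ x : F, (if x = 0 then 0 else ζ x) = ∑ x ∈ Finset.univ.erase (0 : F), ζ x := by
      rw [← Finset.sum_erase (Finset.univ : Finset F) (a := (0 : F)) (by simp)]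
      exact Finset.sum_congr rfl fun x hx => if_neg (Finset.ne_of_mem_erase hx)
    rw [hψ, hy]
    simp only [MonoidHom.one_apply, Units.val_one, one_mul]
    rw [h3, Finset.sum_congr rfl (fun (u : Fˣ) _ => if_neg u.ne_zero)] at h2
    rw [← h2]
    linear_combination (-1 : ℂ) * h0
  · set χ : MulChar F ℂ := MulChar.ofUnitHom (η y) with hχ
    have hχu : ∀ u : Fˣ, χ (u : F) = ((η y) u : ℂ) := fun u => MulChar.ofUnitHom_coe _ u
    have hχ1 : χ ≠ 1 := by
      intro h
      apply hy
      ext u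
      rw [← hχu u, h, MulChar.one_apply_coe]
      rfl
    have hg : ψ y = -gaussSum χ ζ := by
      rw [hψ, gaussSum, hunits (fun x => χ x * ζ x) (by rw [MulChar.map_zero, zero_mul])]
      simp only [hχu]
    refine ⟨?_, ?_⟩
    · rw [hψ]
      refine MemLocalIdeal.neg hM ?_
      have hz : ∑ u : Fˣ, ((η y) u : ℂ) = 0 := by
        have := MulChar.sum_eq_zero_of_ne_one hχ1
        rw [hunits _ (MulChar.map_zero _)] at this
        simpa only [hχu] using this
      have hsplit : ∑ u : Fˣ, ((η y) u : ℂ) * ζ (u : F) =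
          ∑ u : Fˣ, ((η y) u : ℂ) * (ζ (u : F) - 1) := by
        simp only [mul_sub, mul_one, Finset.sum_sub_distrib, hz, sub_zero]
      rw [hsplit]
      refine MemLocalIdeal.sum hM _ fun u _ => MemLocalIdeal.mul_left hM ?_ ?_
      · refine memLocalRing_of_isIntegral hM (IsIntegral.of_pow (Nat.card_pos (α := Fˣ)) ?_)
        rw [← Units.val_pow_eq_pow_val, ← map_pow, pow_card_eq_one', map_one, Units.val_one]
        exact isIntegral_one
      · have := char_sub_one_mem hM (G := Multiplicative F)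
          (χ := fun z => ((ζ.toMonoidHom z) : ℂ)) (h := ?_) (x := Multiplicative.ofAdd (u : F))
          (k := 1) ?_
        · simpa using this
        · refine isCharacter_of_irr ?_
          exact isIrrCharacter_of_hom ζ.toMonoidHom.toHomUnits
        · rw [pow_one]
          apply Multiplicative.toAdd.injective
          rw [toAdd_pow, toAdd_ofAdd, nsmul_eq_mul, CharP.cast_eq_zero, zero_mul]
          rfl
    · have hn : ∀ z : ℂ, ∀ n : ℕ, 0 < n → z ^ n = 1 → conj z = z⁻¹ := fun z n hn hz =>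
        (Complex.inv_eq_conj (Complex.norm_eq_one_of_pow_eq_one hz hn.ne')).symm
      rw [hg, map_neg, neg_mul_neg, ← gaussSum_mul_gaussSum_eq_card hχ1 hζ]
      congr 1
      rw [gaussSum, gaussSum, map_sum]
      refine Finset.sum_congr rfl fun x _ => ?_
      rw [map_mul, MulChar.inv_apply', AddChar.inv_apply', hn _ p hp (hζp x)]
      congr 1
      by_cases hx : x = 0
      · rw [hx, inv_zero, MulChar.map_zero, map_zero]
      · have hxi : χ x⁻¹ = (χ x)⁻¹ := by
          apply eq_inv_of_mul_eq_one_left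
          rw [← map_mul, inv_mul_cancel₀ hx, map_one]
        rw [hxi]
        refine hn _ (Fintype.card F - 1) (Nat.sub_pos_of_lt Fintype.one_lt_card) ?_
        rw [← map_pow, FiniteField.pow_card_sub_one_eq_one x hx, map_one]

end Gauss

variable {X : Type*} [Group X] [Finite X]

/-- The witness for an abelian `p'`-subgroup `C` acting on an invariant abelian `p`-subgroup. -/
theorem exists_psi_abelian {p : ℕ} [Fact p.Prime] {M : Ideal AlgInt} (hM : IsPModular p M)
    (C : Subgroup X) (hCab : ∀ a ∈ C, ∀ b ∈ C, a * b = b * a) (hpC : ¬ p ∣ Nat.card C)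
    (W : Subgroup X) (hWab : ∀ a ∈ W, ∀ b ∈ W, a * b = b * a) (hWp : IsPGroup p W)
    (hinv : ∀ y ∈ C, ∀ w ∈ W, y * w * y⁻¹ ∈ W) :
    ∃ (N : ℕ) (ψ : C → ℂ) (m : C → ℕ), 0 < N ∧ ψ ∈ CycVirt C N ∧ ψ 1 = 1 ∧
      (∀ y : C, ψ y * conj (ψ y) = (m y : ℂ)) ∧
      (∀ y : C, (∀ w ∈ W, (y : X) * w * (y : X)⁻¹ = w) ∨ MemLocalIdeal M (ψ y)) ∧
      ∀ y : C, m y * Nat.card ↥(W ⊓ Subgroup.centralizer ({(y : X)} : Set X)) ≤ Nat.card W := by
  classical
  induction hn : Nat.card W using Nat.strong_induction_on generalizing W with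
  | _ n ih =>
  by_cases hbot : W = ⊥
  · refine ⟨1, 1, 1, one_pos, one_mem _, rfl, fun y => by simp, fun y => Or.inl ?_, fun y => ?_⟩
    · intro w hw
      rw [hbot, Subgroup.mem_bot] at hw
      rw [hw]; group
    · rw [Pi.one_apply, one_mul, ← hn]
      exact Subgroup.card_le_of_le inf_le_left
  -- a maximal invariant proper subgroup
  obtain ⟨W', hW'⟩ := Set.Finite.exists_maximal
    (s := {A : Subgroup X | A < W ∧ ∀ y ∈ C, ∀ w ∈ A, y * w * y⁻¹ ∈ A}) (Set.toFinite _)
    ⟨⊥, bot_lt_iff_ne_bot.2 hbot, fun y _ w hw => by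
      rw [Subgroup.mem_bot] at hw ⊢; rw [hw]; group⟩
  obtain ⟨⟨hlt, hinv'⟩, hmax⟩ := hW'
  have hle : W' ≤ W := hlt.le
  have hcardlt : Nat.card W' < n := by
    rw [← hn]
    refine lt_of_le_of_ne (Subgroup.card_le_of_le hle) fun h => hlt.ne ?_
    exact Subgroup.eq_of_le_of_card_ge hle h.ge
  obtain ⟨N, ψ₀, m₀, hN, hψ₀, hψ₀1, hm₀, hM₀, hle₀⟩ := ih _ hcardlt W'
    (fun a ha b hb => hWab a (hle ha) b (hle hb))
    (hWp.to_le hle) hinv' rfl
  -- the quotient module
  letI : CommGroup W :=
    { (inferInstance : Group W) with mul_comm := fun a b => Subtype.ext (hWab a a.2 b b.2) }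
  let K' : Subgroup W := W'.subgroupOf W
  let Q := Additive (W ⧸ K')
  let cW : C → (W →* W) := fun y =>
    { toFun := fun w => ⟨(y : X) * w * (y : X)⁻¹, hinv y y.2 w w.2⟩
      map_one' := Subtype.ext (by simp)
      map_mul' := fun a b => Subtype.ext (by simp [mul_assoc]) }
  let cQ : C → (W ⧸ K' →* W ⧸ K') := fun y =>
    QuotientGroup.map K' K' (cW y) fun w hw => hinv' y y.2 w hw
  have hcQ : ∀ (y : C) (w : W), cQ y (QuotientGroup.mk w) = QuotientGroup.mk (cW y w) :=
    fun _ _ => rfl
  let α : C →* AddMonoid.End Q :=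
    { toFun := fun y => (cQ y).toAdditive
      map_one' := by
        refine AddMonoidHom.ext fun q => ?_
        obtain ⟨w, rfl⟩ : ∃ w : W, Additive.ofMul (QuotientGroup.mk w) = q :=
          ⟨q.toMul.out, by simp⟩
        show Additive.ofMul (cQ 1 (QuotientGroup.mk w)) = Additive.ofMul (QuotientGroup.mk w)
        rw [hcQ]
        congr 2
        exact Subtype.ext (by simp [cW])
      map_mul' := fun a b => by
        refine AddMonoidHom.ext fun q => ?_
        obtain ⟨w, rfl⟩ : ∃ w : W, Additive.ofMul (QuotientGroup.mk w) = q :=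
          ⟨q.toMul.out, by simp⟩
        show Additive.ofMul (cQ (a * b) (QuotientGroup.mk w)) =
          Additive.ofMul (cQ a (cQ b (QuotientGroup.mk w)))
        rw [hcQ, hcQ, hcQ]
        congr 2
        exact Subtype.ext (by simp [cW, mul_assoc]) }
  let R := Subring.closure (Set.range α)
  have hRcomm : IsMulCommutative R := Subring.isMulCommutative_closure (by
    rintro _ ⟨a, rfl⟩ _ ⟨b, rfl⟩
    rw [← map_mul, ← map_mul]
    congr 1
    exact Subtype.ext (hCab a a.2 b b.2))
  letI : CommRing R :=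
    { R.toRing with mul_comm := hRcomm.is_comm.comm }
  haveI : Finite (AddMonoid.End Q) := Finite.of_injective (fun f => (f : Q → Q)) DFunLike.coe_injective
  obtain ⟨w₀, hw₀, hw₀'⟩ := SetLike.exists_of_lt hlt
  let q₀ : Q := Additive.ofMul (QuotientGroup.mk (⟨w₀, hw₀⟩ : W))
  have hq₀ : q₀ ≠ 0 := by
    intro h
    exact hw₀' ((QuotientGroup.eq_one_iff (⟨w₀, hw₀⟩ : W)).1 (congrArg Additive.toMul h))
  haveI : Nontrivial R := ⟨⟨1, 0, fun h => hq₀ (DFunLike.congr_fun (congrArg Subtype.val h) q₀)⟩⟩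
  have hinj : ∀ r : R, r ≠ 0 → Function.Injective (r : AddMonoid.End Q) := by
    intro r hr
    -- the preimage of the kernel is invariant
    let A : Subgroup X :=
      { carrier := {x | ∃ hx : x ∈ W, (r : AddMonoid.End Q)
          (Additive.ofMul (QuotientGroup.mk (⟨x, hx⟩ : W))) = 0}
        one_mem' := ⟨one_mem W, map_zero (r : AddMonoid.End Q)⟩
        mul_mem' := by
          rintro a b ⟨ha, ha'⟩ ⟨hb, hb'⟩
          refine ⟨mul_mem ha hb, ?_⟩
          have := map_add (r : AddMonoid.End Q) (Additive.ofMul (QuotientGroup.mk (⟨a, ha⟩ : W)))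
            (Additive.ofMul (QuotientGroup.mk (⟨b, hb⟩ : W)))
          rw [ha', hb', add_zero] at this
          exact this
        inv_mem' := by
          rintro a ⟨ha, ha'⟩
          refine ⟨inv_mem ha, ?_⟩
          have := map_neg (r : AddMonoid.End Q) (Additive.ofMul (QuotientGroup.mk (⟨a, ha⟩ : W)))
          rw [ha', neg_zero] at this
          exact this }
    have hW'A : W' ≤ A := by
      intro x hx
      refine ⟨hle hx, ?_⟩
      rw [(QuotientGroup.eq_one_iff (⟨x, hle hx⟩ : W)).2 hx]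
      exact map_zero (r : AddMonoid.End Q)
    have hAinv : ∀ y ∈ C, ∀ w ∈ A, y * w * y⁻¹ ∈ A := by
      rintro y hy w ⟨hw, hw'⟩
      refine ⟨hinv y hy w hw, ?_⟩
      have hc : (r : AddMonoid.End Q) * α ⟨y, hy⟩ = α ⟨y, hy⟩ * (r : AddMonoid.End Q) :=
        congrArg Subtype.val (mul_comm r ⟨α ⟨y, hy⟩, Subring.subset_closure ⟨_, rfl⟩⟩)
      have := DFunLike.congr_fun hc (Additive.ofMul (QuotientGroup.mk (⟨w, hw⟩ : W)))
      refine Eq.trans ?_ ((this.trans (congrArg (α ⟨y, hy⟩) hw')).trans (map_zero _))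
      rfl
    have hA : A = W' := by
      by_contra hne
      rcases lt_or_eq_of_le (show A ≤ W from fun x hx => hx.1) with h | h
      · exact hne (le_antisymm (hmax ⟨h, hAinv⟩ hW'A) hW'A)
      · apply hr
        apply Subtype.ext
        refine AddMonoidHom.ext fun q => ?_
        obtain ⟨w, hwq⟩ : ∃ w : W, Additive.ofMul (QuotientGroup.mk w) = q := ⟨q.toMul.out, by simp⟩
        obtain ⟨hx, hx'⟩ : (w : X) ∈ A := h.ge w.2
        rw [← hwq]
        exact hx'
    refine (injective_iff_map_eq_zero _).2 fun q hq => ?_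
    obtain ⟨w, rfl⟩ : ∃ w : W, Additive.ofMul (QuotientGroup.mk w) = q := ⟨q.toMul.out, by simp⟩
    have hw : (w : X) ∈ W' := hA ▸ (⟨w.2, hq⟩ : (w : X) ∈ A)
    rw [(QuotientGroup.eq_one_iff w).2 hw]
    rfl
  haveI : NoZeroDivisors R := ⟨fun {a b} hab => by
    by_contra! h
    apply h.2
    apply Subtype.ext
    refine AddMonoidHom.ext fun q => hinj a h.1 ?_
    have := DFunLike.congr_fun (congrArg Subtype.val hab) q
    exact this.trans (map_zero (a : AddMonoid.End Q)).symm⟩
  haveI : IsDomain R := NoZeroDivisors.to_isDomain R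
  letI : Field R := (Finite.isField_of_domain R).toField
  letI : Fintype R := Fintype.ofFinite R
  have hpQ : IsPGroup p (W ⧸ K') := hWp.to_quotient K'
  haveI : CharP R p := by
    obtain ⟨ℓ, hℓ⟩ := CharP.exists R
    haveI := hℓ
    obtain ⟨k, hk⟩ := hpQ (Additive.toMul q₀)
    have h0 : ((p ^ k : ℕ) : R) = 0 := by
      by_contra hne
      apply hq₀
      apply hinj ((p ^ k : ℕ) : R) hne
      rw [map_zero]
      have e : (((p ^ k : ℕ) : R) : AddMonoid.End Q) = ((p ^ k : ℕ) : AddMonoid.End Q) :=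
        map_natCast R.subtype _
      rw [e, AddMonoid.End.natCast_apply]
      exact congrArg Additive.ofMul hk
    rw [CharP.cast_eq_zero_iff R ℓ] at h0
    rcases CharP.char_is_prime_or_zero R ℓ with hl | hl
    · rwa [← (Nat.prime_dvd_prime_iff_eq hl Fact.out).1 (hl.dvd_of_dvd_pow h0)]
    · exact absurd hl (CharP.char_ne_zero_of_finite R ℓ)
  let θ : C →* R := α.codRestrict R fun y => Subring.subset_closure ⟨y, rfl⟩
  obtain ⟨dual⟩ := CommGroup.monoidHom_mulEquiv_of_hasEnoughRootsOfUnity Rˣ ℂ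
  let η : C →* (Rˣ →* ℂˣ) := dual.symm.toMonoidHom.comp θ.toHomUnits
  have hη : ∀ y : C, η y = 1 ↔ α y = 1 := by
    intro y
    show dual.symm (θ.toHomUnits y) = 1 ↔ _
    rw [map_eq_one_iff _ dual.symm.injective, Units.ext_iff, Units.val_one,
      MonoidHom.coe_toHomUnits, ← Subtype.coe_injective.eq_iff]
    rfl
  obtain ⟨ψ₁, hψ₁, hK₁, hn₁⟩ := gauss_witness (p := p) hM η
  have hψ₁1 : ψ₁ 1 = 1 := hK₁ 1 (map_one η)
  let m₁ : C → ℕ := fun y => if η y = 1 then 1 else Fintype.card R
  refine ⟨N * p, ψ₀ * ψ₁, m₀ * m₁, Nat.mul_pos hN (Fact.out : p.Prime).pos,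
    mul_mem (cycVirt_mono (Dvd.intro p rfl) hψ₀) (cycVirt_mono (Dvd.intro_left N rfl) hψ₁),
    by rw [Pi.mul_apply, hψ₀1, hψ₁1, one_mul], fun y => ?_, fun y => ?_, fun y => ?_⟩
  · simp only [Pi.mul_apply, m₁, map_mul, Nat.cast_mul, ← hm₀ y]
    split_ifs with h
    · rw [hK₁ y h, map_one, Nat.cast_one]; ring
    · rw [← (hn₁ y h).2]; ring
  · by_cases h : η y = 1
    · rcases hM₀ y with h' | h'
      · left
        intro w hw
        -- coprime action on the two layers
        have hq := DFunLike.congr_fun ((hη y).1 h) (Additive.ofMul (QuotientGroup.mk (⟨w, hw⟩ : W)))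
        have hc : w⁻¹ * ((y : X) * w * (y : X)⁻¹) ∈ W' := by
          have h1 : (QuotientGroup.mk (cW y ⟨w, hw⟩) : W ⧸ K') = QuotientGroup.mk ⟨w, hw⟩ :=
            congrArg Additive.toMul hq
          exact (QuotientGroup.eq (s := K')).1 h1.symm
        set c := w⁻¹ * ((y : X) * w * (y : X)⁻¹) with hcdef
        have hiter : ∀ j : ℕ, (y : X) ^ j * w * ((y : X) ^ j)⁻¹ = w * c ^ j := by
          intro j
          induction j with
          | zero => simp
          | succ j ihj =>
            have hyc : (y : X) * c * (y : X)⁻¹ = c := h' c hc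
            have hycj : (y : X) * c ^ j * (y : X)⁻¹ = c ^ j := by rw [← conj_pow, hyc]
            calc (y : X) ^ (j + 1) * w * ((y : X) ^ (j + 1))⁻¹
                = (y : X) * ((y : X) ^ j * w * ((y : X) ^ j)⁻¹) * (y : X)⁻¹ := by
                  rw [pow_succ']; group
              _ = ((y : X) * w * (y : X)⁻¹) * ((y : X) * c ^ j * (y : X)⁻¹) := by rw [ihj]; group
              _ = (w * c) * c ^ j := by rw [hycj, hcdef]; group
              _ = w * c ^ (j + 1) := by rw [pow_succ', mul_assoc]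
        have h1 := hiter (Nat.card C)
        rw [show (y : X) ^ Nat.card C = 1 by rw [← Subgroup.coe_pow, pow_card_eq_one', Subgroup.coe_one],
          one_mul, inv_one, mul_one, left_eq_mul] at h1
        obtain ⟨k, hk⟩ := hWp ⟨c, hle hc⟩
        have hk' : c ^ p ^ k = 1 := congrArg Subtype.val hk
        have hc1 : c = 1 := by
          have := pow_gcd_eq_one.2 ⟨hk', h1⟩
          rwa [Nat.Coprime.gcd_eq_one (Nat.Coprime.pow_left k
            ((Fact.out : p.Prime).coprime_iff_not_dvd.2 hpC)), pow_one] at this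
        rw [hcdef, inv_mul_eq_one] at hc1
        exact hc1.symm
      · right
        rw [Pi.mul_apply]
        exact MemLocalIdeal.mul_right hM h'
          (memLocalRing_of_isIntegral hM (isIntegral_cycVirt hψ₁ y))
    · right
      rw [Pi.mul_apply]
      exact MemLocalIdeal.mul_left hM (memLocalRing_of_isIntegral hM (isIntegral_cycVirt hψ₀ y))
        (hn₁ y h).1
  · rw [← hn]
    set Z := Subgroup.centralizer ({(y : X)} : Set X) with hZ
    have hWsplit : Nat.card (W ⧸ K') * Nat.card W' = Nat.card W := by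
      rw [← Nat.card_congr (Subgroup.subgroupOfEquivOfLe hle).toEquiv]
      exact (Subgroup.card_eq_card_quotient_mul_card_subgroup K').symm
    simp only [Pi.mul_apply, m₁]
    split_ifs with h
    · rw [mul_one]
      have hkey : Nat.card ↥(W ⊓ Z) ≤ Nat.card ↥(W' ⊓ Z) * Nat.card (W ⧸ K') := by
        let f : ↥(W ⊓ Z) →* W ⧸ K' := (QuotientGroup.mk' K').comp (Subgroup.inclusion inf_le_left)
        rw [← Subgroup.card_mul_index f.ker, Subgroup.index_ker]
        refine Nat.mul_le_mul (le_of_eq ?_) (Subgroup.card_le_card_group _)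
        refine Nat.card_congr ⟨fun x => ⟨x.1.1, ?_, x.1.2.2⟩, fun x => ⟨⟨x.1, hle x.2.1, x.2.2⟩, ?_⟩,
          fun _ => rfl, fun _ => rfl⟩
        · exact (QuotientGroup.eq_one_iff (Subgroup.inclusion inf_le_left x.1 : W)).1 x.2
        · exact (QuotientGroup.eq_one_iff (N := K') _).2 x.2.1
      calc m₀ y * Nat.card ↥(W ⊓ Z) ≤ m₀ y * (Nat.card ↥(W' ⊓ Z) * Nat.card (W ⧸ K')) :=
            Nat.mul_le_mul_left _ hkey
        _ = Nat.card (W ⧸ K') * (m₀ y * Nat.card ↥(W' ⊓ Z)) := by ring
        _ ≤ Nat.card (W ⧸ K') * Nat.card W' := Nat.mul_le_mul_left _ (hle₀ y)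
        _ = Nat.card W := hWsplit
    · have hR : Fintype.card R ≤ Nat.card (W ⧸ K') := by
        rw [← Nat.card_eq_fintype_card]
        refine Nat.card_le_card_of_injective
          (fun r : R => Additive.toMul ((r : AddMonoid.End Q) q₀)) ?_
        intro a b hab
        by_contra hne
        apply hq₀
        apply hinj (a - b) (sub_ne_zero.2 hne)
        rw [map_zero]
        show (a : AddMonoid.End Q) q₀ - (b : AddMonoid.End Q) q₀ = 0
        rw [sub_eq_zero]
        exact Additive.toMul.injective hab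
      have heq : W ⊓ Z = W' ⊓ Z := by
        refine le_antisymm (fun x hx => ⟨?_, hx.2⟩) (inf_le_inf_right _ hle)
        by_contra hxW'
        apply h
        rw [hη]
        have hr : (θ y - 1 : R) = 0 := by
          by_contra hne
          have hinj' := hinj _ hne
          apply hxW'
          have : Additive.ofMul (QuotientGroup.mk (⟨x, hx.1⟩ : W)) = (0 : Q) := by
            apply hinj'
            rw [map_zero]
            show α y _ - _ = 0
            rw [sub_eq_zero]
            show Additive.ofMul (cQ y (QuotientGroup.mk (⟨x, hx.1⟩ : W))) =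
              Additive.ofMul (QuotientGroup.mk (⟨x, hx.1⟩ : W) : W ⧸ K')
            have hxy : cW y ⟨x, hx.1⟩ = ⟨x, hx.1⟩ := by
              apply Subtype.ext
              show (y : X) * x * (y : X)⁻¹ = x
              rw [mul_inv_eq_iff_eq_mul]
              exact (Subgroup.mem_centralizer_singleton_iff.1 hx.2).symm
            rw [hcQ, hxy]
          exact (QuotientGroup.eq_one_iff (N := K') _).1 (congrArg Additive.toMul this)
        exact congrArg Subtype.val (sub_eq_zero.1 hr)
      rw [heq]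
      calc m₀ y * Fintype.card R * Nat.card ↥(W' ⊓ Z)
          = Fintype.card R * (m₀ y * Nat.card ↥(W' ⊓ Z)) := by ring
        _ ≤ Nat.card (W ⧸ K') * Nat.card W' := Nat.mul_le_mul hR (hle₀ y)
        _ = Nat.card W := hWsplit

end CfsgLib.KGV
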