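import Cfsg.Agent.Lib.KGV.CoprimeOrbit
import Cfsg.Agent.Lib.Tech46.PCentral
import Cfsg.Agent.Lib.Coprime.HyperplaneGeneration
import Cfsg.Agent.Lib.ConstStab.Basic
import Cfsg.Agent.S3762
import Mathlib.GroupTheory.QuotientGroup.Basic

/-!
An odd normal `p`-subgroup of a group acting coprimely on an abelian group: some vector is only
fixed by elements of order `p` lying in a proper normal subgroup.
-/

set_option autoImplicit false
set_option linter.style.haveILetI false
set_option linter.unusedSectionVars false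

namespace CfsgLib.KGV.Avoid

open Subgroup CfsgLib.KGV.CoprimeOrbit
open scoped commutatorElement

universe u

variable {H V : Type u} [Group H] [CommGroup V] (φ : H →* MulAut V)

/-- The fixed points of a subgroup. -/
def fixOf (K : Subgroup H) : Subgroup V where
  carrier := {v | ∀ k ∈ K, φ k v = v}
  one_mem' _ _ := map_one _
  mul_mem' {a b} ha hb k hk := by rw [map_mul, ha k hk, hb k hk]
  inv_mem' {a} ha k hk := by rw [map_inv, ha k hk]

theorem mem_fixOf {K : Subgroup H} {v : V} : v ∈ fixOf φ K ↔ ∀ k ∈ K, φ k v = v := Iff.rfl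

theorem fixOf_sup {K L : Subgroup H} {v : V} (hK : v ∈ fixOf φ K) (hL : v ∈ fixOf φ L) :
    v ∈ fixOf φ (K ⊔ L) := by
  let S : Subgroup H :=
    { carrier := {k | φ k v = v}
      one_mem' := by simp
      mul_mem' := fun {a b} ha hb => by
        show φ (a * b) v = v
        rw [map_mul, MulAut.mul_apply, hb, ha]
      inv_mem' := fun {a} ha => by
        show φ a⁻¹ v = v
        conv_lhs => rw [← ha]
        rw [map_inv, MulAut.inv_apply_self] }
  intro k hk
  exact (sup_le (fun a ha => hK a ha) (fun a ha => hL a ha) : K ⊔ L ≤ S) hk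

theorem apply_mem_fixOf {K : Subgroup H} {g : H} (hg : ∀ k ∈ K, g⁻¹ * k * g ∈ K) {v : V}
    (hv : v ∈ fixOf φ K) : φ g v ∈ fixOf φ K := fun k hk => by
  rw [← MulAut.mul_apply, ← map_mul, show k * g = g * (g⁻¹ * k * g) by group, map_mul,
    MulAut.mul_apply, hv _ (hg k hk)]

/-- The action on an invariant subgroup. -/
def restrictAct (L : Subgroup H) (W : Subgroup V) (hW : ∀ g ∈ L, ∀ w ∈ W, φ g w ∈ W) :
    L →* MulAut W where
  toFun g :=
    { toFun := fun w => ⟨φ g w, hW g g.2 w w.2⟩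
      invFun := fun w => ⟨φ (g : H)⁻¹ w, hW _ (L.inv_mem g.2) w w.2⟩
      left_inv := fun w => Subtype.ext (by simp [map_inv])
      right_inv := fun w => Subtype.ext (by simp [map_inv])
      map_mul' := fun a b => Subtype.ext (map_mul (φ (g : H)) (a : V) (b : V)) }
  map_one' := MulEquiv.ext fun w => Subtype.ext (by simp)
  map_mul' a b := MulEquiv.ext fun w => Subtype.ext (by simp [MulAut.mul_apply])

theorem restrictAct_apply (L : Subgroup H) (W : Subgroup V) (hW : ∀ g ∈ L, ∀ w ∈ W, φ g w ∈ W)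
    (g : L) (w : W) : ((restrictAct φ L W hW g) w : V) = φ g w := rfl

/-- The conclusion. -/
def HasAvoid {p : ℕ} (N : Subgroup H) (_ : p.Prime) : Prop :=
  ∃ M : Subgroup H, M.Normal ∧ M ≤ N ∧ M ≠ N ∧
    ∃ v : V, ∀ x ∈ N, x ^ p = 1 → φ x v = v → x ∈ M

variable [Finite H] [Finite V]

theorem eq_one_of_pow_eq_one {n : ℕ} (hn : (Nat.card V).Coprime n) {v : V} (h : v ^ n = 1) :
    v = 1 :=
  (powCoprime hn).injective (show v ^ n = 1 ^ n by rw [h, one_pow])

theorem eq_of_pow_eq {n : ℕ} (hn : (Nat.card V).Coprime n) {v w : V} (h : v ^ n = w ^ n) : v = w :=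
  (powCoprime hn).injective h

/-- The main lemma. -/
theorem exists_avoid {p : ℕ} [hp : Fact p.Prime] (hp2 : p ≠ 2) : ∀ (n : ℕ) {H V : Type u}
    [Group H] [Finite H] [CommGroup V] [Finite V] (φ : H →* MulAut V) (N : Subgroup H),
    Nat.card H + Nat.card V ≤ n → p.Coprime (Nat.card V) → N.Normal → IsPGroup p N →
    (∃ x ∈ N, φ x ≠ 1) → HasAvoid φ N hp.out := by
  intro n
  induction n with
  | zero =>
    intro H V _ _ _ _ φ N hn
    have := Nat.card_pos (α := H)
    omega
  | succ n ih =>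
  intro H V _ _ _ _ φ N hn hcopV hN hNp hnt
  classical
  haveI := hN
  have hcop : ∀ {K : Subgroup H}, K ≤ N → (Nat.card V).Coprime (Nat.card K) := fun {K} hK => by
    obtain ⟨k, hk⟩ := IsPGroup.iff_card.1 (hNp.to_le hK)
    rw [hk]
    exact (hcopV.symm).pow_right k
  by_cases hker : φ.ker = ⊥
  swap
  · let f := QuotientGroup.mk' φ.ker
    have hf : Function.Surjective f := QuotientGroup.mk'_surjective _
    have hlt : Nat.card (H ⧸ φ.ker) < Nat.card H := by
      rw [← φ.ker.index_mul_card]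
      exact lt_mul_of_one_lt_right (Nat.pos_of_ne_zero index_ne_zero_of_finite)
        ((Subgroup.one_lt_card_iff_ne_bot _).2 hker)
    obtain ⟨x, hx, hx1⟩ := hnt
    obtain ⟨M, hMn, hMle, hMne, v, hv⟩ := ih (QuotientGroup.kerLift φ) (N.map f) (by omega) hcopV
      (hN.map f hf) (hNp.map f) ⟨f x, mem_map_of_mem f hx, hx1⟩
    haveI := hMn
    refine ⟨M.comap f ⊓ N, inferInstance, inf_le_right, fun e => hMne ?_, v, fun y hy hyp hyv =>
      ⟨hv (f y) (mem_map_of_mem f hy) (by rw [← map_pow, hyp, map_one]) hyv, hy⟩⟩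
    refine le_antisymm hMle ?_
    rintro _ ⟨y, hy, rfl⟩
    exact (inf_eq_right.1 e hy : y ∈ M.comap f)
  have hinj : Function.Injective φ := (MonoidHom.ker_eq_bot_iff φ).1 hker
  set S := closure {x : H | x ∈ N ∧ x ^ p = 1} with hS
  have hSN : S ≤ N := (closure_le _).2 fun x hx => hx.1
  by_cases hgen : S = N
  swap
  · haveI : S.Normal := by
      refine ⟨fun x hx g => ?_⟩
      suffices h : S ≤ S.comap (MulAut.conj g).toMonoidHom from h hx
      rw [hS, closure_le]
      rintro y ⟨hy, hyp⟩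
      refine subset_closure ⟨hN.conj_mem y hy g, ?_⟩
      show ((MulAut.conj g) y) ^ p = 1
      rw [← map_pow, hyp, map_one]
    exact ⟨S, inferInstance, hSN, hgen, 1, fun x hx hxp _ => subset_closure ⟨hx, hxp⟩⟩
  -- a proper invariant subgroup is centralised by `N`
  by_cases hred : ∃ W : Subgroup V, W ≠ ⊤ ∧ (∀ g : H, ∀ w ∈ W, φ g w ∈ W) ∧ ∃ x ∈ N, ∃ w ∈ W, φ x w ≠ w
  · obtain ⟨W, hW, hWinv, x, hx, w, hw, hxw⟩ := hred
    have hlt : Nat.card W < Nat.card V :=
      lt_of_le_of_ne (card_le_card_group W) fun e => hW (eq_top_of_card_eq W e)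
    let φW : H →* MulAut W :=
      (restrictAct φ ⊤ W fun g _ => hWinv g).comp (Subgroup.topEquiv (G := H)).symm.toMonoidHom
    obtain ⟨M, hMn, hMle, hMne, v, hv⟩ := ih φW N (by omega)
      (hcopV.coprime_dvd_right (card_subgroup_dvd_card W)) hN hNp
      ⟨x, hx, fun e => hxw (congrArg (fun f : MulAut W => ((f ⟨w, hw⟩ : W) : V)) e)⟩
    exact ⟨M, hMn, hMle, hMne, v, fun y hy hyp hyv => hv y hy hyp (Subtype.ext hyv)⟩
  push Not at hred
  obtain ⟨x₀, hx₀, hx₀1⟩ := hnt
  obtain ⟨v₀, hv₀⟩ : ∃ v₀ : V, φ x₀ v₀ ≠ v₀ := by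
    by_contra! h
    exact hx₀1 (MulEquiv.ext h)
  -- normal subgroups inside `N` have no fixed points
  have hfixN : fixOf φ N = ⊥ := by
    haveI := Fintype.ofFinite N
    have hinv : ∀ g : H, ∀ w ∈ fixOf φ N, φ g w ∈ fixOf φ N := fun g w hw =>
      apply_mem_fixOf φ (fun k hk => by simpa using hN.conj_mem k hk g⁻¹) hw
    let π : V →* V := ∏ k : N, (φ (k : H)).toMonoidHom
    have hπ : ∀ v, π v = ∏ k : N, φ (k : H) v := fun v => MonoidHom.finsetProd_apply _ _ v
    have hπfix : ∀ v, π v ∈ fixOf φ N := by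
      intro v k hk
      rw [hπ, map_prod]
      exact Fintype.prod_equiv (Equiv.mulLeft (⟨k, hk⟩ : N)) _ _ fun a => by
        show φ k (φ (a : H) v) = φ (k * a) v
        rw [map_mul, MulAut.mul_apply]
    let D : Subgroup V := closure {z | ∃ g : H, ∃ x ∈ N, ∃ v : V, z = φ g (φ x v * v⁻¹)}
    have hD : ∀ g : H, ∀ w ∈ D, φ g w ∈ D := by
      intro g w hw
      suffices h : D ≤ D.comap (φ g).toMonoidHom from h hw
      refine (closure_le _).2 ?_
      rintro _ ⟨g', x, hx, v, rfl⟩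
      exact subset_closure ⟨g * g', x, hx, v, by
        show φ g (φ g' (φ x v * v⁻¹)) = φ (g * g') (φ x v * v⁻¹)
        rw [map_mul φ g g', MulAut.mul_apply]⟩
    have hDtop : D = ⊤ := by
      by_contra hne
      refine hv₀ ?_
      have h1 : φ x₀ v₀ * v₀⁻¹ ∈ D := subset_closure ⟨1, x₀, hx₀, v₀, by rw [map_one]; rfl⟩
      set c := φ x₀ v₀ * v₀⁻¹ with hc
      have hfix : φ x₀ c = c := hred D hne hD x₀ hx₀ c h1
      have hpow : ∀ k : ℕ, φ (x₀ ^ k) v₀ = v₀ * c ^ k := by
        intro k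
        induction k with
        | zero => simp
        | succ k ihk =>
          rw [pow_succ', map_mul, MulAut.mul_apply, ihk, map_mul, map_pow, hfix, hc]
          rw [pow_succ' (φ x₀ v₀ * v₀⁻¹), ← mul_assoc, mul_comm v₀ (φ x₀ v₀ * v₀⁻¹),
            inv_mul_cancel_right]
      obtain ⟨k, hk⟩ := hNp ⟨x₀, hx₀⟩
      have hk' : x₀ ^ p ^ k = 1 := congrArg Subtype.val hk
      have h2 := hpow (p ^ k)
      rw [hk', map_one, MulAut.one_apply, left_eq_mul] at h2
      have h3 := eq_one_of_pow_eq_one ((hcopV.symm).pow_right k) h2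
      rwa [hc, mul_inv_eq_one] at h3
    rw [eq_bot_iff]
    intro w hw
    have hw' : π w = w ^ Nat.card N := by
      rw [hπ, Finset.prod_congr rfl fun (k : N) _ => hw k k.2, Finset.prod_const, Finset.card_univ,
        Nat.card_eq_fintype_card]
    have hkill : D ≤ π.ker := by
      refine (closure_le _).2 ?_
      rintro _ ⟨g, x, hx, v, rfl⟩
      show π (φ g (φ x v * v⁻¹)) = 1
      have hcm : ∀ u, π (φ g u) = φ g (π u) := fun u => by
        rw [hπ, hπ, map_prod]
        exact Fintype.prod_equiv (MulAut.conjNormal g⁻¹).toEquiv _ _ fun a => by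
          show φ (a : H) (φ g u) = φ g (φ ((MulAut.conjNormal g⁻¹ a : N) : H) u)
          rw [MulAut.conjNormal_apply, ← MulAut.mul_apply, ← map_mul, ← MulAut.mul_apply, ← map_mul]
          group
      have hx' : π (φ x v) = π v := by
        rw [hπ, hπ]
        exact Fintype.prod_equiv (Equiv.mulRight (⟨x, hx⟩ : N)) _ _ fun a => by
          show φ (a : H) (φ x v) = φ ((a : H) * x) v
          rw [map_mul, MulAut.mul_apply]
      rw [hcm, map_mul, map_inv, hx', mul_inv_cancel, map_one]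
    have h4 : π w = 1 := hkill (hDtop ▸ mem_top w)
    exact mem_bot.2 (eq_one_of_pow_eq_one (hcop le_rfl) (hw' ▸ h4))
  have hfix : ∀ L : Subgroup H, L.Normal → L ≤ N → L ≠ ⊥ → fixOf φ L = ⊥ := by
    intro L hL hLN hL1
    haveI := hL
    have hne : fixOf φ L ≠ ⊤ := fun e => hL1 (eq_bot_iff.2 fun x hx => mem_bot.2 (hinj (by
      rw [map_one]
      exact MulEquiv.ext fun v => (e.ge (mem_top v)) x hx)))
    rw [eq_bot_iff, ← hfixN]
    intro w hw x hx
    exact hred _ hne (fun g u hu => apply_mem_fixOf φ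
      (fun k hk => by simpa using hL.conj_mem k hk g⁻¹) hu) x hx w hw
  have hN1 : N ≠ ⊥ := fun e => by
    rw [e, mem_bot] at hx₀
    exact hx₀1 (by rw [hx₀, map_one])
  -- maximal subgroups with fixed points
  have hmax : ∀ B : Subgroup H, ∃ K ≤ B, (∃ w ∈ fixOf φ K, w ≠ 1) ∧
      ∀ K' : Subgroup H, K ≤ K' → K' ≤ B → (∃ w ∈ fixOf φ K', w ≠ 1) → K' = K := by
    intro B
    obtain ⟨K, ⟨hKB, hK⟩, hKmax⟩ := (Set.toFinite {K : Subgroup H | K ≤ B ∧ ∃ w ∈ fixOf φ K, w ≠ 1}).exists_maximal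
      ⟨⊥, bot_le, v₀, fun k hk => by rw [mem_bot.1 hk, map_one]; rfl,
        fun e => hv₀ (by rw [e, map_one])⟩
    exact ⟨K, hKB, hK, fun K' h1 h2 h3 => le_antisymm (hKmax ⟨h2, h3⟩ h1) h1⟩
  have hsame : ∀ {B K K' : Subgroup H}, K ≤ B → K' ≤ B →
      (∀ K₂ : Subgroup H, K ≤ K₂ → K₂ ≤ B → (∃ w ∈ fixOf φ K₂, w ≠ 1) → K₂ = K) →
      Nat.card K' = Nat.card K → ∀ u ∈ fixOf φ K, u ∈ fixOf φ K' → u ≠ 1 → K' = K := by
    intro B K K' hK hK' hmax hc u hu hu' hu1
    have h := hmax (K ⊔ K') le_sup_left (sup_le hK hK') ⟨u, fixOf_sup φ hu hu', hu1⟩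
    exact eq_of_le_of_card_ge (h ▸ le_sup_right) hc.ge
  -- the central elements of order dividing `p`
  set Z : Subgroup H :=
    { carrier := {x | x ∈ N ∧ x ^ p = 1 ∧ ∀ y ∈ N, Commute x y}
      one_mem' := ⟨one_mem N, one_pow p, fun y _ => Commute.one_left y⟩
      mul_mem' := fun {a b} ha hb => ⟨mul_mem ha.1 hb.1, by
        rw [(ha.2.2 b hb.1).mul_pow, ha.2.1, hb.2.1, one_mul], fun y hy => (ha.2.2 y hy).mul_left (hb.2.2 y hy)⟩
      inv_mem' := fun {a} ha => ⟨inv_mem ha.1, by rw [inv_pow, ha.2.1, inv_one],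
        fun y hy => (ha.2.2 y hy).inv_left⟩ } with hZ
  have hZN : Z ≤ N := fun x hx => hx.1
  have hconj : ∀ (g x y : H), Commute x (g⁻¹ * y * g) → Commute (g * x * g⁻¹) y := fun g x y h => by
    have h1 := h.map (MulAut.conj g)
    simpa [mul_assoc] using h1
  haveI hZn : Z.Normal := ⟨fun x hx g => ⟨hN.conj_mem x hx.1 g, by rw [conj_pow, hx.2.1, mul_one, mul_inv_cancel],
    fun y hy => hconj g x y (hx.2.2 _ (by simpa using hN.conj_mem y hy g⁻¹))⟩⟩
  haveI : Nontrivial N := (Subgroup.nontrivial_iff_ne_bot N).2 hN1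
  haveI := hNp.center_nontrivial
  obtain ⟨z, hzc, hz⟩ : ∃ z ∈ Z, orderOf z = p := by
    obtain ⟨k, hk⟩ := IsPGroup.iff_card.1 (hNp.to_subgroup (center N))
    have hdvd : p ∣ Nat.card (center N) := by
      rw [hk]
      refine dvd_pow_self p fun e => ?_
      have := Finite.one_lt_card (α := center N)
      rw [hk, e, pow_zero] at this
      omega
    obtain ⟨c, hc⟩ := exists_prime_orderOf_dvd_card' p hdvd
    have ho : orderOf ((c : N) : H) = p := by rw [Subgroup.orderOf_coe, Subgroup.orderOf_coe, hc]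
    refine ⟨((c : N) : H), ⟨(c : N).2, ?_, fun y hy => ?_⟩, ho⟩
    · rw [← ho, pow_orderOf_eq_one]
    · exact congrArg Subtype.val (mem_center_iff.1 c.2 ⟨y, hy⟩).symm
  have hzZ : zpowers z ≤ Z := zpowers_le.2 hzc
  by_cases hcyc : Z = zpowers z
  swap
  · -- several central elements of order `p`
    obtain ⟨K, hKZ, ⟨w, hwK, hw1⟩, hKmax⟩ := hmax Z
    have hKne : K ≠ ⊥ := by
      rintro rfl
      obtain ⟨y, hy, hyz⟩ : ∃ y ∈ Z, y ∉ zpowers z := by
        by_contra! h
        exact hcyc (le_antisymm h hzZ)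
      let ψ : Z →* MulAut V := φ.comp Z.subtype
      have hne : zpowers z ≠ ⊥ := by
        rw [Ne, zpowers_eq_bot, ← orderOf_eq_one_iff, hz]; exact hp.out.ne_one
      have hbot : ∀ g ∈ Z, g ≠ 1 → ∀ u : V, φ g u = u → u = 1 := by
        intro g hg hg1 u hu
        by_contra hu1
        have h := hKmax (zpowers g) bot_le (zpowers_le.2 hg) ⟨u, fun k hk => by
          rw [← (isOfFinOrder_of_finite g).mem_powers_iff_mem_zpowers] at hk
          obtain ⟨j, rfl⟩ := hk
          induction j with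
          | zero => simp
          | succ j ihj =>
            show φ (g ^ (j + 1)) u = u
            rw [pow_succ, map_mul, MulAut.mul_apply, hu]
            exact ihj, hu1⟩
        exact hg1 (zpowers_eq_bot.1 h)
      obtain ⟨i, -, u, hu1, hu⟩ := exists_fixed_rank_two (z := (⟨z, hzc⟩ : Z)) ψ hcopV
        (u := ⟨y, hy⟩) (Subtype.ext hy.2.1) (Subtype.ext hzc.2.1)
        (Subtype.ext (hy.2.2 z hzc.1).eq)
        (fun u hu => hbot z hzc (fun e => hne (zpowers_eq_bot.2 e)) u hu) ⟨v₀, fun e => hv₀ (by rw [e, map_one])⟩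
      refine hu1 (hbot (y * z ^ i) (mul_mem hy (pow_mem hzc i)) (fun e => hyz ?_) u hu)
      rw [mul_eq_one_iff_eq_inv] at e
      exact e ▸ inv_mem (pow_mem (mem_zpowers z) i)
    set H₁ := normalizer (K : Set H) with hH₁
    have hlt : Nat.card H₁ < Nat.card H := by
      refine lt_of_le_of_ne (card_le_card_group H₁) fun e => ?_
      haveI := normalizer_eq_top_iff.1 (eq_top_of_card_eq H₁ e)
      exact hw1 (mem_bot.1 (hfix K inferInstance (hKZ.trans hZN) hKne ▸ hwK))
    have hNH₁ : N ≤ H₁ := fun x hx => mem_normalizer_iff.2 fun k => by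
      constructor
      · intro hk
        rwa [(hKZ hk).2.2 x hx |>.symm.eq, mul_inv_cancel_right]
      · intro hk
        have h : x * k * x⁻¹ * x = x * (x * k * x⁻¹) := ((hKZ hk).2.2 x hx).eq
        rw [inv_mul_cancel_right] at h
        exact (mul_left_cancel h).symm ▸ hk
    set W := fixOf φ K with hW
    have hWinv : ∀ g ∈ H₁, ∀ u ∈ W, φ g u ∈ W := fun g hg u hu =>
      apply_mem_fixOf φ (fun k hk => (mem_normalizer_iff''.1 hg k).1 hk) hu
    haveI : (N.subgroupOf H₁).Normal := inferInstance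
    obtain ⟨x₁, hx₁, hx₁w⟩ : ∃ x ∈ N, φ x w ≠ w := by
      by_contra! h
      exact hw1 (mem_bot.1 (hfixN ▸ (h : w ∈ fixOf φ N)))
    obtain ⟨M₁, hM₁n, hM₁le, hM₁ne, u, hu⟩ := ih (restrictAct φ H₁ W hWinv) (N.subgroupOf H₁)
      (by have := card_le_card_group W; omega)
      (hcopV.coprime_dvd_right (card_subgroup_dvd_card W)) inferInstance
      (hNp.comap_of_injective H₁.subtype H₁.subtype_injective)
      ⟨⟨x₁, hNH₁ hx₁⟩, hx₁, fun e =>
        hx₁w (congrArg (fun f : MulAut W => ((f ⟨w, hwK⟩ : W) : V)) e)⟩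
    haveI := Fintype.ofFinite (H ⧸ H₁)
    haveI := Fintype.ofFinite K
    have hM' : M₁.map H₁.subtype ≤ N := by
      rintro _ ⟨x, hx, rfl⟩
      exact hM₁le hx
    refine ⟨(M₁.map H₁.subtype).normalCore, inferInstance, (normalCore_le _).trans hM', fun e => hM₁ne ?_,
      ∏ q : H ⧸ H₁, φ q.out (u : V), fun x hx hxp hxv h => ?_⟩
    · refine le_antisymm hM₁le fun y hy => ?_
      obtain ⟨y', hy', he⟩ := (normalCore_le _) (e.ge (mem_subgroupOf.1 hy))
      exact Subtype.ext he ▸ hy'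
    -- components
    have hcomp : ∀ q : H ⧸ H₁, φ x (φ q.out (u : V)) = φ q.out (u : V) := by
      intro q₀
      set g₀ := q₀.out with hg₀
      let e : V →* V := ∏ k : K, (φ (g₀ * (k : H) * g₀⁻¹)).toMonoidHom
      have he : ∀ v, e v = ∏ k : K, φ (g₀ * (k : H) * g₀⁻¹) v :=
        fun v => MonoidHom.finsetProd_apply _ _ v
      have hex : ∀ v, φ x (e v) = e (φ x v) := fun v => by
        rw [he, he, map_prod]
        refine Finset.prod_congr rfl fun k _ => ?_
        have hc : Commute (g₀ * (k : H) * g₀⁻¹) x :=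
          hconj g₀ k x ((hKZ k.2).2.2 _ (by simpa using hN.conj_mem x hx g₀⁻¹))
        rw [← MulAut.mul_apply, ← map_mul, ← MulAut.mul_apply, ← map_mul, hc.eq]
      have hsum : e (∏ q : H ⧸ H₁, φ q.out (u : V)) = (φ g₀ (u : V)) ^ Nat.card K := by
        rw [map_prod, Finset.prod_eq_single q₀]
        · rw [he, ← hg₀, Finset.prod_congr rfl fun (k : K) _ => show φ (g₀ * (k : H) * g₀⁻¹) (φ g₀ (u : V)) = φ g₀ (u : V) by
              rw [← MulAut.mul_apply, ← map_mul, inv_mul_cancel_right, map_mul, MulAut.mul_apply, u.2 _ k.2],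
            Finset.prod_const, Finset.card_univ, Nat.card_eq_fintype_card]
        · intro q _ hq
          set g := q.out with hg
          set c := g₀⁻¹ * g with hcdef
          have hval : φ g₀⁻¹ (e (φ g (u : V))) = ∏ k : K, φ ((k : H) * c) (u : V) := by
            rw [he, map_prod]
            refine Finset.prod_congr rfl fun k _ => ?_
            rw [← MulAut.mul_apply, ← map_mul, ← MulAut.mul_apply, ← map_mul, hcdef]
            congr 2
            group
          set y := ∏ k : K, φ ((k : H) * c) (u : V) with hy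
          suffices hy1 : y = 1 by
            rw [hy1] at hval
            exact (map_eq_one_iff _ (φ g₀⁻¹).injective).1 hval
          by_contra hy1
          have hyK : y ∈ fixOf φ K := fun k hk => by
            rw [hy, map_prod]
            exact Fintype.prod_equiv (Equiv.mulLeft (⟨k, hk⟩ : K)) _ _ fun a => by
              show φ k (φ ((a : H) * c) (u : V)) = φ (k * a * c) (u : V)
              rw [← MulAut.mul_apply, ← map_mul, mul_assoc]
          set K' := K.map (MulAut.conj c).toMonoidHom with hK'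
          have hK'Z : K' ≤ Z := by
            rintro _ ⟨k, hk, rfl⟩
            exact hZn.conj_mem k (hKZ hk) c
          have hyK' : y ∈ fixOf φ K' := by
            rintro _ ⟨k, hk, rfl⟩
            rw [hy, map_prod]
            refine Finset.prod_congr rfl fun a _ => ?_
            show φ (c * k * c⁻¹) (φ ((a : H) * c) (u : V)) = _
            have hca : Commute (c * k * c⁻¹) (a : H) :=
              (hZn.conj_mem k (hKZ hk) c).2.2 a (hZN (hKZ a.2))
            rw [← MulAut.mul_apply, ← map_mul, ← mul_assoc, hca.eq,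
              show (a : H) * (c * k * c⁻¹) * c = (a : H) * c * k by group, map_mul, MulAut.mul_apply,
              u.2 k hk]
          have hKK' : K' = K := hsame hKZ hK'Z hKmax
            (card_map_of_injective (MulAut.conj c).injective) y hyK hyK' hy1
          have hc1 : c ∈ H₁ := CfsgLib.Coprime.mem_normalizer_of_forall_conj fun k hk =>
            hKK'.le ⟨k, hk, rfl⟩
          refine hq ?_
          rw [← QuotientGroup.out_eq' q, ← QuotientGroup.out_eq' q₀]
          exact (QuotientGroup.eq.2 hc1).symm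
        · intro h; exact absurd (Finset.mem_univ q₀) h
      have h1 := hex (∏ q : H ⧸ H₁, φ q.out (u : V))
      rw [hxv, hsum, map_pow] at h1
      exact eq_of_pow_eq (hcop (hKZ.trans hZN)) h1
    show h * x * h⁻¹ ∈ M₁.map H₁.subtype
    obtain ⟨c, hc⟩ := QuotientGroup.mk_out_eq_mul H₁ h⁻¹
    set g := ((h⁻¹ : H) : H ⧸ H₁).out with hg
    have hxg : g⁻¹ * x * g ∈ N := by simpa using hN.conj_mem x hx g⁻¹
    have hmem : (⟨g⁻¹ * x * g, hNH₁ hxg⟩ : H₁) ∈ M₁ := by
      refine hu _ hxg (Subtype.ext ?_) (Subtype.ext ?_)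
      · show (g⁻¹ * x * g) ^ p = 1
        rw [show (g⁻¹ * x * g) ^ p = g⁻¹ * x ^ p * g by simpa using conj_pow (a := g⁻¹) (b := x) (i := p)]
        simp [hxp]
      · rw [restrictAct_apply]
        show φ (g⁻¹ * x * g) (u : V) = u
        rw [map_mul, map_mul, MulAut.mul_apply, MulAut.mul_apply, hcomp, map_inv, MulAut.inv_apply_self]
    refine ⟨_, hM₁n.conj_mem _ hmem c, ?_⟩
    show (c : H) * (g⁻¹ * x * g) * (c : H)⁻¹ = h * x * h⁻¹
    rw [hc]
    group
  -- one central subgroup of order `p`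
  have hzne : zpowers z ≠ ⊥ := by
    rw [Ne, zpowers_eq_bot, ← orderOf_eq_one_iff, hz]; exact hp.out.ne_one
  haveI hzn : (zpowers z).Normal := hcyc ▸ hZn
  have hzfix : ∀ v : V, φ z v = v → v = 1 := by
    intro v hv
    refine mem_bot.1 (hfix _ hzn (hzZ.trans hZN) hzne ▸ (?_ : v ∈ fixOf φ (zpowers z)))
    intro k hk
    rw [← (isOfFinOrder_of_finite z).mem_powers_iff_mem_zpowers] at hk
    obtain ⟨i, rfl⟩ := hk
    induction i with
    | zero => simp
    | succ i ihi => show φ (z ^ (i + 1)) v = v; rw [pow_succ, map_mul, MulAut.mul_apply, hv]; exact ihi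
  by_cases hB : ∃ B : Subgroup H, B.Normal ∧ B ≤ N ∧ ¬ B ≤ Z ∧ Z ≤ B ∧
      (∀ a ∈ B, a ^ p = 1) ∧ (∀ a ∈ B, ∀ b ∈ B, Commute a b) ∧
      ∀ a ∈ B, ∀ x ∈ N, a * x * a⁻¹ * x⁻¹ ∈ Z
  · obtain ⟨B, hBn, hBN, hBZ, hZB, hBp, hBc, hBx⟩ := hB
    obtain ⟨K, hKB, ⟨w, hwK, hw1⟩, hKmax⟩ := hmax B
    have hKz : ∀ k ∈ K, k ∈ Z → k = 1 := by
      intro k hk hkZ
      by_contra hk1
      rw [hcyc] at hkZ
      have : zpowers k = zpowers z := eq_of_le_of_card_ge (zpowers_le.2 hkZ) (by
        rw [Nat.card_zpowers, Nat.card_zpowers, hz, orderOf_eq_prime (hBp k (hKB hk)) hk1])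
      exact hw1 (hzfix w (hwK z (zpowers_le.2 hk (this ▸ mem_zpowers z))))
    have hgenB : B ≤ K ⊔ Z := by
      intro y hy
      by_contra hyn
      let ψ : B →* MulAut (fixOf φ K) :=
        restrictAct φ B (fixOf φ K) fun g hg u hu => apply_mem_fixOf φ (fun k hk => by
          rwa [mul_assoc, (hBc k (hKB hk) g hg).eq, inv_mul_cancel_left]) hu
      obtain ⟨i, -, u, hu1, hu⟩ := exists_fixed_rank_two (z := (⟨z, hZB hzc⟩ : B)) ψ
        (hcopV.coprime_dvd_right (card_subgroup_dvd_card _))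
        (u := ⟨y, hy⟩) (Subtype.ext (hBp y hy)) (Subtype.ext hzc.2.1) (Subtype.ext (hBc y hy z (hZB hzc)).eq)
        (fun u hu => Subtype.ext (hzfix u (congrArg Subtype.val hu)))
        ⟨⟨w, hwK⟩, fun e => hw1 (congrArg Subtype.val e)⟩
      have hh := hKmax (K ⊔ zpowers (y * z ^ i)) le_sup_left
        (sup_le hKB (zpowers_le.2 (B.mul_mem hy (B.pow_mem (hZB hzc) i))))
        ⟨u, fixOf_sup φ u.2 (fun k hk => by
          rw [← (isOfFinOrder_of_finite (y * z ^ i)).mem_powers_iff_mem_zpowers] at hk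
          obtain ⟨j, rfl⟩ := hk
          induction j with
          | zero => simp
          | succ j ihj =>
            show φ ((y * z ^ i) ^ (j + 1)) (u : V) = u
            rw [pow_succ, map_mul, MulAut.mul_apply,
              show φ (y * z ^ i) (u : V) = u from congrArg Subtype.val hu]
            exact ihj), fun e => hu1 (Subtype.ext e)⟩
      refine hyn ?_
      have h1 : y * z ^ i ∈ K := hh ▸ mem_sup_right (mem_zpowers _)
      simpa using mul_mem (mem_sup_left (T := Z) h1) (inv_mem (mem_sup_right (S := K) (pow_mem hzc i)))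
    refine ⟨N ⊓ centralizer (B : Set H), ?_, inf_le_left, fun e => hBZ ?_, w, fun x hx hxp hxw => ⟨hx, ?_⟩⟩
    · haveI := hBn
      exact Subgroup.normal_inf_normal _ _
    · intro b hb
      exact ⟨hBN hb, hBp b hb, fun y hy => (mem_centralizer_iff.1 (inf_eq_left.1 e hy) b hb)⟩
    set K' := K.map (MulAut.conj x).toMonoidHom with hK'
    have hK'B : K' ≤ B := by
      rintro _ ⟨k, hk, rfl⟩
      exact hBn.conj_mem k (hKB hk) x
    have hwK' : w ∈ fixOf φ K' := by
      rintro _ ⟨k, hk, rfl⟩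
      show φ (x * k * x⁻¹) w = w
      have hxi : φ x⁻¹ w = w := by
        conv_lhs => rw [← hxw]
        rw [map_inv, MulAut.inv_apply_self]
      rw [map_mul, map_mul, MulAut.mul_apply, MulAut.mul_apply, hxi, hwK k hk, hxw]
    have hKK' : K' = K := hsame hKB hK'B hKmax (card_map_of_injective (MulAut.conj x).injective) w hwK hwK' hw1
    refine mem_centralizer_iff.2 fun b hb => ?_
    suffices h : B ≤ centralizer ({x} : Set H) from (mem_centralizer_iff.1 (h hb) x rfl).symm
    refine hgenB.trans (sup_le (fun k hk => mem_centralizer_iff.2 ?_) fun k hk => mem_centralizer_iff.2 ?_)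
    · intro a ha
      rw [Set.mem_singleton_iff.1 ha]
      have h1 : k * x * k⁻¹ * x⁻¹ ∈ Z := hBx k (hKB hk) x hx
      have h2 : k * x * k⁻¹ * x⁻¹ ∈ K := by
        rw [show k * x * k⁻¹ * x⁻¹ = k * (x * k⁻¹ * x⁻¹) by group]
        exact mul_mem hk (hKK' ▸ ⟨k⁻¹, inv_mem hk, rfl⟩)
      have h3 := hKz _ h2 h1
      rw [mul_inv_eq_one, mul_inv_eq_iff_eq_mul] at h3
      exact h3.symm
    · intro a ha
      rw [Set.mem_singleton_iff.1 ha]
      exact (hk.2.2 x hx).symm.eq
  -- symplectic type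
  have hsymp : ∀ A : Subgroup N, A.Characteristic → IsMulCommutative A → IsCyclic A := by
    intro A hA hAc
    by_contra hcyA
    refine hB ?_
    haveI := hA
    set A' := A.map N.subtype with hA'
    haveI hA'n : A'.Normal := inferInstance
    have hA'c : ∀ a ∈ A', ∀ b ∈ A', Commute a b := by
      rintro _ ⟨a, ha, rfl⟩ _ ⟨b, hb, rfl⟩
      exact congrArg (fun c : A => ((c : N) : H)) (hAc.is_comm.comm ⟨a, ha⟩ ⟨b, hb⟩)
    have hzA : z ∈ A' := by
      have hA1 : A ≠ ⊥ := fun e => hcyA (by rw [e]; infer_instance)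
      haveI := hNp.isNilpotent
      obtain ⟨c, hcA, hcc, hc1⟩ := CfsgLib.Coprime39.exists_central_mem A hA1
      obtain ⟨k, hk⟩ := hNp c
      obtain ⟨m, -, hm⟩ := (Nat.dvd_prime_pow hp.out).1 (orderOf_dvd_of_pow_eq_one hk)
      have hm0 : m ≠ 0 := fun e => hc1 (orderOf_eq_one_iff.1 (by rw [hm, e, pow_zero]))
      set d := c ^ p ^ (m - 1) with hd
      have hdp : orderOf d = p := by
        rw [hd, orderOf_pow' _ (pow_pos hp.out.pos _).ne', hm,
          Nat.gcd_eq_right (pow_dvd_pow p (Nat.sub_le m 1)), Nat.pow_div (Nat.sub_le m 1) hp.out.pos,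
          show m - (m - 1) = 1 by omega, pow_one]
      have hdZ : (d : H) ∈ Z := ⟨d.2, by rw [← hdp, ← Subgroup.orderOf_coe, pow_orderOf_eq_one],
        fun y hy => (congrArg Subtype.val (mem_center_iff.1 ((center N).pow_mem hcc _) ⟨y, hy⟩)).symm⟩
      rw [hcyc] at hdZ
      have he : zpowers (d : H) = zpowers z := eq_of_le_of_card_ge (zpowers_le.2 hdZ) (by
        rw [Nat.card_zpowers, Nat.card_zpowers, hz, Subgroup.orderOf_coe, hdp])
      have hdA : (d : H) ∈ A' := ⟨d, A.pow_mem hcA _, rfl⟩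
      exact (zpowers_le.2 hdA) (he ▸ mem_zpowers z)
    let B₁ : Subgroup H :=
      { carrier := {a | a ∈ A' ∧ a ^ p = 1}
        one_mem' := ⟨one_mem _, one_pow p⟩
        mul_mem' := fun {a b} ha hb => ⟨mul_mem ha.1 hb.1, by
          rw [(hA'c a ha.1 b hb.1).mul_pow, ha.2, hb.2, one_mul]⟩
        inv_mem' := fun {a} ha => ⟨inv_mem ha.1, by rw [inv_pow, ha.2, inv_one]⟩ }
    have hB₁N : B₁ ≤ N := fun a ha => map_subtype_le _ ha.1
    haveI hB₁n : B₁.Normal := ⟨fun a ha g => ⟨hA'n.conj_mem a ha.1 g, by rw [conj_pow, ha.2, mul_one, mul_inv_cancel]⟩⟩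
    have hZB₁ : Z ≤ B₁ := by
      rw [hcyc]
      exact zpowers_le.2 ⟨hzA, hzc.2.1⟩
    let B₂ : Subgroup H :=
      { carrier := {a | a ∈ B₁ ∧ ∀ x ∈ N, a * x * a⁻¹ * x⁻¹ ∈ Z}
        one_mem' := ⟨one_mem _, fun x _ => by simp⟩
        mul_mem' := fun {a b} ha hb => ⟨mul_mem ha.1 hb.1, fun x hx => by
          have := mul_mem (hZn.conj_mem _ (hb.2 x hx) a) (ha.2 x hx)
          rwa [show a * b * x * (a * b)⁻¹ * x⁻¹ = a * (b * x * b⁻¹ * x⁻¹) * a⁻¹ * (a * x * a⁻¹ * x⁻¹) by group]⟩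
        inv_mem' := fun {a} ha => ⟨inv_mem ha.1, fun x hx => by
          have := hZn.conj_mem _ (inv_mem (ha.2 x hx)) a⁻¹
          rwa [show a⁻¹ * x * a⁻¹⁻¹ * x⁻¹ = a⁻¹ * (a * x * a⁻¹ * x⁻¹)⁻¹ * a⁻¹⁻¹ by group]⟩ }
    refine ⟨B₂, ⟨fun a ha g => ⟨hB₁n.conj_mem a ha.1 g, fun x hx => ?_⟩⟩, fun a ha => hB₁N ha.1, ?_,
      fun a ha => ⟨hZB₁ ha, fun x hx => ?_⟩, fun a ha => ha.1.2, fun a ha b hb => hA'c a ha.1.1 b hb.1.1,
      fun a ha x hx => ha.2 x hx⟩
    · have := hZn.conj_mem _ (ha.2 (g⁻¹ * x * g) (by simpa using hN.conj_mem x hx g⁻¹)) g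
      rwa [show g * a * g⁻¹ * x * (g * a * g⁻¹)⁻¹ * x⁻¹ =
        g * (a * (g⁻¹ * x * g) * a⁻¹ * (g⁻¹ * x * g)⁻¹) * g⁻¹ by group]
    swap
    · rw [show a * x * a⁻¹ * x⁻¹ = 1 by rw [(ha.2.2 x hx).eq]; group]
      exact one_mem _
    -- `B₁` is not inside `Z`, and meets the second centre
    intro hB₂
    obtain ⟨b, hbB, hbZ⟩ : ∃ b ∈ B₁, b ∉ Z := by
      by_contra! hle
      refine hcyA (CfsgLib.ConstStab.isCyclic_of_unique_prime_subgroup hp2 (hNp.to_subgroup A) ?_)
      intro a b ha1 hap hbp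
      have hmem : ∀ c : A, c ^ p = 1 → ((c : N) : H) ∈ zpowers z := fun c hc => hcyc ▸ hle _
        ⟨⟨c, c.2, rfl⟩, congrArg (fun c : A => ((c : N) : H)) hc⟩
      have he : zpowers ((a : N) : H) = zpowers z := eq_of_le_of_card_ge (zpowers_le.2 (hmem a hap)) (by
        rw [Nat.card_zpowers, Nat.card_zpowers, hz, Subgroup.orderOf_coe, Subgroup.orderOf_coe,
          orderOf_eq_prime hap ha1])
      obtain ⟨j, hj⟩ := mem_zpowers_iff.1 (he.ge (hmem b hbp))
      exact mem_zpowers_iff.2 ⟨j, Subtype.ext (Subtype.ext hj)⟩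
    let f := QuotientGroup.mk' (Z.subgroupOf N)
    haveI := hNp.isNilpotent
    haveI : Group.IsNilpotent (N ⧸ Z.subgroupOf N) := inferInstance
    haveI : ((B₁.subgroupOf N).map f).Normal :=
      (inferInstance : (B₁.subgroupOf N).Normal).map f (QuotientGroup.mk'_surjective _)
    obtain ⟨c, hcB, hcc, hc1⟩ := CfsgLib.Coprime39.exists_central_mem ((B₁.subgroupOf N).map f) (fun e => hbZ (by
      have : f ⟨b, hB₁N hbB⟩ ∈ (B₁.subgroupOf N).map f := mem_map_of_mem f hbB
      rw [e, mem_bot] at this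
      exact mem_subgroupOf.1 ((QuotientGroup.eq_one_iff _).1 this)))
    obtain ⟨a, ha, rfl⟩ := hcB
    refine hc1 ((QuotientGroup.eq_one_iff _).2 (mem_subgroupOf.2 (hB₂ ⟨ha, fun x hx => ?_⟩)))
    have h1 : f (a * ⟨x, hx⟩ * a⁻¹ * (⟨x, hx⟩ : N)⁻¹) = 1 := by
      rw [map_mul, map_mul, map_mul, map_inv, map_inv, ← (mem_center_iff.1 hcc (f ⟨x, hx⟩))]
      group
    exact mem_subgroupOf.1 ((QuotientGroup.eq_one_iff _).1 h1)
  obtain ⟨E, R, hER, hsup, hE, hR⟩ := Cfsg.Agent.S3762.result hNp hsymp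
  haveI hRc : IsCyclic R := hR.resolve_right fun h => hp2 h.1
  -- commutators are central
  have hRcent : R ≤ center N := by
    intro r hr
    refine mem_center_iff.2 fun x => ?_
    have hle : (⊤ : Subgroup N) ≤ centralizer ({r} : Set N) := hsup.ge.trans (sup_le
      (fun e he => mem_centralizer_iff.2 fun a ha => by rw [Set.mem_singleton_iff.1 ha]; exact (hER e he r hr).symm)
      (fun e he => mem_centralizer_iff.2 fun a ha => by
        rw [Set.mem_singleton_iff.1 ha]
        exact congrArg Subtype.val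
          ((IsCyclic.commGroup (α := R)).mul_comm ⟨r, hr⟩ ⟨e, he⟩)))
    exact (mem_centralizer_iff.1 (hle (mem_top x)) r rfl).symm
  have hcomN : ∀ a b : N, ⁅a, b⁆ ∈ center N := by
    have hEc : ∀ a ∈ E, ∀ b ∈ E, ⁅a, b⁆ ∈ center N := by
      intro a ha b hb
      rcases hE with rfl | hE
      · rw [mem_bot.1 ha]; simp
      have h : ⁅(⟨a, ha⟩ : E), (⟨b, hb⟩ : E)⁆ ∈ center E :=
        hE.1.2.2 ▸ commutator_mem_commutator (mem_top _) (mem_top _)
      refine mem_center_iff.2 fun x => ?_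
      have hle : (⊤ : Subgroup N) ≤ centralizer ({⁅a, b⁆} : Set N) := hsup.ge.trans (sup_le
        (fun e he => mem_centralizer_iff.2 fun c hc => by
          rw [Set.mem_singleton_iff.1 hc]
          exact (congrArg Subtype.val (mem_center_iff.1 h ⟨e, he⟩)).symm)
        (fun e he => mem_centralizer_iff.2 fun c hc => by
          rw [Set.mem_singleton_iff.1 hc]
          exact mem_center_iff.1 (hRcent he) _))
      exact (mem_centralizer_iff.1 (hle (mem_top x)) _ rfl).symm
    intro a b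
    let q := QuotientGroup.mk' (center N)
    suffices h : Commute (q a) (q b) from (QuotientGroup.eq_one_iff _).1 (by
      show q ⁅a, b⁆ = 1
      rw [map_commutatorElement]
      exact commutatorElement_eq_one_iff_commute.2 h)
    obtain ⟨e, he, r, hr, rfl⟩ : ∃ e ∈ E, ∃ r ∈ R, e * r = a := by
      haveI : R.Normal := ⟨fun r hr g => by rwa [mem_center_iff.1 (hRcent hr) g, mul_inv_cancel_right]⟩
      exact mem_sup_of_normal_right.1 (hsup.ge (mem_top a))
    obtain ⟨e', he', r', hr', rfl⟩ : ∃ e ∈ E, ∃ r ∈ R, e * r = b := by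
      haveI : R.Normal := ⟨fun r hr g => by rwa [mem_center_iff.1 (hRcent hr) g, mul_inv_cancel_right]⟩
      exact mem_sup_of_normal_right.1 (hsup.ge (mem_top b))
    rw [map_mul, map_mul, show q r = 1 from (QuotientGroup.eq_one_iff _).2 (hRcent hr),
      show q r' = 1 from (QuotientGroup.eq_one_iff _).2 (hRcent hr'), mul_one, mul_one]
    exact commutatorElement_eq_one_iff_commute.1 (by
      rw [← map_commutatorElement]; exact (QuotientGroup.eq_one_iff _).2 (hEc e he e' he'))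
  have hexp : ∀ x ∈ N, x ^ p = 1 := by
    let T : Subgroup H :=
      { carrier := {x | x ∈ N ∧ x ^ p = 1}
        one_mem' := ⟨one_mem N, one_pow p⟩
        mul_mem' := fun {a b} ha hb => ⟨mul_mem ha.1 hb.1, by
          have hc := hcomN ⟨b, hb.1⟩ ⟨a, ha.1⟩
          have hb' : (⟨b, hb.1⟩ : N) ^ p = 1 := Subtype.ext hb.2
          have ha' : (⟨a, ha.1⟩ : N) ^ p = 1 := Subtype.ext ha.2
          have hzp : ⁅(⟨b, hb.1⟩ : N), (⟨a, ha.1⟩ : N)⁆ ^ p = 1 := by
            set bN : N := ⟨b, hb.1⟩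
            set aN : N := ⟨a, ha.1⟩
            have h1 : (bN * aN * bN⁻¹) ^ p = 1 := by rw [conj_pow, ha', mul_one, mul_inv_cancel]
            have h2 : bN * aN * bN⁻¹ = ⁅bN, aN⁆ * aN := by rw [commutatorElement_def]; group
            rw [h2, (show Commute ⁅bN, aN⁆ aN from (mem_center_iff.1 hc aN).symm).mul_pow, ha', mul_one] at h1
            exact h1
          have h := Cfsg.Tech46.PCentral.mul_pow_of_comm_central (p := p) hp2 hc hzp
          rw [ha', hb', mul_one] at h
          exact congrArg Subtype.val h⟩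
        inv_mem' := fun {a} ha => ⟨inv_mem ha.1, by rw [inv_pow, ha.2, inv_one]⟩ }
    intro x hx
    exact ((closure_le T).2 (fun y hy => hy) (hgen.ge hx) : x ∈ T).2
  let ψ : N →* MulAut V := φ.comp N.subtype
  have hpz : ∀ g : N, (∀ k, Commute g k) → g ∈ zpowers (⟨z, hzc.1⟩ : N) := fun g hg => by
    have hgZ : (g : H) ∈ Z := ⟨g.2, hexp g g.2, fun y hy => congrArg Subtype.val (hg ⟨y, hy⟩).eq⟩
    rw [hcyc] at hgZ
    obtain ⟨j, hj⟩ := mem_zpowers_iff.1 hgZ
    exact mem_zpowers_iff.2 ⟨j, Subtype.ext hj⟩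
  have hex : Extra ψ p (⟨z, hzc.1⟩ : N) := by
    refine ⟨Subtype.ext hzc.2.1, fun e => hzne (zpowers_eq_bot.2 (congrArg Subtype.val e)),
      fun g => Subtype.ext (hzc.2.2 g g.2).symm.eq, hpz, fun g => ?_,
      fun g k => hpz _ fun y => ?_, hzfix⟩
    · rw [show g ^ p = 1 from Subtype.ext (hexp g g.2)]
      exact one_mem _
    · rw [← commutatorElement_def]
      exact (mem_center_iff.1 (hcomN g k) y).symm
  obtain ⟨d, hd⟩ := exists_free_extra ψ hp2 hex hcopV ⟨v₀, fun e => hv₀ (by rw [e, map_one])⟩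
  exact ⟨⊥, inferInstance, bot_le, Ne.symm hN1, d, fun x hx _ hxd =>
    mem_bot.2 (congrArg Subtype.val (hd ⟨x, hx⟩ hxd))⟩

end CfsgLib.KGV.Avoid
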