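import Mathlib.GroupTheory.PGroup
import Mathlib.GroupTheory.OrderOfElement
import Mathlib.GroupTheory.Commutator.Basic
import Mathlib.Data.Nat.Choose.Dvd
import Mathlib.Algebra.Group.Action.End
import Mathlib.Tactic

/-!
# Free orbits of abelian and extraspecial groups acting coprimely on abelian groups
-/

set_option autoImplicit false
set_option linter.style.haveILetI false
set_option linter.unusedSectionVars false

universe u v

noncomputable section

namespace CfsgLib.KGV.CoprimeOrbit

variable {P : Type u} [Group P] [Finite P] {D : Type v} [CommGroup D] [Finite D]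
  (φ : P →* MulAut D)

/-- Fixed subgroup of an element. -/
def fixD (u : P) : Subgroup D where
  carrier := {x | φ u x = x}
  one_mem' := map_one (φ u)
  mul_mem' {a b} ha hb := by
    show φ u (a * b) = a * b
    rw [map_mul, ha, hb]
  inv_mem' {a} ha := by
    show φ u a⁻¹ = a⁻¹
    rw [map_inv, ha]

theorem mem_fixD {u : P} {x : D} : x ∈ fixD φ u ↔ φ u x = x := Iff.rfl

/-- The product over a cyclic group. -/
def orbProd (u : P) (x : D) : D := ∏ j ∈ Finset.range (orderOf u), φ (u ^ j) x

theorem orbProd_mul (u : P) (x y : D) : orbProd φ u (x * y) = orbProd φ u x * orbProd φ u y := by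
  simp [orbProd, Finset.prod_mul_distrib]

theorem apply_orbProd (u : P) (x : D) : φ u (orbProd φ u x) = orbProd φ u x := by
  have h : φ u (orbProd φ u x) = ∏ j ∈ Finset.range (orderOf u), φ (u ^ (j + 1)) x := by
    simp [orbProd, pow_succ', map_mul, MulAut.mul_apply]
  have h2 := Finset.prod_range_succ (fun j => φ (u ^ j) x) (orderOf u)
  rw [Finset.prod_range_succ', pow_orderOf_eq_one, pow_zero] at h2
  rw [h]
  exact mul_right_cancel h2

theorem apply_pow_fixed {u : P} {x : D} (h : φ u x = x) : ∀ j : ℕ, φ (u ^ j) x = x := by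
  intro j
  induction j with
  | zero => simp
  | succ j ih => rw [pow_succ, map_mul, MulAut.mul_apply, h, ih]

theorem orbProd_of_fixed {u : P} {x : D} (h : φ u x = x) : orbProd φ u x = x ^ orderOf u := by
  rw [orbProd, Finset.prod_congr rfl fun j _ => apply_pow_fixed φ h j, Finset.prod_const,
    Finset.card_range]

theorem eq_one_of_pow_orderOf (hcop : (Nat.card P).Coprime (Nat.card D)) {u : P} {x : D}
    (h : x ^ orderOf u = 1) : x = 1 := by
  have h2 : x ^ Nat.card D = 1 := pow_card_eq_one'
  have := pow_gcd_eq_one.2 ⟨h, h2⟩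
  rwa [Nat.Coprime.gcd_eq_one (hcop.coprime_dvd_left (orderOf_dvd_natCard u)), pow_one] at this

/-- **Abelian groups acting coprimely on abelian groups have an orbit of maximal size.** -/
theorem exists_free_abelian (hcop : (Nat.card P).Coprime (Nat.card D))
    (hab : ∀ a b : P, a * b = b * a) : ∃ d : D, ∀ u : P, φ u d = d → φ u = 1 := by
  classical
  haveI := Fintype.ofFinite P
  obtain ⟨d, -, hmin⟩ := Set.exists_min_image (Set.univ : Set D)
    (fun d => Nat.card {u : P // φ u d = d}) (Set.toFinite _) ⟨1, trivial⟩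
  refine ⟨d, fun u hu => ?_⟩
  by_contra hne
  obtain ⟨x, hx⟩ : ∃ x, φ u x ≠ x := by
    by_contra! hcon
    exact hne (MulEquiv.ext hcon)
  set o := orderOf u with ho
  set e := x ^ o * (orbProd φ u x)⁻¹ with he
  have hA : orbProd φ u e = 1 := by
    have h1 : orbProd φ u (x ^ o) = orbProd φ u x ^ o := by
      simp [orbProd, Finset.prod_pow]
    have h2 : orbProd φ u (orbProd φ u x)⁻¹ = ((orbProd φ u x)⁻¹) ^ o :=
      orbProd_of_fixed φ (by rw [map_inv, apply_orbProd])
    rw [he, orbProd_mul, h1, h2, inv_pow, mul_inv_cancel]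
  have hefix : φ u e ≠ e := by
    intro h
    rw [orbProd_of_fixed φ h] at hA
    have he1 := eq_one_of_pow_orderOf hcop hA
    rw [he, mul_inv_eq_one] at he1
    have h3 : (φ u x * x⁻¹) ^ o = 1 := by
      rw [mul_pow, inv_pow, ← map_pow, he1, apply_orbProd, ← he1, mul_inv_cancel]
    exact hx (mul_inv_eq_one.1 (eq_one_of_pow_orderOf hcop h3))
  have hsub : ∀ v : P, φ v (d * e) = d * e → φ v d = d ∧ φ v e = e := by
    intro v hv
    have hcomm : ∀ y, φ u (φ v y) = φ v (φ u y) := fun y => by
      rw [← MulAut.mul_apply, ← map_mul, hab, map_mul, MulAut.mul_apply]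
    have hcomm' : ∀ y, orbProd φ u (φ v y) = φ v (orbProd φ u y) := fun y => by
      simp only [orbProd, map_prod]
      refine Finset.prod_congr rfl fun j _ => ?_
      rw [← MulAut.mul_apply, ← map_mul, hab, map_mul, MulAut.mul_apply]
    have h1 : φ v d * d⁻¹ = e * (φ v e)⁻¹ := by
      rw [map_mul] at hv
      rw [mul_inv_eq_iff_eq_mul]
      calc φ v d = φ v d * φ v e * (φ v e)⁻¹ := (mul_inv_cancel_right _ _).symm
        _ = d * e * (φ v e)⁻¹ := by rw [hv]
        _ = e * (φ v e)⁻¹ * d := by rw [mul_comm (e * (φ v e)⁻¹) d, mul_assoc]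
    have hyfix : φ u (φ v d * d⁻¹) = φ v d * d⁻¹ := by
      rw [map_mul, map_inv, hu, hcomm, hu]
    have hy : φ v d * d⁻¹ = 1 := by
      apply eq_one_of_pow_orderOf hcop (u := u)
      rw [← orbProd_of_fixed φ hyfix, h1, orbProd_mul, hA, one_mul]
      have : orbProd φ u (φ v e)⁻¹ = (orbProd φ u (φ v e))⁻¹ := by
        simp [orbProd, Finset.prod_inv_distrib]
      rw [this, hcomm', hA, map_one, inv_one]
    refine ⟨mul_inv_eq_one.1 hy, ?_⟩
    rw [hy] at h1
    exact (mul_inv_eq_one.1 h1.symm).symm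
  have hlt : Nat.card {v : P // φ v (d * e) = d * e} < Nat.card {v : P // φ v d = d} := by
    rw [Nat.card_eq_fintype_card, Nat.card_eq_fintype_card]
    refine Fintype.card_lt_of_injective_of_notMem
      (fun v : {v : P // φ v (d * e) = d * e} => (⟨v.1, (hsub v.1 v.2).1⟩ : {v : P // φ v d = d}))
      (fun a b h => by have := congrArg Subtype.val h; exact Subtype.ext this) (b := ⟨u, hu⟩) ?_
    rintro ⟨v, hv⟩
    have hvu : v.1 = u := congrArg Subtype.val hv
    exact hefix (hvu ▸ (hsub v.1 v.2).2)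
  exact absurd (hmin (d * e) trivial) (not_le.2 hlt)

section Prime

variable {p : ℕ} [hp : Fact p.Prime] {z : P}

theorem pow_fixedPointFree (hz : z ^ p = 1) (hfpf : ∀ x : D, φ z x = x → x = 1) {j : ℕ}
    (hj : ¬ p ∣ j) {x : D} (hx : φ (z ^ j) x = x) : x = 1 := by
  apply hfpf
  obtain ⟨m, hm⟩ : ∃ m, j * m ≡ 1 [MOD p] := by
    refine ⟨((j : ZMod p)⁻¹).val, ?_⟩
    rw [← ZMod.natCast_eq_natCast_iff, Nat.cast_mul, ZMod.natCast_zmod_val, Nat.cast_one,
      mul_inv_cancel₀ (by rwa [Ne, ZMod.natCast_eq_zero_iff])]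
  have h1 := apply_pow_fixed φ hx m
  rw [← pow_mul] at h1
  have h2 : z ^ (j * m) = z ^ 1 :=
    pow_eq_pow_iff_modEq.2 (hm.of_dvd (orderOf_dvd_of_pow_eq_one hz))
  rwa [h2, pow_one] at h1

theorem prod_pow_fixedPointFree (hz : z ^ p = 1) (hfpf : ∀ x : D, φ z x = x → x = 1) {j : ℕ}
    (hj : ¬ p ∣ j) (x : D) : ∏ i ∈ Finset.range p, φ ((z ^ j) ^ i) x = 1 := by
  refine pow_fixedPointFree φ hz hfpf hj ?_
  rw [map_prod]
  have hshift : ∀ i, φ (z ^ j) (φ ((z ^ j) ^ i) x) = φ ((z ^ j) ^ (i + 1)) x := fun i => by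
    rw [← MulAut.mul_apply, ← map_mul, ← pow_succ']
  simp only [hshift]
  have h2 := Finset.prod_range_succ (fun i => φ ((z ^ j) ^ i) x) p
  have h3 : φ ((z ^ j) ^ p) x = φ ((z ^ j) ^ 0) x := by
    rw [← pow_mul, mul_comm, pow_mul, hz, one_pow, pow_zero]
  rw [Finset.prod_range_succ', h3] at h2
  exact mul_right_cancel h2

/-- Two commuting elements of order `p` generating a fixed-point-free elementary group. -/
theorem exists_fixed_rank_two (hcop : p.Coprime (Nat.card D)) {u : P} (hu : u ^ p = 1)
    (hz : z ^ p = 1) (huz : Commute u z) (hfpf : ∀ x : D, φ z x = x → x = 1) (hD : ∃ x : D, x ≠ 1) :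
    ∃ i < p, ∃ x : D, x ≠ 1 ∧ φ (u * z ^ i) x = x := by
  classical
  by_contra! hcon
  obtain ⟨x, hx⟩ := hD
  apply hx
  -- each product over `⟨u z^i⟩` is a fixed point, hence trivial
  have havg : ∀ i < p, ∏ j ∈ Finset.range p, φ ((u * z ^ i) ^ j) x = 1 := by
    intro i hi
    by_contra hne
    refine hcon i hi _ hne ?_
    rw [map_prod]
    have hshift : ∀ j, φ (u * z ^ i) (φ ((u * z ^ i) ^ j) x) = φ ((u * z ^ i) ^ (j + 1)) x :=
      fun j => by rw [← MulAut.mul_apply, ← map_mul, ← pow_succ']
    simp only [hshift]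
    have h2 := Finset.prod_range_succ (fun j => φ ((u * z ^ i) ^ j) x) p
    have h3 : φ ((u * z ^ i) ^ p) x = φ ((u * z ^ i) ^ 0) x := by
      rw [(huz.pow_right i).mul_pow, hu, ← pow_mul, mul_comm i p, pow_mul, hz, one_pow, mul_one,
        pow_zero]
    rw [Finset.prod_range_succ', h3] at h2
    exact mul_right_cancel h2
  have htot : ∏ i ∈ Finset.range p, ∏ j ∈ Finset.range p, φ ((u * z ^ i) ^ j) x = x ^ p := by
    rw [Finset.prod_comm, Finset.prod_eq_single 0]
    · simp
    · intro j hj hj0
      have hpj : ¬ p ∣ j := fun h => hj0 (Nat.eq_zero_of_dvd_of_lt h (Finset.mem_range.1 hj))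
      have e : ∀ i, φ ((u * z ^ i) ^ j) x = φ (u ^ j) (φ ((z ^ j) ^ i) x) := fun i => by
        rw [(huz.pow_right i).mul_pow, map_mul, MulAut.mul_apply, ← pow_mul, ← pow_mul, mul_comm]
      simp only [e]
      rw [← map_prod, prod_pow_fixedPointFree φ hz hfpf hpj, map_one]
    · intro h; exact absurd (Finset.mem_range.2 hp.out.pos) h
  rw [Finset.prod_eq_one fun i hi => havg i (Finset.mem_range.1 hi)] at htot
  have := pow_gcd_eq_one.2 ⟨htot.symm, (pow_card_eq_one' : x ^ Nat.card D = 1)⟩
  rwa [hcop.gcd_eq_one, pow_one] at this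

/-- If `u` is conjugate to `u z` then `|C(u)| ^ p ≤ |D|`. -/
theorem card_fixD_pow_le (hcop : p.Coprime (Nat.card D)) {u w : P} (hu : u ^ p = 1)
    (hz : z ^ p = 1) (hcen : ∀ g, Commute g z) (hfpf : ∀ x : D, φ z x = x → x = 1)
    (hw : w * u * w⁻¹ = u * z) : Nat.card (fixD φ u) ^ p ≤ Nat.card D := by
  classical
  have hwi : ∀ i : ℕ, w ^ i * u * (w ^ i)⁻¹ = u * z ^ i := by
    intro i
    induction i with
    | zero => simp
    | succ i ih =>
      calc w ^ (i + 1) * u * (w ^ (i + 1))⁻¹ = w * (w ^ i * u * (w ^ i)⁻¹) * w⁻¹ := by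
            rw [pow_succ']; group
        _ = (w * u * w⁻¹) * (w * z ^ i * w⁻¹) := by rw [ih]; group
        _ = u * z * z ^ i := by rw [hw, ((hcen w).pow_right i).eq, mul_inv_cancel_right]
        _ = u * z ^ (i + 1) := by rw [pow_succ', mul_assoc]
  let f : (Fin p → fixD φ u) → D := fun c => ∏ i : Fin p, φ (w ^ (i : ℕ)) (c i : D)
  have hfix : ∀ (i : ℕ) (c : fixD φ u), φ (u * z ^ i) (φ (w ^ i) c) = φ (w ^ i) c := by
    intro i c
    rw [← MulAut.mul_apply, ← map_mul, ← hwi i, inv_mul_cancel_right, map_mul, MulAut.mul_apply,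
      (mem_fixD φ).1 c.2]
  have hkey : ∀ c, f c = 1 → c = 1 := by
    intro c hc
    funext k
    have h1 : ∏ j ∈ Finset.range p, φ ((u * z ^ (k : ℕ)) ^ j) (f c) = 1 := by simp [hc]
    simp only [f, map_prod] at h1
    rw [Finset.prod_comm, Finset.prod_eq_single k] at h1
    · simp only [apply_pow_fixed φ (hfix k (c k))] at h1
      rw [Finset.prod_const, Finset.card_range] at h1
      have h2 := pow_gcd_eq_one.2 ⟨h1, (pow_card_eq_one' : φ (w ^ (k : ℕ)) (c k : D) ^ Nat.card D = 1)⟩
      rw [hcop.gcd_eq_one, pow_one, EmbeddingLike.map_eq_one_iff] at h2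
      exact Subtype.ext h2
    · intro i _ hik
      set d : ℕ := (k : ℕ) + (p - (i : ℕ)) with hd
      have hd' : ¬ p ∣ d := by
        intro hdvd
        apply hik
        apply Fin.ext
        have h4 := i.2
        have h5 := k.2
        obtain ⟨q, hq⟩ := hdvd
        have hq1 : q = 1 := by
          rcases Nat.lt_or_ge q 2 with h6 | h6
          · rcases Nat.eq_zero_or_pos q with rfl | h7
            · omega
            · omega
          · have : p * 2 ≤ p * q := Nat.mul_le_mul_left _ h6
            omega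
        subst hq1
        omega
      have e : u * z ^ (k : ℕ) = u * z ^ (i : ℕ) * z ^ d := by
        rw [mul_assoc, ← pow_add, show (i : ℕ) + d = k + p by omega, pow_add, hz, mul_one]
      have hcomm : Commute (u * z ^ (i : ℕ)) (z ^ d) := (hcen _).pow_right _
      have e2 : ∀ j, φ ((u * z ^ (k : ℕ)) ^ j) (φ (w ^ (i : ℕ)) (c i)) =
          φ ((z ^ d) ^ j) (φ (w ^ (i : ℕ)) (c i)) := fun j => by
        rw [e, hcomm.mul_pow, (hcomm.pow_pow j j).eq, map_mul, MulAut.mul_apply,
          apply_pow_fixed φ (hfix i (c i))]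
      simp only [e2]
      exact prod_pow_fixedPointFree φ hz hfpf hd' _
    · intro h; exact absurd (Finset.mem_univ _) h
  have hinj : Function.Injective f := by
    intro a b hab
    have : f (a * b⁻¹) = 1 := by
      simp only [f, Pi.mul_apply, Pi.inv_apply, Subgroup.coe_mul, InvMemClass.coe_inv, map_mul,
        map_inv, Finset.prod_mul_distrib, Finset.prod_inv_distrib]
      exact mul_inv_eq_one.2 hab
    exact mul_inv_eq_one.1 (hkey _ this)
  calc Nat.card (fixD φ u) ^ p = Nat.card (Fin p → fixD φ u) := by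
        rw [Nat.card_fun, Nat.card_eq_fintype_card (α := Fin p), Fintype.card_fin]
    _ ≤ Nat.card D := Nat.card_le_card_of_injective f hinj

end Prime

/-- The hypotheses on an extraspecial (or cyclic) group with fixed-point-free centre. -/
structure Extra (p : ℕ) (z : P) : Prop where
  pow_eq : z ^ p = 1
  ne_one : z ≠ 1
  central : ∀ g, Commute g z
  center_le : ∀ g : P, (∀ h, Commute g h) → g ∈ Subgroup.zpowers z
  pow_mem : ∀ g : P, g ^ p ∈ Subgroup.zpowers z
  comm_mem : ∀ g h : P, g * h * g⁻¹ * h⁻¹ ∈ Subgroup.zpowers z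
  fpf : ∀ x : D, φ z x = x → x = 1

section Extra

variable {p : ℕ} [hp : Fact p.Prime] {z : P} {φ}

theorem Extra.orderOf_eq (h : Extra φ p z) : orderOf z = p := orderOf_eq_prime h.pow_eq h.ne_one

theorem Extra.exists_pow {g : P} (h : Extra φ p z) (hg : g ∈ Subgroup.zpowers z) :
    ∃ a < p, z ^ a = g := by
  obtain ⟨n, hn⟩ := (isOfFinOrder_of_finite z).mem_powers_iff_mem_zpowers.2 hg
  refine ⟨n % p, Nat.mod_lt _ hp.out.pos, ?_⟩
  rw [← h.orderOf_eq, pow_mod_orderOf]
  exact hn

theorem Extra.conj_eq (h : Extra φ p z) (g x : P) :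
    ∃ a < p, g * x * g⁻¹ = x * z ^ a := by
  obtain ⟨a, ha, ha'⟩ := h.exists_pow (h.comm_mem g x)
  refine ⟨a, ha, ?_⟩
  rw [((h.central x).pow_right a).eq, ha']
  group

theorem Extra.mul_pow_prime (h : Extra φ p z) (hp2 : p ≠ 2) (x y : P) :
    (x * y) ^ p = x ^ p * y ^ p := by
  obtain ⟨a, -, ha⟩ := h.conj_eq y x
  have hc : ∀ (g : P) (n : ℕ), Commute g (z ^ n) := fun g n => (h.central g).pow_right n
  have hyx : ∀ n : ℕ, y ^ n * x = x * y ^ n * z ^ (n * a) := by
    intro n
    induction n with
    | zero => simp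
    | succ n ih =>
      have h1 : y * x = x * y * z ^ a := by
        rw [mul_inv_eq_iff_eq_mul] at ha
        rw [ha, mul_assoc, ← (hc y a).eq, mul_assoc]
      calc y ^ (n + 1) * x = y * (y ^ n * x) := by rw [pow_succ', mul_assoc]
        _ = y * x * (y ^ n * z ^ (n * a)) := by rw [ih]; group
        _ = x * (y * (z ^ a * y ^ n)) * z ^ (n * a) := by rw [h1]; group
        _ = x * y ^ (n + 1) * z ^ ((n + 1) * a) := by
          rw [← (hc (y ^ n) a).eq, add_mul, one_mul, add_comm (n * a), pow_add z a, pow_succ']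
          group
  have hpow : ∀ n : ℕ, (x * y) ^ n = x ^ n * y ^ n * z ^ (n.choose 2 * a) := by
    intro n
    induction n with
    | zero => simp
    | succ n ih =>
      calc (x * y) ^ (n + 1) = x ^ n * y ^ n * (z ^ (n.choose 2 * a) * (x * y)) := by
            rw [pow_succ, ih]; group
        _ = x ^ n * (y ^ n * x) * y * z ^ (n.choose 2 * a) := by
            rw [← (hc (x * y) _).eq]; group
        _ = x ^ n * x * y ^ n * (z ^ (n * a) * y) * z ^ (n.choose 2 * a) := by rw [hyx]; group
        _ = x ^ (n + 1) * y ^ (n + 1) * z ^ ((n + 1).choose 2 * a) := by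
            rw [← (hc y _).eq, Nat.choose_succ_succ', Nat.choose_one_right, add_mul, pow_add z,
              pow_succ, pow_succ]
            group
  rw [hpow]
  have hdvd : p ∣ p.choose 2 := hp.out.dvd_choose_self two_ne_zero
    (lt_of_le_of_ne hp.out.two_le (Ne.symm hp2))
  obtain ⟨q, hq⟩ := hdvd
  rw [hq, mul_assoc p, pow_mul, h.pow_eq, one_pow, mul_one]

end Extra

theorem extra_bound {p : ℕ} [hp : Fact p.Prime] (hp2 : p ≠ 2) :
    ∀ (n : ℕ) {P : Type u} [Group P] [Finite P] {D : Type v} [CommGroup D] [Finite D]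
      (φ : P →* MulAut D) {z : P}, Nat.card P ≤ n → Extra φ p z → p.Coprime (Nat.card D) →
      (∃ x : D, x ≠ 1) → ∃ k, Nat.card P ≤ p ^ (2 * k + 1) ∧ (p + 1) ^ p ^ k ≤ Nat.card D := by
  intro n
  induction n with
  | zero =>
    intro P _ _ D _ _ φ z hn _ _ _
    exact absurd hn (by simpa using (Nat.card_pos (α := P)).ne')
  | succ n ih =>
    intro P _ _ D _ _ φ z hn h hcop hD
    classical
    by_cases hcomm : ∀ g x : P, Commute g x
    · refine ⟨0, ?_, ?_⟩
      · rw [mul_zero, zero_add, pow_one, ← h.orderOf_eq, ← Nat.card_zpowers]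
        exact Nat.card_le_card_of_injective (fun g : P => (⟨g, h.center_le g (hcomm g)⟩ :
          Subgroup.zpowers z)) fun a b hab => congrArg Subtype.val hab
      · rw [pow_zero, pow_one]
        obtain ⟨x, hx⟩ := hD
        let f : Option (Fin p) → D := fun o => o.elim 1 fun j => φ (z ^ (j : ℕ)) x
        have hf : Function.Injective f := by
          have hstep : ∀ i j : Fin p, (i : ℕ) < j → φ (z ^ (i : ℕ)) x ≠ φ (z ^ (j : ℕ)) x := by
            intro i j hij he
            apply hx
            refine pow_fixedPointFree φ h.pow_eq h.fpf (j := (j : ℕ) - i) ?_ ?_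
            · exact fun hd => absurd (Nat.le_of_dvd (by omega) hd) (by omega)
            · apply (φ (z ^ (i : ℕ))).injective
              rw [← MulAut.mul_apply, ← map_mul, ← pow_add, Nat.add_sub_cancel' hij.le]
              exact he.symm
          rintro (_ | i) (_ | j) he
          · rfl
          · exact absurd ((EmbeddingLike.map_eq_one_iff (f := φ (z ^ (j : ℕ)))).1 he.symm) hx
          · exact absurd ((EmbeddingLike.map_eq_one_iff (f := φ (z ^ (i : ℕ)))).1 he) hx
          · rcases lt_trichotomy (i : ℕ) j with hl | hl | hl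
            · exact absurd he (hstep i j hl)
            · rw [Fin.ext hl]
            · exact absurd he.symm (hstep j i hl)
        calc p + 1 = Nat.card (Option (Fin p)) := by simp
          _ ≤ Nat.card D := Nat.card_le_card_of_injective f hf
    · push Not at hcomm
      obtain ⟨g, x, hgx⟩ := hcomm
      -- a non-central element of order `p`
      obtain ⟨u₀, hu₀, hu₀c⟩ : ∃ u : P, u ^ p = 1 ∧ ¬ ∀ y, Commute u y := by
        by_cases hg : g ^ p = 1
        · exact ⟨g, hg, fun hc => hgx (hc x)⟩
        obtain ⟨a, ha, hga⟩ := h.exists_pow (h.pow_mem g)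
        obtain ⟨b, -, hxb⟩ := h.exists_pow (h.pow_mem x)
        have ha0 : ¬ p ∣ a := fun hd => hg (by
          rw [← hga, Nat.eq_zero_of_dvd_of_lt hd ha, pow_zero])
        refine ⟨x * g ^ (-(b : ZMod p) * (a : ZMod p)⁻¹).val, ?_, fun hc => hgx ?_⟩
        · rw [h.mul_pow_prime hp2, ← pow_mul, mul_comm _ p, pow_mul, ← hxb, ← hga, ← pow_mul,
            ← pow_add, ← orderOf_dvd_iff_pow_eq_one, h.orderOf_eq, ← ZMod.natCast_eq_zero_iff]
          push_cast
          rw [ZMod.natCast_zmod_val]
          have ha0' : (a : ZMod p) ≠ 0 := by rwa [Ne, ZMod.natCast_eq_zero_iff]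
          field_simp
          ring
        · have h1 := (hc g).symm.mul_right
            ((Commute.refl g).pow_right (-(b : ZMod p) * (a : ZMod p)⁻¹).val).inv_right
          rwa [mul_inv_cancel_right] at h1
      obtain ⟨i, -, x₀, hx₀, hfix⟩ :=
        exists_fixed_rank_two φ hcop hu₀ h.pow_eq (h.central u₀) h.fpf hD
      set u := u₀ * z ^ i with hudef
      have hu : u ^ p = 1 := by
        rw [hudef, ((h.central u₀).pow_right i).mul_pow, hu₀, ← pow_mul, mul_comm, pow_mul, h.pow_eq,
          one_pow, mul_one]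
      -- an element moving `u` to `u z`
      obtain ⟨w, hw⟩ : ∃ w, w * u * w⁻¹ = u * z := by
        obtain ⟨y, hy⟩ := not_forall.1 hu₀c
        obtain ⟨a, ha, hya⟩ := h.conj_eq y u
        have ha0 : a ≠ 0 := by
          rintro rfl
          rw [pow_zero, mul_one, mul_inv_eq_iff_eq_mul] at hya
          have h1 : Commute y u₀ := by
            have h2 := (show Commute y u from hya).mul_right ((h.central y).pow_right i).inv_right
            rwa [hudef, mul_inv_cancel_right] at h2
          exact hy h1.symm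
        obtain ⟨m, hm⟩ : ∃ m, a * m ≡ 1 [MOD p] := by
          refine ⟨((a : ZMod p)⁻¹).val, ?_⟩
          rw [← ZMod.natCast_eq_natCast_iff, Nat.cast_mul, ZMod.natCast_zmod_val, Nat.cast_one,
            mul_inv_cancel₀]
          rw [Ne, ZMod.natCast_eq_zero_iff]
          exact fun hd => ha0 (Nat.eq_zero_of_dvd_of_lt hd ha)
        refine ⟨y ^ m, ?_⟩
        have : ∀ m : ℕ, y ^ m * u * (y ^ m)⁻¹ = u * z ^ (a * m) := by
          intro m
          induction m with
          | zero => simp
          | succ m ihm =>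
            calc y ^ (m + 1) * u * (y ^ (m + 1))⁻¹ = y * (y ^ m * u * (y ^ m)⁻¹) * y⁻¹ := by
                  rw [pow_succ']; group
              _ = (y * u * y⁻¹) * (y * z ^ (a * m) * y⁻¹) := by rw [ihm]; group
              _ = u * (z ^ a * z ^ (a * m)) := by
                  rw [hya, ((h.central y).pow_right _).eq, mul_inv_cancel_right, mul_assoc]
              _ = u * z ^ (a * (m + 1)) := by rw [← pow_add]; congr 2; ring
        rw [this m, pow_eq_pow_iff_modEq.2 (h.orderOf_eq.symm ▸ hm : a * m ≡ 1 [MOD orderOf z]),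
          pow_one]
      let P' : Subgroup P := Subgroup.centralizer ({u} : Set P) ⊓ Subgroup.centralizer ({w} : Set P)
      have hmem : ∀ y, y ∈ P' ↔ Commute y u ∧ Commute y w := fun y => by
        simp only [P', Subgroup.mem_inf, Subgroup.mem_centralizer_singleton_iff]
        rfl
      have hzP' : z ∈ P' := (hmem z).2 ⟨(h.central u).symm, (h.central w).symm⟩
      let D' := fixD φ u
      have hDinv : ∀ (y : P') (d : D'), φ (y : P) d ∈ D' := fun y d => by
        show φ u (φ (y : P) d) = φ (y : P) d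
        rw [← MulAut.mul_apply, ← map_mul, ← ((hmem y).1 y.2).1.eq, map_mul, MulAut.mul_apply,
          (mem_fixD φ).1 d.2]
      let φ' : P' →* MulAut D' :=
        { toFun := fun y =>
            { toFun := fun d => ⟨φ (y : P) d, hDinv y d⟩
              invFun := fun d => ⟨φ ((y⁻¹ : P') : P) d, hDinv y⁻¹ d⟩
              left_inv := fun d => Subtype.ext (by simp [map_inv])
              right_inv := fun d => Subtype.ext (by simp [map_inv])
              map_mul' := fun a b => Subtype.ext (map_mul (φ (y : P)) _ _) }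
          map_one' := MulEquiv.ext fun d => Subtype.ext (by simp)
          map_mul' := fun a b => MulEquiv.ext fun d => Subtype.ext (by simp) }
      -- the decomposition of `P` over `P'`
      have hdec : ∀ y : P, ∃ a < p, ∃ b < p, y * (u ^ a * w ^ b)⁻¹ ∈ P' := by
        intro y
        obtain ⟨b, hb, hyb⟩ := h.conj_eq y u
        obtain ⟨c, hc, hyc⟩ := h.conj_eq y w
        have huw : u * w * u⁻¹ = w * z⁻¹ := by
          have h1 : w * u = u * z * w := mul_inv_eq_iff_eq_mul.1 hw
          have h2 : u * w = w * u * z⁻¹ := by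
            rw [h1, mul_assoc u z w, ← (h.central w).eq]
            group
          rw [h2, mul_assoc (w * u), ← mul_inv_rev, (h.central u).eq]
          group
        refine ⟨(-(c : ZMod p)).val, ZMod.val_lt _, b, hb, ?_⟩
        set a := (-(c : ZMod p)).val with ha
        have hu' : ∀ m : ℕ, u ^ m * w * (u ^ m)⁻¹ = w * (z⁻¹) ^ m := by
          intro m
          induction m with
          | zero => simp
          | succ m ihm =>
            calc u ^ (m + 1) * w * (u ^ (m + 1))⁻¹ = u * (u ^ m * w * (u ^ m)⁻¹) * u⁻¹ := by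
                  rw [pow_succ']; group
              _ = (u * w * u⁻¹) * (u * (z⁻¹) ^ m * u⁻¹) := by rw [ihm]; group
              _ = w * (z⁻¹ * (z⁻¹) ^ m) := by
                  rw [huw, (((h.central u).inv_right).pow_right m).eq, mul_inv_cancel_right, mul_assoc]
              _ = w * (z⁻¹) ^ (m + 1) := by rw [pow_succ']
        have hwb : ∀ m : ℕ, w ^ m * u * (w ^ m)⁻¹ = u * z ^ m := by
          intro m
          induction m with
          | zero => simp
          | succ m ihm =>
            calc w ^ (m + 1) * u * (w ^ (m + 1))⁻¹ = w * (w ^ m * u * (w ^ m)⁻¹) * w⁻¹ := by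
                  rw [pow_succ']; group
              _ = (w * u * w⁻¹) * (w * z ^ m * w⁻¹) := by rw [ihm]; group
              _ = u * (z * z ^ m) := by
                  rw [hw, ((h.central w).pow_right m).eq, mul_inv_cancel_right, mul_assoc]
              _ = u * z ^ (m + 1) := by rw [pow_succ']
        set q := u ^ a * w ^ b with hq
        have hqu : q * u * q⁻¹ = y * u * y⁻¹ := by
          rw [hyb]
          calc q * u * q⁻¹ = u ^ a * (w ^ b * u * (w ^ b)⁻¹) * (u ^ a)⁻¹ := by rw [hq]; group
            _ = (u ^ a * u * (u ^ a)⁻¹) * (u ^ a * z ^ b * (u ^ a)⁻¹) := by rw [hwb]; group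
            _ = u * z ^ b := by
              rw [((h.central _).pow_right b).eq, mul_inv_cancel_right,
                ((Commute.refl u).pow_left a).eq, mul_inv_cancel_right]
        have hqw : q * w * q⁻¹ = y * w * y⁻¹ := by
          rw [hyc]
          calc q * w * q⁻¹ = u ^ a * (w ^ b * w * (w ^ b)⁻¹) * (u ^ a)⁻¹ := by rw [hq]; group
            _ = u ^ a * w * (u ^ a)⁻¹ := by
              rw [((Commute.refl w).pow_left b).eq, mul_inv_cancel_right]
            _ = w * (z⁻¹) ^ a := hu' a
            _ = w * z ^ c := by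
              congr 1
              rw [inv_pow, inv_eq_iff_mul_eq_one, ← pow_add, ← orderOf_dvd_iff_pow_eq_one,
                h.orderOf_eq, ← ZMod.natCast_eq_zero_iff]
              push_cast
              rw [ha, ZMod.natCast_zmod_val]
              ring
        have hcom : ∀ t : P, q * t * q⁻¹ = y * t * y⁻¹ → Commute (y * q⁻¹) (y * t * y⁻¹) := by
          intro t ht
          show y * q⁻¹ * (y * t * y⁻¹) = y * t * y⁻¹ * (y * q⁻¹)
          calc y * q⁻¹ * (y * t * y⁻¹) = y * q⁻¹ * (q * t * q⁻¹) := by rw [ht]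
            _ = y * t * y⁻¹ * (y * q⁻¹) := by group
        rw [hmem]
        constructor
        · have h1 := (hcom u hqu).mul_right (((h.central _).pow_right b).inv_right)
          rwa [hyb, mul_inv_cancel_right] at h1
        · have h1 := (hcom w hqw).mul_right (((h.central _).pow_right c).inv_right)
          rwa [hyc, mul_inv_cancel_right] at h1
      have hcardP : Nat.card P ≤ Nat.card P' * p ^ 2 := by
        choose a ha b hb hab using hdec
        let f : P → P' × (Fin p × Fin p) := fun y => (⟨_, hab y⟩, (⟨a y, ha y⟩, ⟨b y, hb y⟩))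
        have hf : Function.Injective f := by
          intro y y' he
          simp only [f, Prod.mk.injEq, Subtype.mk.injEq, Fin.mk.injEq] at he
          obtain ⟨h1, h2, h3⟩ := he
          rw [h2, h3] at h1
          exact mul_right_cancel h1
        calc Nat.card P ≤ Nat.card (P' × (Fin p × Fin p)) := Nat.card_le_card_of_injective f hf
          _ = Nat.card P' * p ^ 2 := by
            rw [Nat.card_prod, Nat.card_prod, Nat.card_eq_fintype_card (α := Fin p), Fintype.card_fin]
            ring
      have hlt : Nat.card P' < Nat.card P := by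
        refine lt_of_le_of_ne (Subgroup.card_le_card_group _) fun he => ?_
        have hwP : u ∈ P' := (Subgroup.eq_top_of_card_eq P' he).symm ▸ Subgroup.mem_top u
        have h1 : Commute u w := ((hmem u).1 hwP).2
        rw [h1.symm.eq, mul_inv_cancel_right, left_eq_mul] at hw
        exact h.ne_one hw
      have h' : Extra φ' p (⟨z, hzP'⟩ : P') := by
        refine ⟨Subtype.ext h.pow_eq, fun e => h.ne_one (congrArg Subtype.val e),
          fun g => Subtype.ext (h.central g).eq, fun y hy => ?_, fun y => ?_, fun y y' => ?_,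
          fun d hd => Subtype.ext (h.fpf d (congrArg Subtype.val hd))⟩
        · have hc : ∀ t : P, Commute (y : P) t := by
            intro t
            obtain ⟨a, -, b, -, hab⟩ := hdec t
            have h1 : Commute (y : P) (t * (u ^ a * w ^ b)⁻¹) :=
              congrArg Subtype.val (hy ⟨_, hab⟩).eq
            have h2 : Commute (y : P) (u ^ a * w ^ b) :=
              (((hmem y).1 y.2).1.pow_right a).mul_right (((hmem y).1 y.2).2.pow_right b)
            have h3 := h1.mul_right h2
            rwa [inv_mul_cancel_right] at h3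
          obtain ⟨m, -, hm⟩ := h.exists_pow (h.center_le _ hc)
          exact ⟨m, Subtype.ext (by simpa using hm)⟩
        · obtain ⟨m, -, hm⟩ := h.exists_pow (h.pow_mem (y : P))
          exact ⟨m, Subtype.ext (by simpa using hm)⟩
        · obtain ⟨m, -, hm⟩ := h.exists_pow (h.comm_mem (y : P) y')
          exact ⟨m, Subtype.ext (by simpa using hm)⟩
      obtain ⟨k, hk, hkD⟩ := ih φ' (by omega) h'
        (hcop.coprime_dvd_right (Subgroup.card_subgroup_dvd_card _))
        ⟨⟨x₀, hfix⟩, fun e => hx₀ (congrArg Subtype.val e)⟩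
      refine ⟨k + 1, ?_, ?_⟩
      · refine hcardP.trans ?_
        calc Nat.card P' * p ^ 2 ≤ p ^ (2 * k + 1) * p ^ 2 := Nat.mul_le_mul_right _ hk
          _ = p ^ (2 * (k + 1) + 1) := by ring
      · calc (p + 1) ^ p ^ (k + 1) = ((p + 1) ^ p ^ k) ^ p := by rw [← pow_mul, pow_succ]
          _ ≤ Nat.card D' ^ p := Nat.pow_le_pow_left hkD p
          _ ≤ Nat.card D := card_fixD_pow_le φ hcop hu h.pow_eq h.central h.fpf hw

/-- **A free orbit** of an extraspecial group with fixed-point-free centre, `p` odd. -/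
theorem exists_free_extra {p : ℕ} [hp : Fact p.Prime] (hp2 : p ≠ 2) {z : P} (h : Extra φ p z)
    (hcop : p.Coprime (Nat.card D)) (hD : ∃ x : D, x ≠ 1) :
    ∃ d : D, ∀ u : P, φ u d = d → u = 1 := by
  classical
  haveI := Fintype.ofFinite P
  haveI := Fintype.ofFinite D
  obtain ⟨k, hk, hkD⟩ := extra_bound hp2 _ φ le_rfl h hcop hD
  by_contra! hcon
  have hp3 : 3 ≤ p := lt_of_le_of_ne hp.out.two_le (Ne.symm hp2)
  set S : Finset P :=
    Finset.univ.filter fun u => u ^ p = 1 ∧ u ∉ Subgroup.zpowers z with hS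
  have hSd : ∀ d : D, d ≠ 1 → p - 1 ≤ (S.filter fun u => φ u d = d).card := by
    intro d hd
    obtain ⟨u₁, hu₁, hne₁⟩ := hcon d
    have hZ : ∀ g ∈ Subgroup.zpowers z, φ g d = d → g = 1 := by
      intro g hg hgd
      obtain ⟨a, ha, rfl⟩ := h.exists_pow hg
      by_contra h0
      refine hd (pow_fixedPointFree φ h.pow_eq h.fpf (fun hdvd => h0 ?_) hgd)
      rw [Nat.eq_zero_of_dvd_of_lt hdvd ha, pow_zero]
    have hup : u₁ ^ p = 1 := hZ _ (h.pow_mem u₁) (apply_pow_fixed φ hu₁ p)
    have huo : orderOf u₁ = p := orderOf_eq_prime hup hne₁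
    calc p - 1 = (Finset.Ico 1 p).card := by simp
      _ ≤ (S.filter fun u => φ u d = d).card := by
        refine Finset.card_le_card_of_injOn (fun j => u₁ ^ j) (fun j hj => ?_) ?_
        · rw [Finset.mem_coe, Finset.mem_Ico] at hj
          have hne : u₁ ^ j ≠ 1 := pow_ne_one_of_lt_orderOf (by omega) (by omega)
          refine Finset.mem_filter.2 ⟨Finset.mem_filter.2 ⟨Finset.mem_univ _, ?_, fun hz => ?_⟩,
            apply_pow_fixed φ hu₁ j⟩
          · rw [← pow_mul, mul_comm, pow_mul, hup, one_pow]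
          · exact hne (hZ _ hz (apply_pow_fixed φ hu₁ j))
        · intro a ha b hb hab
          rw [Finset.mem_coe, Finset.mem_Ico] at ha hb
          exact pow_injOn_Iio_orderOf (by rw [Set.mem_Iio, huo]; omega)
            (by rw [Set.mem_Iio, huo]; omega) hab
  have hSne : S.Nonempty := by
    obtain ⟨x, hx⟩ := hD
    have h1 := hSd x hx
    rw [Finset.nonempty_iff_ne_empty]
    intro he
    rw [he, Finset.filter_empty, Finset.card_empty] at h1
    omega
  have hk1 : 1 ≤ k := by
    by_contra hk0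
    obtain ⟨u, hu⟩ := hSne
    apply (Finset.mem_filter.1 hu).2.2
    have hle : Nat.card P ≤ p := by
      rw [show k = 0 by omega, mul_zero, zero_add, pow_one] at hk
      exact hk
    have htop : Subgroup.zpowers z = ⊤ := Subgroup.eq_top_of_le_card _ (by
      rw [Nat.card_zpowers, h.orderOf_eq]; exact hle)
    rw [htop]; trivial
  set B := (p + 1) ^ p ^ (k - 1) with hB
  set M := max B (S.sup fun u => Nat.card (fixD φ u)) with hM
  have hMD : M ^ p ≤ Nat.card D := by
    have hBD : B ^ p ≤ Nat.card D := by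
      rw [hB, ← pow_mul, ← pow_succ, Nat.sub_add_cancel hk1]
      exact hkD
    rcases le_total (S.sup fun u => Nat.card (fixD φ u)) B with hle | hle
    · rw [hM, max_eq_left hle]; exact hBD
    · rw [hM, max_eq_right hle]
      obtain ⟨u, hu, hsup⟩ := Finset.exists_mem_eq_sup S hSne fun u => Nat.card (fixD φ u)
      rw [hsup]
      obtain ⟨-, hu1, hu2⟩ := Finset.mem_filter.1 hu
      obtain ⟨y, hy⟩ : ∃ y, ¬ Commute y u := by
        by_contra! hc
        exact hu2 (h.center_le u fun t => (hc t).symm)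
      obtain ⟨a, ha, hya⟩ := h.conj_eq y u
      have ha0 : ¬ p ∣ a := fun hd => hy (by
        rw [Nat.eq_zero_of_dvd_of_lt hd ha, pow_zero, mul_one, mul_inv_eq_iff_eq_mul] at hya
        exact hya)
      -- move to the generator `z ^ a` of the centre
      refine card_fixD_pow_le φ hcop hu1 (z := z ^ a) ?_ (fun g => (h.central g).pow_right a)
        (fun x hx => pow_fixedPointFree φ h.pow_eq h.fpf ha0 hx) hya
      rw [← pow_mul, mul_comm, pow_mul, h.pow_eq, one_pow]
  have hcount : (p - 1) * (Nat.card D - 1) ≤ Nat.card P * M := by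
    have h1 : (p - 1) * (Nat.card D - 1) ≤
        ∑ d ∈ Finset.univ.erase (1 : D), (S.filter fun u => φ u d = d).card := by
      rw [Nat.card_eq_fintype_card, mul_comm, ← Finset.card_univ,
        ← Finset.card_erase_of_mem (Finset.mem_univ (1 : D)), ← smul_eq_mul, ← Finset.sum_const]
      exact Finset.sum_le_sum fun d hd => hSd d (Finset.ne_of_mem_erase hd)
    refine h1.trans ?_
    calc ∑ d ∈ Finset.univ.erase (1 : D), (S.filter fun u => φ u d = d).card
        ≤ ∑ d : D, (S.filter fun u => φ u d = d).card :=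
          Finset.sum_le_sum_of_subset (Finset.erase_subset _ _)
      _ = ∑ u ∈ S, (Finset.univ.filter fun d : D => φ u d = d).card := by
          simp only [Finset.card_filter]
          rw [Finset.sum_comm]
      _ ≤ ∑ _u ∈ S, M := Finset.sum_le_sum fun u hu => by
          refine le_trans (le_of_eq ?_) (le_max_of_le_right
            (Finset.le_sup (f := fun u => Nat.card (fixD φ u)) hu))
          show _ = Nat.card {d : D // φ u d = d}
          rw [Nat.card_eq_fintype_card, Fintype.card_subtype]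
      _ ≤ Nat.card P * M := by
          rw [Finset.sum_const, smul_eq_mul]
          refine Nat.mul_le_mul_right _ ?_
          rw [Nat.card_eq_fintype_card]
          exact Finset.card_le_univ _
  have hexp : 2 * k + 1 ≤ (p - 1) * p ^ (k - 1) ∨ k = 1 := by
    rcases Nat.lt_or_ge k 2 with hk2 | hk2
    · right; omega
    · left
      have h3 : ∀ m : ℕ, 2 * m + 5 ≤ 2 * 3 ^ (m + 1) := by
        intro m
        induction m with
        | zero => norm_num
        | succ m ihm => rw [pow_succ]; omega
      obtain ⟨m, rfl⟩ : ∃ m, k = m + 2 := ⟨k - 2, by omega⟩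
      calc 2 * (m + 2) + 1 ≤ 2 * 3 ^ (m + 1) := by have := h3 m; omega
        _ ≤ (p - 1) * p ^ (m + 1) := Nat.mul_le_mul (by omega) (Nat.pow_le_pow_left hp3 _)
        _ = (p - 1) * p ^ (m + 2 - 1) := by rfl
  have hM1 : 1 ≤ M := le_trans (Nat.one_le_pow _ _ (Nat.succ_pos p)) (le_max_left _ _)
  have hMp : M ^ p = M * M ^ (p - 1) := by
    rw [← pow_succ', Nat.sub_add_cancel hp.out.one_le]
  have hPM : Nat.card P * M ≤ p ^ (2 * k + 1) * M := Nat.mul_le_mul_right _ hk
  obtain ⟨q, rfl⟩ : ∃ q, p = q + 1 := ⟨p - 1, by omega⟩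
  simp only [Nat.add_sub_cancel] at hcount hexp hMp
  rcases hexp with hexp | hk1'
  · have hpow : (q + 1) ^ (2 * k + 1) + 1 ≤ M ^ q := by
      calc (q + 1) ^ (2 * k + 1) + 1 ≤ (q + 2) ^ (2 * k + 1) :=
            Nat.pow_lt_pow_left (by omega) (by omega)
        _ ≤ (q + 2) ^ (q * (q + 1) ^ (k - 1)) := Nat.pow_le_pow_right (by omega) hexp
        _ = B ^ q := by rw [hB, ← pow_mul, mul_comm]
        _ ≤ M ^ q := Nat.pow_le_pow_left (le_max_left _ _) _
    obtain ⟨E, hE⟩ : ∃ E, Nat.card D = E + 1 :=
      ⟨Nat.card D - 1, (Nat.sub_add_cancel Nat.card_pos).symm⟩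
    rw [hE, Nat.add_sub_cancel] at hcount
    have e1 : M * ((q + 1) ^ (2 * k + 1) + 1) ≤ E + 1 :=
      (Nat.mul_le_mul_left M hpow).trans (hMp ▸ hE ▸ hMD)
    have e2 : 2 * E ≤ q * E := Nat.mul_le_mul_right E (by omega)
    have e3 : 0 < (q + 1) ^ (2 * k + 1) * M := Nat.mul_pos (Nat.pow_pos (by omega)) hM1
    rw [mul_add, mul_one, mul_comm M] at e1
    omega
  · subst hk1'
    have hpow : (q + 2) ^ 2 ≤ M ^ q := by
      calc (q + 2) ^ 2 ≤ (q + 2) ^ q := Nat.pow_le_pow_right (by omega) (by omega)
        _ ≤ M ^ q := Nat.pow_le_pow_left (le_trans (by rw [hB]; simp) (le_max_left _ _)) _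
    have := Nat.mul_le_mul_left M hpow
    have h4 : 1 ≤ Nat.card D := Nat.card_pos
    obtain ⟨E, hE⟩ : ∃ E, Nat.card D = E + 1 := ⟨Nat.card D - 1, by omega⟩
    rw [hE, Nat.add_sub_cancel] at hcount
    have e1 : q * (M * (q + 2) ^ 2) ≤ q * (E + 1) :=
      Nat.mul_le_mul_left q (this.trans (hMp ▸ hE ▸ hMD))
    have e2 : q * 1 ≤ q * M := Nat.mul_le_mul_left q hM1
    have e3 : 2 * M ≤ q * q * M := Nat.mul_le_mul_right M (by nlinarith)
    have e4 : q * E ≤ (q + 1) ^ (2 * 1 + 1) * M := hcount.trans hPM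
    ring_nf at e1 e2 e3 e4
    omega

end CfsgLib.KGV.CoprimeOrbit
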