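import Mathlib.RepresentationTheory.Maschke
import Mathlib.RepresentationTheory.Subrepresentation
import Mathlib.LinearAlgebra.BilinearForm.Orthogonal
import Mathlib.Algebra.CharP.Two
import Mathlib.LinearAlgebra.Dual.Lemmas
import Mathlib.RingTheory.Artinian.Module
import Mathlib.Tactic.LinearCombination
import Mathlib.Tactic.Push

/-!
# Self-dual coprime modules are orthogonal sums of symplectic and orthogonal modules

Over a field `F` in which `|G|` is invertible, a representation with a nondegenerate invariant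
bilinear form (no symmetry assumed) is the direct sum of a submodule with a nondegenerate
invariant alternating form and one with a nondegenerate invariant symmetric form; in
characteristic two the latter can be taken with trivial action.
-/

set_option autoImplicit false
set_option linter.style.haveILetI false

noncomputable section

namespace CfsgLib.KGV.SelfDual

open LinearMap (BilinForm)

variable {F G V : Type*} [Field F] [Group G] [AddCommGroup V] [Module F V]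
variable (ρ : Representation F G V)

/-- `T` is stable under the representation. -/
def Inv (T : Submodule F V) : Prop := ∀ g : G, ∀ x ∈ T, ρ g x ∈ T

/-- `B` is left nondegenerate on `T`. -/
def LND (B : BilinForm F V) (T : Submodule F V) : Prop :=
  ∀ x ∈ T, (∀ y ∈ T, B x y = 0) → x = 0

/-- `B` is invariant. -/
def BInv (B : BilinForm F V) : Prop := ∀ g : G, ∀ x y : V, B (ρ g x) (ρ g y) = B x y

/-- Some form of shape `P` is invariant and nondegenerate on `U`. -/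
def FormOn (P : BilinForm F V → Prop) (U : Submodule F V) : Prop :=
  ∃ A : BilinForm F V, P A ∧ (∀ g : G, ∀ x ∈ U, ∀ y ∈ U, A (ρ g x) (ρ g y) = A x y) ∧ LND A U

/-- Alternating forms. -/
def Alt (A : BilinForm F V) : Prop := ∀ x : V, A x x = 0

/-- Symmetric forms. -/
def Sym (A : BilinForm F V) : Prop := ∀ x y : V, A x y = A y x

/-- Minimal nonzero invariant submodules. -/
def Irr (E : Submodule F V) : Prop :=
  E ≠ ⊥ ∧ Inv ρ E ∧ ∀ U ≤ E, Inv ρ U → U = ⊥ ∨ U = E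

variable {ρ}

theorem apply_inv_apply (g : G) (x : V) : ρ g (ρ g⁻¹ x) = x := by
  rw [← Module.End.mul_apply, ← map_mul, mul_inv_cancel, map_one, Module.End.one_apply]

theorem inv_apply_apply (g : G) (x : V) : ρ g⁻¹ (ρ g x) = x := by
  rw [← Module.End.mul_apply, ← map_mul, inv_mul_cancel, map_one, Module.End.one_apply]

theorem BInv.flip {B : BilinForm F V} (h : BInv ρ B) : BInv ρ (LinearMap.flip B) :=
  fun g x y => h g y x

theorem BInv.apply_right {B : BilinForm F V} (h : BInv ρ B) (g : G) (x y : V) :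
    B x (ρ g y) = B (ρ g⁻¹ x) y := by
  conv_lhs => rw [← apply_inv_apply (ρ := ρ) g x]
  exact h g _ _

theorem inv_inf {S T : Submodule F V} (hS : Inv ρ S) (hT : Inv ρ T) : Inv ρ (S ⊓ T) :=
  fun g x hx => ⟨hS g x hx.1, hT g x hx.2⟩

theorem inv_sup {S T : Submodule F V} (hS : Inv ρ S) (hT : Inv ρ T) : Inv ρ (S ⊔ T) := by
  intro g x hx
  obtain ⟨a, ha, b, hb, rfl⟩ := Submodule.mem_sup.1 hx
  rw [map_add]
  exact Submodule.add_mem_sup (hS g a ha) (hT g b hb)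

theorem inv_bot : Inv ρ (⊥ : Submodule F V) := fun g x hx => by
  rw [Submodule.mem_bot] at hx ⊢; rw [hx, map_zero]

theorem inv_orthogonal {B : BilinForm F V} (h : BInv ρ B) {T : Submodule F V} (hT : Inv ρ T) :
    Inv ρ (B.orthogonal T) := by
  intro g x hx
  rw [BilinForm.mem_orthogonal_iff] at hx ⊢
  intro n hn
  rw [h.apply_right]
  exact hx _ (hT _ n hn)

/-- Maschke. -/
theorem exists_inv_compl [Finite G] [NeZero (Nat.card G : F)] {E T : Submodule F V}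
    (hE : Inv ρ E) (hT : Inv ρ T) (hET : E ≤ T) :
    ∃ Q ≤ T, Inv ρ Q ∧ Disjoint E Q ∧ E ⊔ Q = T := by
  let e := Subrepresentation.subrepresentationSubmoduleOrderIso (ρ := ρ)
  obtain ⟨q, hq⟩ := exists_isCompl (e ⟨E, hE⟩)
  have h' : IsCompl (⟨E, hE⟩ : Subrepresentation ρ) (e.symm q) :=
    (e.isCompl_iff).2 (by rwa [OrderIso.apply_symm_apply])
  have h1 : E ⊓ (e.symm q).toSubmodule = ⊥ := congrArg Subrepresentation.toSubmodule h'.inf_eq_bot
  have h2 : E ⊔ (e.symm q).toSubmodule = ⊤ := congrArg Subrepresentation.toSubmodule h'.sup_eq_top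
  refine ⟨(e.symm q).toSubmodule ⊓ T, inf_le_right,
    inv_inf (fun g x hx => (e.symm q).apply_mem_toSubmodule g hx) hT, ?_, ?_⟩
  · rw [disjoint_iff, ← inf_assoc, h1, bot_inf_eq]
  · rw [← sup_inf_assoc_of_le _ hET, h2, top_inf_eq]

theorem exists_irr_le [FiniteDimensional F V] {T : Submodule F V} (hT : Inv ρ T) (h : T ≠ ⊥) :
    ∃ E ≤ T, Irr ρ E := by
  obtain ⟨E, hE, hmin⟩ := (wellFounded_lt : WellFounded (α := Submodule F V) (· < ·)).has_min
    {E | E ≤ T ∧ E ≠ ⊥ ∧ Inv ρ E} ⟨T, le_rfl, h, hT⟩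
  refine ⟨E, hE.1, hE.2.1, hE.2.2, fun U hU hUi => ?_⟩
  by_cases hU0 : U = ⊥
  · exact Or.inl hU0
  · exact Or.inr (hU.eq_or_lt.resolve_right (hmin U ⟨hU.trans hE.1, hU0, hUi⟩))

/-- A form which does not vanish on `E × F'` has trivial left kernel in an irreducible `E`. -/
theorem Irr.left_inj {E F' : Submodule F V} (hE : Irr ρ E) (hF : Inv ρ F') {B : BilinForm F V}
    (hB : ∀ g : G, ∀ x ∈ E, ∀ y ∈ F', B (ρ g x) (ρ g y) = B x y)
    {x₀ y₀ : V} (hx₀ : x₀ ∈ E) (hy₀ : y₀ ∈ F') (h₀ : B x₀ y₀ ≠ 0)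
    {x : V} (hx : x ∈ E) (h : ∀ y ∈ F', B x y = 0) : x = 0 := by
  have hinv : Inv ρ (E ⊓ BilinForm.orthogonal (LinearMap.flip B) F') := by
    rintro g z ⟨hz, hz'⟩
    refine ⟨hE.2.1 g z hz, fun n hn => ?_⟩
    show B (ρ g z) n = 0
    rw [← apply_inv_apply (ρ := ρ) g n, hB g z hz _ (hF _ n hn)]
    exact hz' _ (hF _ n hn)
  rcases hE.2.2 _ inf_le_left hinv with hbot | htop
  · exact (Submodule.eq_bot_iff _).1 hbot x ⟨hx, fun n hn => h n hn⟩
  · exact absurd ((htop.ge hx₀).2 y₀ hy₀) h₀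

theorem Irr.lnd {E : Submodule F V} (hE : Irr ρ E) {B : BilinForm F V}
    (hB : ∀ g : G, ∀ x ∈ E, ∀ y ∈ E, B (ρ g x) (ρ g y) = B x y)
    {x₀ y₀ : V} (hx₀ : x₀ ∈ E) (hy₀ : y₀ ∈ E) (h₀ : B x₀ y₀ ≠ 0) : LND B E :=
  fun _ hx h => hE.left_inj hE.2.1 hB hx₀ hy₀ h₀ hx h

section fin

variable [FiniteDimensional F V]

/-- Pairing map. -/
def pairMap (B : BilinForm F V) (S T : Submodule F V) : S →ₗ[F] Module.Dual F T :=
  T.subtype.dualMap ∘ₗ (B ∘ₗ S.subtype)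

omit [FiniteDimensional F V] in
@[simp]
theorem pairMap_apply (B : BilinForm F V) (S T : Submodule F V) (x : S) (y : T) :
    pairMap B S T x y = B x y := rfl

omit [FiniteDimensional F V] in
theorem pairMap_injective {B : BilinForm F V} {S T : Submodule F V}
    (h : ∀ x ∈ S, (∀ y ∈ T, B x y = 0) → x = 0) : Function.Injective (pairMap B S T) := by
  rw [← LinearMap.ker_eq_bot, Submodule.eq_bot_iff]
  intro x hx
  exact Subtype.ext (h x x.2 fun y hy => by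
    have := LinearMap.congr_fun hx ⟨y, hy⟩
    simpa using this)

/-- A pairing without kernels on either side is perfect. -/
theorem pairMap_bijective {B : BilinForm F V} {S T : Submodule F V}
    (h : ∀ x ∈ S, (∀ y ∈ T, B x y = 0) → x = 0) (h' : ∀ y ∈ T, (∀ x ∈ S, B x y = 0) → y = 0) :
    Function.Bijective (pairMap B S T) := by
  have i1 := pairMap_injective h
  have i2 := pairMap_injective (B := LinearMap.flip B) h'
  have d1 := LinearMap.finrank_le_finrank_of_injective i1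
  have d2 := LinearMap.finrank_le_finrank_of_injective i2
  rw [Subspace.dual_finrank_eq] at d1 d2
  refine ⟨i1, (LinearMap.injective_iff_surjective_of_finrank_eq_finrank ?_).1 i1⟩
  rw [Subspace.dual_finrank_eq]
  omega

theorem LND.flip {B : BilinForm F V} {T : Submodule F V} (h : LND B T) :
    LND (LinearMap.flip B) T := by
  intro y hy hy0
  have i1 := pairMap_injective h
  have hs := (LinearMap.injective_iff_surjective_of_finrank_eq_finrank
    (Subspace.dual_finrank_eq (K := F) (V := T)).symm).1 i1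
  have : (⟨y, hy⟩ : T) = 0 := by
    rw [← Module.forall_dual_apply_eq_zero_iff F]
    intro φ
    obtain ⟨x, rfl⟩ := hs φ
    exact hy0 x x.2
  exact congrArg Subtype.val this

/-- Splitting off a nondegenerate submodule. -/
theorem exists_orth_compl {B : BilinForm F V} {U T : Submodule F V} (hU : LND B U)
    (hT : LND B T) (hUT : U ≤ T) :
    Disjoint U (T ⊓ B.orthogonal U) ∧ U ⊔ (T ⊓ B.orthogonal U) = T ∧
      LND B (T ⊓ B.orthogonal U) := by
  have hs := (pairMap_bijective (B := LinearMap.flip B) hU.flip hU).2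
  have hsup : U ⊔ (T ⊓ B.orthogonal U) = T := by
    refine le_antisymm (sup_le hUT inf_le_left) fun t ht => ?_
    obtain ⟨u, hu⟩ := hs ((U.subtype.dualMap) (LinearMap.flip B t))
    refine Submodule.mem_sup.2 ⟨u, u.2, t - u, ⟨sub_mem ht (hUT u.2), fun n hn => ?_⟩, by abel⟩
    show B n (t - u) = 0
    have := LinearMap.congr_fun hu ⟨n, hn⟩
    simp only [pairMap_apply, LinearMap.flip_apply, LinearMap.dualMap_apply,
      Submodule.subtype_apply] at this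
    rw [map_sub, this, sub_self]
  refine ⟨?_, hsup, ?_⟩
  · rw [disjoint_iff, Submodule.eq_bot_iff]
    rintro x ⟨hx, -, hx'⟩
    exact hU.flip x hx fun n hn => hx' n hn
  · have key : LND (LinearMap.flip B) (T ⊓ B.orthogonal U) := by
      intro y hy hy0
      refine hT.flip y hy.1 fun t ht => ?_
      show B t y = 0
      rw [← hsup] at ht
      obtain ⟨a, ha, b, hb, rfl⟩ := Submodule.mem_sup.1 ht
      rw [map_add, LinearMap.add_apply, hy.2 a ha, zero_add]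
      exact hy0 b hb
    exact key.flip

end fin

theorem exists_proj {S T : Submodule F V} (h : Disjoint S T) :
    ∃ P : V →ₗ[F] V, (∀ x, P x ∈ S) ∧ (∀ x ∈ S, P x = x) ∧ ∀ x ∈ T, P x = 0 := by
  obtain ⟨C, hC⟩ := Submodule.exists_isCompl (S ⊔ T)
  have hc : IsCompl S (T ⊔ C) :=
    IsCompl.of_eq (disjoint_iff.1 (h.disjoint_sup_right_of_disjoint_sup_left hC.disjoint))
      (by rw [← sup_assoc]; exact hC.sup_eq_top)
  refine ⟨S.subtype.comp (Submodule.projectionOnto S (T ⊔ C) hc),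
    fun x => Subtype.mem _, fun x hx => ?_, fun x hx => ?_⟩
  · exact congrArg Subtype.val (Submodule.projectionOnto_apply_left hc ⟨x, hx⟩)
  · simp [Submodule.projectionOnto_apply_of_mem_right hc (Submodule.mem_sup_left hx)]

theorem formOn_bot (P : BilinForm F V → Prop) (h0 : P 0) : FormOn ρ P ⊥ :=
  ⟨0, h0, fun _ _ _ _ _ => by simp, fun x hx _ => (Submodule.mem_bot F).1 hx⟩

/-- Orthogonal sums. -/
theorem FormOn.sup {P : BilinForm F V → Prop}
    (hP : ∀ A₁ A₂ : BilinForm F V, P A₁ → P A₂ → ∀ f g : V →ₗ[F] V,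
      P (A₁.comp f f + A₂.comp g g))
    {S T : Submodule F V} (hS : Inv ρ S) (hT : Inv ρ T) (hd : Disjoint S T)
    (h₁ : FormOn ρ P S) (h₂ : FormOn ρ P T) : FormOn ρ P (S ⊔ T) := by
  obtain ⟨A₁, hA₁, i₁, n₁⟩ := h₁
  obtain ⟨A₂, hA₂, i₂, n₂⟩ := h₂
  obtain ⟨f, -, hf1, hf0⟩ := exists_proj hd
  obtain ⟨g, -, hg1, hg0⟩ := exists_proj hd.symm
  refine ⟨A₁.comp f f + A₂.comp g g, hP _ _ hA₁ hA₂ f g, ?_, ?_⟩
  · intro c x hx y hy
    obtain ⟨a, ha, b, hb, rfl⟩ := Submodule.mem_sup.1 hx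
    obtain ⟨a', ha', b', hb', rfl⟩ := Submodule.mem_sup.1 hy
    simp only [LinearMap.add_apply, BilinForm.comp_apply, map_add, hf1 _ ha, hf1 _ ha',
      hf1 _ (hS c a ha), hf1 _ (hS c a' ha'), hf0 _ hb, hf0 _ hb', hf0 _ (hT c b hb),
      hf0 _ (hT c b' hb'), hg1 _ hb, hg1 _ hb', hg1 _ (hT c b hb), hg1 _ (hT c b' hb'),
      hg0 _ ha, hg0 _ ha', hg0 _ (hS c a ha), hg0 _ (hS c a' ha'), map_zero,
      LinearMap.zero_apply, add_zero, zero_add, i₁ c a ha a' ha', i₂ c b hb b' hb']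
  · intro x hx h
    obtain ⟨a, ha, b, hb, rfl⟩ := Submodule.mem_sup.1 hx
    have e1 : a = 0 := n₁ a ha fun y hy => by
      have := h y (Submodule.mem_sup_left hy)
      simpa [LinearMap.add_apply, hf1 _ ha, hf0 _ hb, hf1 _ hy, hg0 _ ha, hg1 _ hb, hg0 _ hy]
        using this
    have e2 : b = 0 := n₂ b hb fun y hy => by
      have := h y (Submodule.mem_sup_right hy)
      simpa [LinearMap.add_apply, hf1 _ ha, hf0 _ hb, hf0 _ hy, hg0 _ ha, hg1 _ hb, hg1 _ hy]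
        using this
    rw [e1, e2, add_zero]

theorem alt_comp_add (A₁ A₂ : BilinForm F V) (h₁ : Alt A₁) (h₂ : Alt A₂) (f g : V →ₗ[F] V) :
    Alt (A₁.comp f f + A₂.comp g g) := fun x => by
  simp [h₁ (f x), h₂ (g x)]

theorem sym_comp_add (A₁ A₂ : BilinForm F V) (h₁ : Sym A₁) (h₂ : Sym A₂) (f g : V →ₗ[F] V) :
    Sym (A₁.comp f f + A₂.comp g g) := fun x y => by
  simp [h₁ (f x) (f y), h₂ (g x) (g y)]

/-- An irreducible submodule on which the form does not vanish. -/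
theorem formOn_of_irr {E : Submodule F V} (hE : Irr ρ E) {B : BilinForm F V} (hB : BInv ρ B)
    {x₀ y₀ : V} (hx₀ : x₀ ∈ E) (hy₀ : y₀ ∈ E) (h₀ : B x₀ y₀ ≠ 0) :
    FormOn ρ Alt E ∨ (FormOn ρ Sym E ∧ ((2 : F) = 0 → ∀ g : G, ∀ x ∈ E, ρ g x = x)) := by
  have hn : LND B E := hE.lnd (fun g x _ y _ => hB g x y) hx₀ hy₀ h₀
  by_cases hA : ∀ x ∈ E, ∀ y ∈ E, B x y = B y x
  swap
  · push Not at hA
    obtain ⟨x, hx, y, hy, hxy⟩ := hA
    refine Or.inl ⟨B - LinearMap.flip B, fun z => by simp, fun g a _ b _ => by simp [hB g],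
      hE.lnd (fun g a _ b _ => by simp [hB g]) hx hy ?_⟩
    simpa [sub_eq_zero] using hxy
  obtain ⟨P, hPmem, hP1, -⟩ := exists_proj (disjoint_bot_right (a := E))
  have hinv : ∀ g : G, ∀ a ∈ E, ∀ b ∈ E, B.comp P P (ρ g a) (ρ g b) = B.comp P P a b :=
    fun g a ha b hb => by
      simp [hP1 _ ha, hP1 _ hb, hP1 _ (hE.2.1 g a ha), hP1 _ (hE.2.1 g b hb), hB g]
  have hnd : LND (B.comp P P) E := fun a ha h => hn a ha fun b hb => by
    simpa [hP1 _ ha, hP1 _ hb] using h b hb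
  by_cases halt : ∀ x ∈ E, B x x = 0
  · exact Or.inl ⟨B.comp P P, fun z => halt _ (hPmem z), hinv, hnd⟩
  refine Or.inr ⟨⟨B.comp P P, fun a b => hA _ (hPmem a) _ (hPmem b), hinv, hnd⟩, fun h2 g x hx => ?_⟩
  have hadd : ∀ a ∈ E, ∀ b ∈ E, B (a + b) (a + b) = B a a + B b b := by
    intro a ha b hb
    simp only [map_add, LinearMap.add_apply]
    rw [hA b hb a ha]
    linear_combination (B a b) * h2
  let K : Submodule F V :=
    { carrier := {a | a ∈ E ∧ B a a = 0}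
      zero_mem' := ⟨E.zero_mem, by simp⟩
      add_mem' := fun {a b} ha hb => ⟨add_mem ha.1 hb.1, by rw [hadd a ha.1 b hb.1, ha.2, hb.2, add_zero]⟩
      smul_mem' := fun c a ha => ⟨E.smul_mem c ha.1, by simp [ha.2]⟩ }
  have hKi : Inv ρ K := fun c a ha => ⟨hE.2.1 c a ha.1, by rw [hB]; exact ha.2⟩
  rcases hE.2.2 K (fun a ha => ha.1) hKi with hK | hK
  swap
  · exact absurd (fun a ha => (hK.ge ha : a ∈ K).2) halt
  have hmem : ρ g x + x ∈ K := ⟨add_mem (hE.2.1 g x hx) hx, by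
    rw [hadd _ (hE.2.1 g x hx) _ hx, hB, ← two_mul, h2, zero_mul]⟩
  rw [hK, Submodule.mem_bot, add_eq_zero_iff_eq_neg] at hmem
  rw [hmem, ← neg_one_smul F x, show (-1 : F) = 1 by linear_combination -h2, one_smul]

/-- A hyperbolic pair of irreducible submodules. -/
theorem formOn_pair {E F' : Submodule F V} (hE : Irr ρ E) (hF : Irr ρ F') {B : BilinForm F V}
    (hB : BInv ρ B) (hEE : ∀ x ∈ E, ∀ y ∈ E, B x y = 0) (hFF : ∀ x ∈ F', ∀ y ∈ F', B x y = 0)
    {e₀ f₀ : V} (he₀ : e₀ ∈ E) (hf₀ : f₀ ∈ F') (h₀ : B e₀ f₀ ≠ 0)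
    {e₁ f₁ : V} (he₁ : e₁ ∈ E) (hf₁ : f₁ ∈ F') (h₁ : B f₁ e₁ ≠ 0) :
    FormOn ρ Alt (E ⊔ F') ∧ LND B (E ⊔ F') := by
  have hd : Disjoint E F' := by
    rw [disjoint_iff]
    refine (hE.2.2 _ inf_le_left (inv_inf hE.2.1 hF.2.1)).resolve_right fun h => h₀ ?_
    exact hFF _ ((inf_le_right : E ⊓ F' ≤ F') (h.ge he₀)) _ hf₀
  have kE : ∀ e ∈ E, (∀ f ∈ F', B e f = 0) → e = 0 := fun e he h =>
    hE.left_inj hF.2.1 (fun g x _ y _ => hB g x y) he₀ hf₀ h₀ he h
  have kF : ∀ f ∈ F', (∀ e ∈ E, B f e = 0) → f = 0 := fun f hf h =>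
    hF.left_inj hE.2.1 (fun g x _ y _ => hB g x y) hf₁ he₁ h₁ hf h
  have kF' : ∀ f ∈ F', (∀ e ∈ E, B e f = 0) → f = 0 := fun f hf h =>
    hF.left_inj (B := LinearMap.flip B) hE.2.1 (fun g x _ y _ => hB g y x) hf₀ he₀ h₀ hf h
  obtain ⟨P, -, hP1, hP0⟩ := exists_proj hd
  obtain ⟨Q, -, hQ1, hQ0⟩ := exists_proj hd.symm
  constructor
  · refine ⟨B.comp P Q - LinearMap.flip (B.comp P Q), fun z => by simp, ?_, ?_⟩
    · intro g x hx y hy
      obtain ⟨a, ha, b, hb, rfl⟩ := Submodule.mem_sup.1 hx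
      obtain ⟨a', ha', b', hb', rfl⟩ := Submodule.mem_sup.1 hy
      simp [hP1 _ ha, hP1 _ ha', hP1 _ (hE.2.1 g a ha), hP1 _ (hE.2.1 g a' ha'), hP0 _ hb,
        hP0 _ hb', hP0 _ (hF.2.1 g b hb), hP0 _ (hF.2.1 g b' hb'), hQ1 _ hb, hQ1 _ hb',
        hQ1 _ (hF.2.1 g b hb), hQ1 _ (hF.2.1 g b' hb'), hQ0 _ ha, hQ0 _ ha',
        hQ0 _ (hE.2.1 g a ha), hQ0 _ (hE.2.1 g a' ha'), hB g]
    · intro x hx h
      obtain ⟨a, ha, b, hb, rfl⟩ := Submodule.mem_sup.1 hx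
      have ea : a = 0 := kE a ha fun f hf => by
        simpa [hP1 _ ha, hP0 _ hb, hP0 _ hf, hQ1 _ hb, hQ0 _ ha, hQ1 _ hf] using
          h f (Submodule.mem_sup_right hf)
      have eb : b = 0 := kF' b hb fun e he => by
        simpa [hP1 _ ha, hP0 _ hb, hP1 _ he, hQ1 _ hb, hQ0 _ ha, hQ0 _ he] using
          h e (Submodule.mem_sup_left he)
      rw [ea, eb, add_zero]
  · intro x hx h
    obtain ⟨a, ha, b, hb, rfl⟩ := Submodule.mem_sup.1 hx
    have eb : b = 0 := kF b hb fun e he => by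
      simpa [hEE a ha e he] using h e (Submodule.mem_sup_left he)
    have ea : a = 0 := kE a ha fun f hf => by
      simpa [hFF b hb f hf] using h f (Submodule.mem_sup_right hf)
    rw [ea, eb, add_zero]

variable [Finite G] [NeZero (Nat.card G : F)] [FiniteDimensional F V]

/-- An irreducible submodule pairing nontrivially with `E`. -/
theorem exists_irr_pairing {E T : Submodule F V} (hE : Irr ρ E) (hT : Inv ρ T) (hET : E ≤ T)
    {B : BilinForm F V} (hB : BInv ρ B) (hTn : LND B T) :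
    ∃ F' ≤ T, Irr ρ F' ∧ ∃ e ∈ E, ∃ f ∈ F', B e f ≠ 0 := by
  obtain ⟨Q, hQT, hQ, hd, hs⟩ := exists_inv_compl (inv_inf hT (inv_orthogonal hB hE.2.1)) hT
    inf_le_left
  have hQ0 : Q ≠ ⊥ := by
    intro h
    rw [h, sup_bot_eq] at hs
    obtain ⟨e, he, hne⟩ := Submodule.exists_mem_ne_zero_of_ne_bot hE.1
    exact hne (hTn e (hET he) fun t ht => (hs.ge ht).2 e he)
  obtain ⟨F', hF'Q, hF'⟩ := exists_irr_le hQ hQ0
  refine ⟨F', hF'Q.trans hQT, hF', ?_⟩
  by_contra! hcon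
  refine hF'.1 (eq_bot_iff.2 fun f hf => ?_)
  exact hd.le_bot ⟨⟨hQT (hF'Q hf), fun e he => hcon e he f hf⟩, hF'Q hf⟩

/-- The step: a nonzero nondegenerate piece carrying one of the two kinds of forms. -/
theorem exists_piece {T : Submodule F V} (hT : Inv ρ T) (hT0 : T ≠ ⊥) {B : BilinForm F V}
    (hB : BInv ρ B) (hTn : LND B T) :
    ∃ U ≤ T, U ≠ ⊥ ∧ Inv ρ U ∧ LND B U ∧
      (FormOn ρ Alt U ∨ (FormOn ρ Sym U ∧ ((2 : F) = 0 → ∀ g : G, ∀ x ∈ U, ρ g x = x))) := by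
  by_cases hiso : ∃ E ≤ T, Irr ρ E ∧ ∃ x ∈ E, ∃ y ∈ E, B x y ≠ 0
  · obtain ⟨E, hET, hE, x, hx, y, hy, hxy⟩ := hiso
    exact ⟨E, hET, hE.1, hE.2.1, hE.lnd (fun g a _ b _ => hB g a b) hx hy hxy,
      formOn_of_irr hE hB hx hy hxy⟩
  push Not at hiso
  obtain ⟨E, hET, hE⟩ := exists_irr_le hT hT0
  suffices H : ∃ F' ≤ T, Irr ρ F' ∧ (∃ e ∈ E, ∃ f ∈ F', B e f ≠ 0) ∧
      ∃ e ∈ E, ∃ f ∈ F', B f e ≠ 0 by
    obtain ⟨F', hFT, hF, ⟨e, he, f, hf, h0⟩, ⟨e', he', f', hf', h1⟩⟩ := H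
    obtain ⟨hform, hn⟩ :=
      formOn_pair hE hF hB (hiso E hET hE) (hiso F' hFT hF) he hf h0 he' hf' h1
    exact ⟨E ⊔ F', sup_le hET hFT, fun h => hE.1 (le_bot_iff.1 (h ▸ le_sup_left)),
      inv_sup hE.2.1 hF.2.1, hn, Or.inl hform⟩
  obtain ⟨F₁, h1T, h1, hp1⟩ := exists_irr_pairing hE hT hET hB hTn
  obtain ⟨F₂, h2T, h2, hp2⟩ := exists_irr_pairing hE hT hET hB.flip hTn.flip
  by_cases hc1 : ∃ e ∈ E, ∃ f ∈ F₁, B f e ≠ 0
  · exact ⟨F₁, h1T, h1, hp1, hc1⟩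
  by_cases hc2 : ∃ e ∈ E, ∃ f ∈ F₂, B e f ≠ 0
  · exact ⟨F₂, h2T, h2, hc2, hp2⟩
  push Not at hc1 hc2
  obtain ⟨e₁, he₁, f₁, hf₁, hn1⟩ := hp1
  obtain ⟨e₂, he₂, f₂, hf₂, hn2⟩ := hp2
  -- two perfect pairings give an equivariant map `F₁ → F₂`
  have k2 : ∀ f ∈ F₂, (∀ e ∈ E, B f e = 0) → f = 0 := fun f hf h =>
    h2.left_inj hE.2.1 (fun g x _ y _ => hB g x y) hf₂ he₂ hn2 hf h
  have k2' : ∀ e ∈ E, (∀ f ∈ F₂, B f e = 0) → e = 0 := fun e he h =>
    hE.left_inj (B := LinearMap.flip B) h2.2.1 (fun g x _ y _ => hB g y x) he₂ hf₂ hn2 he h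
  let L2 := LinearEquiv.ofBijective (pairMap B F₂ E) (pairMap_bijective k2 k2')
  let φ : F₁ →ₗ[F] F₂ := L2.symm.toLinearMap.comp (pairMap (LinearMap.flip B) F₁ E)
  have hφ : ∀ (f : F₁), ∀ e ∈ E, B (φ f : V) e = B e (f : V) := by
    intro f e he
    have h : pairMap B F₂ E (φ f) = pairMap (LinearMap.flip B) F₁ E f := L2.apply_symm_apply _
    simpa using LinearMap.congr_fun h ⟨e, he⟩
  have hequiv : ∀ (g : G) (f : F₁), (φ ⟨ρ g f, h1.2.1 g f f.2⟩ : V) = ρ g (φ f : V) := by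
    intro g f
    rw [← sub_eq_zero]
    refine k2 _ (sub_mem (Subtype.mem _) (h2.2.1 g _ (Subtype.mem _))) fun e he => ?_
    rw [map_sub, LinearMap.sub_apply, hφ _ e he]
    have e2 : B (ρ g (φ f : V)) e = B (φ f : V) (ρ g⁻¹ e) := by
      conv_lhs => rw [← apply_inv_apply (ρ := ρ) g e]
      exact hB g _ _
    rw [e2, hφ _ _ (hE.2.1 _ e he), ← hB.apply_right, sub_self]
  let ψ : F₁ →ₗ[F] V := F₁.subtype + F₂.subtype.comp φ
  have hl : ∀ (f : F₁), ∀ e ∈ E, B e (ψ f) = B e (f : V) := fun f e he => by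
    simp [ψ, hc2 e he _ (Subtype.mem (φ f))]
  have hr : ∀ (f : F₁), ∀ e ∈ E, B (ψ f) e = B e (f : V) := fun f e he => by
    simp [ψ, hc1 e he _ f.2, hφ f e he]
  have hψg : ∀ (g : G) (f : F₁), ψ ⟨ρ g f, h1.2.1 g f f.2⟩ = ρ g (ψ f) := fun g f => by
    simp [ψ, hequiv g f]
  have hψinj : Function.Injective ψ := by
    rw [← LinearMap.ker_eq_bot, Submodule.eq_bot_iff]
    intro f hf
    refine Subtype.ext (h1.left_inj (B := LinearMap.flip B) hE.2.1 (fun g x _ y _ => hB g y x)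
      hf₁ he₁ hn1 f.2 fun e he => ?_)
    show B e f = 0
    rw [← hl f e he, LinearMap.mem_ker.1 hf, map_zero]
  have hF3 : Irr ρ (LinearMap.range ψ) := by
    refine ⟨?_, ?_, fun U hU hUi => ?_⟩
    · intro h
      have := (Submodule.eq_bot_iff _).1 h _ ⟨⟨f₁, hf₁⟩, rfl⟩
      exact hn1 (by rw [← hl ⟨f₁, hf₁⟩ e₁ he₁, this, map_zero])
    · rintro g _ ⟨f, rfl⟩
      exact ⟨_, hψg g f⟩
    · have hpre : Inv ρ ((U.comap ψ).map F₁.subtype) := by
        rintro g _ ⟨f, hf, rfl⟩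
        exact ⟨⟨ρ g f, h1.2.1 g f f.2⟩, by simpa [hψg] using hUi g _ hf, rfl⟩
      rcases h1.2.2 _ (Submodule.map_subtype_le _ _) hpre with h | h
      · left
        rw [Submodule.eq_bot_iff]
        intro u hu
        obtain ⟨f, rfl⟩ := hU hu
        have : (f : V) = 0 := (Submodule.eq_bot_iff _).1 h _ ⟨f, hu, rfl⟩
        rw [(Subtype.ext this : f = 0), map_zero]
      · right
        refine le_antisymm hU ?_
        rintro _ ⟨f, rfl⟩
        obtain ⟨f', hf', hff'⟩ := h.ge f.2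
        rwa [← (Subtype.ext hff' : f' = f)]
  refine ⟨LinearMap.range ψ, ?_, hF3, ⟨e₁, he₁, _, ⟨⟨f₁, hf₁⟩, rfl⟩, ?_⟩,
    ⟨e₁, he₁, _, ⟨⟨f₁, hf₁⟩, rfl⟩, ?_⟩⟩
  · rintro _ ⟨f, rfl⟩
    exact add_mem (h1T f.2) (h2T (Subtype.mem (φ f)))
  · rw [hl _ e₁ he₁]; exact hn1
  · rw [hr _ e₁ he₁]; exact hn1

/-- Decomposition of an invariant nondegenerate submodule. -/
theorem exists_decomp {B : BilinForm F V} (hB : BInv ρ B) :
    ∀ T : Submodule F V, Inv ρ T → LND B T → ∃ U ≤ T, ∃ W ≤ T, Inv ρ U ∧ Inv ρ W ∧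
      Disjoint U W ∧ U ⊔ W = T ∧ FormOn ρ Alt U ∧ FormOn ρ Sym W ∧
      ((2 : F) = 0 → ∀ g : G, ∀ x ∈ W, ρ g x = x) := by
  intro T
  induction T using (wellFounded_lt : WellFounded (α := Submodule F V) (· < ·)).induction with
  | _ T ih =>
  intro hT hTn
  by_cases hT0 : T = ⊥
  · exact ⟨⊥, bot_le, ⊥, bot_le, inv_bot, inv_bot, disjoint_bot_left, by rw [hT0, sup_bot_eq],
      formOn_bot _ (fun x => by simp), formOn_bot _ (fun x y => by simp),
      fun _ g x hx => by rw [(Submodule.mem_bot F).1 hx, map_zero]⟩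
  obtain ⟨U₁, hU₁T, hU₁0, hU₁, hU₁n, hform⟩ := exists_piece hT hT0 hB hTn
  obtain ⟨hd, hsup, hn'⟩ := exists_orth_compl hU₁n hTn hU₁T
  set T' := T ⊓ B.orthogonal U₁ with hT'
  have hT'i : Inv ρ T' := inv_inf hT (inv_orthogonal hB hU₁)
  have hlt : T' < T := by
    refine lt_of_le_of_ne inf_le_left fun h => hU₁0 ?_
    exact eq_bot_iff.2 fun x hx => hd.le_bot ⟨hx, h.ge (hU₁T hx)⟩
  obtain ⟨U', hU', W', hW', hU'i, hW'i, hUW, hs', hA', hS', htr'⟩ := ih T' hlt hT'i hn'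
  rcases hform with hA | ⟨hS, htr⟩
  · refine ⟨U₁ ⊔ U', sup_le hU₁T (hU'.trans inf_le_left), W', hW'.trans inf_le_left,
      inv_sup hU₁ hU'i, hW'i, ?_, by rw [sup_assoc, hs', hsup],
      hA.sup alt_comp_add hU₁ hU'i (hd.mono_right hU') hA', hS', htr'⟩
    exact hUW.disjoint_sup_left_of_disjoint_sup_right (hd.mono_right (sup_le hU' hW'))
  · refine ⟨U', hU'.trans inf_le_left, U₁ ⊔ W', sup_le hU₁T (hW'.trans inf_le_left),
      hU'i, inv_sup hU₁ hW'i, ?_, by rw [sup_left_comm, hs', hsup],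
      hA', hS.sup sym_comp_add hU₁ hW'i (hd.mono_right hW') hS', ?_⟩
    · exact (hUW.symm.disjoint_sup_left_of_disjoint_sup_right
        (hd.mono_right (sup_le hW' hU'))).symm
    · intro h2 g x hx
      obtain ⟨a, ha, b, hb, rfl⟩ := Submodule.mem_sup.1 hx
      rw [map_add, htr h2 g a ha, htr' h2 g b hb]

end CfsgLib.KGV.SelfDual
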