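import Cfsg.Agent.Lib.KGV.Knorr
import Cfsg.Agent.Lib.KGV.SelfDual
import Cfsg.Agent.Lib.Characters.Induction
import Mathlib.Analysis.SpecialFunctions.Complex.CircleAddChar
import Mathlib.FieldTheory.Finiteness
import Mathlib.Algebra.Field.ZMod
import Mathlib.RingTheory.Finiteness.Cardinality

/-!
# Witness functions for Knörr's criterion: products and the orthogonal case

`HasPsi p M C fx triv tot` says that there is a class function `ψ` on `C` with cyclotomic-integer
values, a `p`-power multiple of which is a virtual character, with `ψ 1 = 1`, in the local ideal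
off `triv`, and with `|ψ y|² · fx y ≤ tot`.
-/

set_option autoImplicit false
set_option linter.style.haveILetI false

noncomputable section

namespace CfsgLib.KGV

open Cfsg CfsgLib.Characters CfsgLib.Blocks
open LinearMap (BilinForm)
open scoped ComplexConjugate

/-- A witness for Knörr's criterion. -/
def HasPsi (p : ℕ) (M : Ideal AlgInt) (C : Type*) [Group C] (fx : C → ℕ) (triv : C → Prop)
    (tot : ℕ) : Prop :=
  ∃ (N : ℕ) (ψ : C → ℂ) (m : C → ℕ) (n : ℕ), 0 < N ∧ IsClassFunction C ψ ∧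
    (∀ y, IsCycInt N (ψ y)) ∧ ((p : ℂ) ^ n) • ψ ∈ CycVirt C N ∧ ψ 1 = 1 ∧
    (∀ y, ψ y * conj (ψ y) = (m y : ℂ)) ∧ (∀ y, triv y ∨ MemLocalIdeal M (ψ y)) ∧
    ∀ y, m y * fx y ≤ tot

variable {C : Type*} [Group C] {p : ℕ} {M : Ideal AlgInt}

theorem cycVirt_le_of_dvd {N N' : ℕ} (h : N ∣ N') : CycVirt C N ≤ CycVirt C N' := by
  refine Subring.closure_le.2 ?_
  rintro f (⟨c, hc, rfl⟩ | hf)
  · exact const_mem_cycVirt (hc.mono h)
  · exact char_mem_cycVirt hf

/-- The constant witness. -/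
theorem hasPsi_one {fx : C → ℕ} {triv : C → Prop} {tot : ℕ} (h : ∀ y, triv y)
    (hle : ∀ y, fx y ≤ tot) : HasPsi p M C fx triv tot :=
  ⟨1, 1, 1, 0, one_pos, fun _ _ => rfl, fun _ => ⟨isIntegral_one, one_mem _⟩,
    by simp [one_mem], rfl, fun y => by simp, fun y => Or.inl (h y),
    fun y => by simpa using hle y⟩

/-- Products of witnesses. -/
theorem HasPsi.mul [Fact p.Prime] (hM : IsPModular p M) {fx₁ fx₂ fx : C → ℕ}
    {t₁ t₂ t : C → Prop} {n₁ n₂ tot : ℕ} (h₁ : HasPsi p M C fx₁ t₁ n₁)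
    (h₂ : HasPsi p M C fx₂ t₂ n₂) (hfx : ∀ y, fx y ≤ fx₁ y * fx₂ y)
    (ht : ∀ y, t₁ y → t₂ y → t y) (htot : n₁ * n₂ ≤ tot) : HasPsi p M C fx t tot := by
  obtain ⟨N, ψ, m, k, hN, hcl, hint, hv, h1, hm, hI, hle⟩ := h₁
  obtain ⟨N', ψ', m', k', hN', hcl', hint', hv', h1', hm', hI', hle'⟩ := h₂
  refine ⟨N * N', ψ * ψ', m * m', k + k', Nat.mul_pos hN hN', isClassFunction_mul hcl hcl',
    fun y => ((hint y).mono (Dvd.intro N' rfl)).mul ((hint' y).mono (Dvd.intro_left N rfl)), ?_,
    by simp [h1, h1'], fun y => ?_, fun y => ?_, fun y => ?_⟩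
  · have := mul_mem (cycVirt_le_of_dvd (Dvd.intro N' rfl) hv)
      (cycVirt_le_of_dvd (Dvd.intro_left N rfl) hv')
    rwa [smul_mul_smul_comm, ← pow_add] at this
  · simp only [Pi.mul_apply, map_mul, Nat.cast_mul, ← hm y, ← hm' y]
    ring
  · rcases hI y with a | a
    · rcases hI' y with b | b
      · exact Or.inl (ht y a b)
      · exact Or.inr (MemLocalIdeal.mul_left hM (memLocalRing_of_isIntegral hM (hint y).1) b)
    · exact Or.inr (MemLocalIdeal.mul_right hM a (memLocalRing_of_isIntegral hM (hint' y).1))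
  · refine le_trans (Nat.mul_le_mul_left _ (hfx y)) ?_
    refine le_trans (le_of_eq ?_) ((Nat.mul_le_mul (hle y) (hle' y)).trans htot)
    simp only [Pi.mul_apply]
    ring

/-- Permutation characters are characters. -/
theorem isCharacter_card_fixed [Finite C] {Ω : Type*} [Finite Ω] (act : C → Ω → Ω)
    (hone : ∀ a, act 1 a = a) (hmul : ∀ g h a, act (g * h) a = act g (act h a)) :
    IsCharacter C (fun y => (Nat.card {a : Ω // act y a = a} : ℂ)) := by
  classical
  haveI := Fintype.ofFinite Ω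
  let R : C →* Matrix Ω Ω ℂ :=
    { toFun := fun y => Matrix.of fun a b => if act y b = a then 1 else 0
      map_one' := by
        ext a b
        simp [hone, Matrix.one_apply, eq_comm]
      map_mul' := fun g h => by
        ext a b
        rw [Matrix.mul_apply, Finset.sum_eq_single (act h b)]
        · simp [hmul]
        · intro c _ hc
          simp [Ne.symm hc]
        · intro hc
          exact absurd (Finset.mem_univ _) hc }
  convert CfsgLib.Induction.isCharacter_of_matrix R using 1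
  funext y
  simp [R, Matrix.trace, Matrix.diag, Finset.sum_boole, Nat.card_eq_fintype_card,
    Fintype.card_subtype]

/-- A function with values in a finite set `S` of integers divides `∏ S`. -/
theorem prod_smul_mem {R : Subring (C → ℂ)} {f h : C → ℂ} (hf : f ∈ R) (hfh : f * h ∈ R)
    (S : Finset ℕ) (hS : ∀ y, ∃ s ∈ S, f y = (s : ℂ)) :
    ((∏ s ∈ S, s : ℕ) : ℂ) • h ∈ R := by
  classical
  have key : ∀ T : Finset ℕ, ∃ Q ∈ R,
      ∏ s ∈ T, (f - (s : C → ℂ)) = f * Q + ((-1) ^ T.card * (∏ s ∈ T, s : ℕ)) := by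
    intro T
    induction T using Finset.induction_on with
    | empty => exact ⟨0, zero_mem R, by simp⟩
    | insert a T ha ih =>
      obtain ⟨Q, hQ, e⟩ := ih
      refine ⟨f * Q + ((-1) ^ T.card * (∏ s ∈ T, s : ℕ)) - (a : C → ℂ) * Q, ?_, ?_⟩
      · exact sub_mem (add_mem (mul_mem hf hQ)
          (mul_mem (pow_mem (neg_mem (one_mem R)) _) (natCast_mem R _))) (mul_mem (natCast_mem R _) hQ)
      · rw [Finset.prod_insert ha, Finset.prod_insert ha, e, Finset.card_insert_of_notMem ha]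
        push_cast
        ring
  obtain ⟨Q, hQ, e⟩ := key S
  have h0 : ∏ s ∈ S, (f - (s : C → ℂ)) = 0 := by
    funext y
    obtain ⟨s, hs, hy⟩ := hS y
    rw [Finset.prod_apply]
    exact Finset.prod_eq_zero hs (by simp [hy])
  rw [h0] at e
  have h2 : ((∏ s ∈ S, s : ℕ) : ℂ) • h = (-1) ^ (S.card + 1) * (f * h * Q) := by
    have e' : ((∏ s ∈ S, s : ℕ) : C → ℂ) = (-1) ^ (S.card + 1) * (f * Q) := by
      have h1 : ((-1 : C → ℂ) ^ S.card) * (-1) ^ S.card = 1 := by rw [← mul_pow]; simp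
      rw [pow_succ]
      linear_combination (-1 : C → ℂ) * (((∏ s ∈ S, s : ℕ) : C → ℂ) * h1) - (-1) ^ S.card * e
    rw [show ((∏ s ∈ S, s : ℕ) : ℂ) • h = ((∏ s ∈ S, s : ℕ) : C → ℂ) * h from
      funext fun y => by simp, e']
    ring
  rw [h2]
  exact mul_mem (pow_mem (neg_mem (one_mem R)) _) (mul_mem hfh hQ)

/-- A function with `p`-power values bounded by `p ^ k` divides a power of `p`. -/
theorem pow_smul_mem {R : Subring (C → ℂ)} {f h : C → ℂ} (hf : f ∈ R) (hfh : f * h ∈ R) {k : ℕ}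
    (hk : ∀ y, ∃ i ≤ k, f y = (p : ℂ) ^ i) : ∃ n, ((p : ℂ) ^ n) • h ∈ R := by
  classical
  have h1 := prod_smul_mem hf hfh ((Finset.range (k + 1)).image (p ^ ·)) fun y => by
    obtain ⟨i, hi, hy⟩ := hk y
    exact ⟨p ^ i, Finset.mem_image.2 ⟨i, Finset.mem_range.2 (by omega), rfl⟩, by simp [hy]⟩
  obtain ⟨n, hn⟩ : ∃ n, ∏ s ∈ (Finset.range (k + 1)).image (p ^ ·), s = p ^ n := by
    refine Finset.prod_induction _ (fun m => ∃ n, m = p ^ n) ?_ ⟨0, rfl⟩ ?_
    · rintro _ _ ⟨a, rfl⟩ ⟨b, rfl⟩; exact ⟨a + b, (pow_add p a b).symm⟩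
    · intro s hs
      obtain ⟨i, -, rfl⟩ := Finset.mem_image.1 hs
      exact ⟨i, rfl⟩
  exact ⟨n, by simpa [hn] using h1⟩

section Vector

variable [Fact p.Prime] {V : Type*} [AddCommGroup V] [Module (ZMod p) V] [Finite V]
  (ρ : Representation (ZMod p) C V)

/-- Fixed space. -/
def fix (y : C) : Submodule (ZMod p) V := LinearMap.ker (ρ y - 1)

theorem mem_fix {y : C} {x : V} : x ∈ fix ρ y ↔ ρ y x = x := by
  simp [fix, sub_eq_zero]

theorem exists_card_eq_pow (T : Submodule (ZMod p) V) [Finite T] :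
    ∃ i, Nat.card T = p ^ i :=
  ⟨Module.finrank (ZMod p) T, by rw [Module.natCard_eq_pow_finrank (K := ZMod p), Nat.card_zmod]⟩

/-- `p ^ n` times a function whose product with the fixed-point count is virtual is virtual. -/
theorem exists_pow_smul_mem_cycVirt [Finite C] {N : ℕ} {ψ : C → ℂ}
    (h : (fun y => (Nat.card (fix ρ y) : ℂ)) * ψ ∈ CycVirt C N) :
    ∃ n, ((p : ℂ) ^ n) • ψ ∈ CycVirt C N := by
  obtain ⟨k, hk⟩ := exists_card_eq_pow (⊤ : Submodule (ZMod p) V)
  refine pow_smul_mem ?_ h (k := k) fun y => ?_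
  · refine char_mem_cycVirt ?_
    convert isCharacter_card_fixed (fun (y : C) (x : V) => ρ y x) (fun x => by simp)
      (fun g h x => by simp) using 1
    funext y
    exact congrArg _ (Nat.card_congr (Equiv.subtypeEquivRight fun x => mem_fix ρ))
  · obtain ⟨i, hi⟩ := exists_card_eq_pow (fix ρ y)
    refine ⟨i, ?_, by simp [hi]⟩
    have := Nat.card_le_card_of_injective _
      (Submodule.inclusion_injective (le_top : fix ρ y ≤ ⊤))
    rwa [hk, hi, Nat.pow_le_pow_iff_right (Fact.out : p.Prime).one_lt] at this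

variable (S : BilinForm (ZMod p) V)

/-- Quadratic Gauss sum over a submodule. -/
def gaussQ (T : Submodule (ZMod p) V) : ℂ :=
  ∑ᶠ x : T, ZMod.stdAddChar (S x x)

theorem gaussQ_eq (T : Submodule (ZMod p) V) [Fintype T] :
    gaussQ S T = ∑ x : T, ZMod.stdAddChar (S x x) := finsum_eq_sum_of_fintype _

theorem isCycInt_stdAddChar (t : ZMod p) : IsCycInt p (ZMod.stdAddChar t) := by
  refine isCycInt_root (Fact.out : p.Prime).pos ?_
  rw [← AddChar.map_nsmul_eq_pow, nsmul_eq_mul, ZMod.natCast_self, zero_mul,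
    AddChar.map_zero_eq_one]

theorem isCycInt_gaussQ (T : Submodule (ZMod p) V) : IsCycInt p (gaussQ S T) := by
  classical
  haveI := Fintype.ofFinite T
  rw [gaussQ_eq]
  exact ⟨IsIntegral.sum _ fun x _ => (isCycInt_stdAddChar _).1,
    sum_mem fun x _ => (isCycInt_stdAddChar _).2⟩

/-- Gauss sums of nondegenerate forms. -/
theorem gaussQ_mul_conj (hp2 : p ≠ 2) (hS : ∀ x y, S x y = S y x) (T : Submodule (ZMod p) V)
    (hT : SelfDual.LND S T) : gaussQ S T * conj (gaussQ S T) = (Nat.card T : ℂ) := by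
  classical
  haveI := Fintype.ofFinite T
  have h2 : (2 : ZMod p) ≠ 0 := by
    intro h
    have : ((2 : ℕ) : ZMod p) = 0 := by exact_mod_cast h
    rw [ZMod.natCast_eq_zero_iff] at this
    exact hp2 ((Nat.prime_dvd_prime_iff_eq Fact.out Nat.prime_two).1 this)
  have hconj : ∀ t : ZMod p, conj (ZMod.stdAddChar t : ℂ) = ZMod.stdAddChar (-t) := fun t => by
    rw [AddChar.map_neg_eq_inv, Complex.inv_eq_conj]
    exact AddChar.norm_apply _ _
  rw [gaussQ_eq, map_sum, Finset.sum_mul_sum, Finset.sum_comm]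
  have h1 : ∀ z : T, ∑ x : T, (ZMod.stdAddChar (S x x) : ℂ) * conj (ZMod.stdAddChar (S z z) : ℂ) =
      ∑ h : T, ZMod.stdAddChar (S h h) * ZMod.stdAddChar (2 * S h z) := fun z => by
    rw [← Equiv.sum_comp (Equiv.addRight z)]
    refine Finset.sum_congr rfl fun h _ => ?_
    rw [hconj, ← AddChar.map_add_eq_mul, ← AddChar.map_add_eq_mul]
    congr 1
    simp only [Equiv.coe_addRight, Submodule.coe_add, map_add, LinearMap.add_apply, hS (z : V) h]
    ring
  simp only [h1]
  rw [Finset.sum_comm]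
  simp only [← Finset.mul_sum]
  rw [Finset.sum_eq_single (0 : T)]
  · simp [Nat.card_eq_fintype_card]
  · intro h _ hh
    refine mul_eq_zero_of_right _ ?_
    let a : AddChar T ℂ := ZMod.stdAddChar.compAddMonoidHom
      ((2 • (S h : V →ₗ[ZMod p] ZMod p).comp T.subtype).toAddMonoidHom)
    have ha : ∀ z : T, a z = ZMod.stdAddChar (2 * S h z) := fun z => by
      simp [a, two_mul]
    have hne : a ≠ 1 := by
      intro h1
      refine hh (Subtype.ext (hT h h.2 fun z hz => ?_))
      have h3 := DFunLike.congr_fun h1 (⟨z, hz⟩ : T)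
      rw [ha, AddChar.one_apply] at h3
      have h4 : (2 : ZMod p) * S h z = 0 := ZMod.injective_stdAddChar (by
        rw [AddChar.map_zero_eq_one]; exact h3)
      exact (mul_eq_zero.1 h4).resolve_left h2
    have := AddChar.sum_eq_zero_of_ne_one hne
    simpa only [ha] using this
  · intro h; exact absurd (Finset.mem_univ _) h

theorem gaussQ_sup (hS : ∀ x y, S x y = S y x) {A B : Submodule (ZMod p) V} (hd : Disjoint A B)
    (horth : B ≤ S.orthogonal A) : gaussQ S (A ⊔ B) = gaussQ S A * gaussQ S B := by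
  classical
  haveI := Fintype.ofFinite A
  haveI := Fintype.ofFinite B
  haveI := Fintype.ofFinite ↥(A ⊔ B)
  rw [gaussQ_eq, gaussQ_eq, gaussQ_eq, Finset.sum_mul_sum, ← Fintype.sum_prod_type']
  refine (Fintype.sum_bijective (fun z : A × B => (⟨(z.1 : V) + z.2,
    Submodule.add_mem_sup z.1.2 z.2.2⟩ : ↥(A ⊔ B))) ⟨?_, ?_⟩ _ _ fun z => ?_).symm
  · rintro ⟨a, b⟩ ⟨a', b'⟩ h
    have h' : (a : V) + b = a' + b' := congrArg Subtype.val h
    have hz : (a : V) - a' = b' - b := by
      rw [sub_eq_sub_iff_add_eq_add, h', add_comm]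
    have h0 : (a : V) - a' = 0 :=
      hd.le_bot ⟨sub_mem a.2 a'.2, by rw [hz]; exact sub_mem b'.2 b.2⟩
    refine Prod.ext (Subtype.ext (sub_eq_zero.1 h0)) (Subtype.ext ?_)
    rw [h0] at hz
    exact (sub_eq_zero.1 hz.symm).symm
  · rintro ⟨x, hx⟩
    obtain ⟨a, ha, b, hb, rfl⟩ := Submodule.mem_sup.1 hx
    exact ⟨(⟨a, ha⟩, ⟨b, hb⟩), rfl⟩
  · rw [← AddChar.map_add_eq_mul]
    congr 1
    have h0 : S z.1 z.2 = 0 := horth z.2.2 z.1 z.1.2
    simp only [map_add, LinearMap.add_apply, h0, hS (z.2 : V) z.1]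
    ring

/-- Gauss sums are in the local ideal. -/
theorem gaussQ_mem_ideal (hM : IsPModular p M) (T : Submodule (ZMod p) V) (hT : T ≠ ⊥) :
    MemLocalIdeal M (gaussQ S T) := by
  classical
  haveI := Fintype.ofFinite T
  have h1 : gaussQ S T =
      (∑ x : T, ((ZMod.stdAddChar (S x x) : ℂ) - 1)) + (Fintype.card T : ℂ) := by
    rw [gaussQ_eq]; simp
  rw [h1]
  refine MemLocalIdeal.add hM (MemLocalIdeal.sum hM _ fun x _ => ?_) ?_
  · have h := char_sub_one_mem hM (G := Multiplicative (ZMod p))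
      (χ := fun z => ((ZMod.stdAddChar (N := p)).toMonoidHom z : ℂ))
      (h := isCharacter_of_irr (isIrrCharacter_of_hom (ZMod.stdAddChar (N := p)).toMonoidHom.toHomUnits))
      (x := Multiplicative.ofAdd (S x x)) (k := 1) (by
        rw [pow_one]
        apply Multiplicative.toAdd.injective
        rw [toAdd_pow, toAdd_ofAdd, nsmul_eq_mul, ZMod.natCast_self, zero_mul]
        rfl)
    simpa using h
  · rw [memLocalIdeal_natCast_iff hM, ← Nat.card_eq_fintype_card]
    obtain ⟨i, hi⟩ := exists_card_eq_pow T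
    rw [hi]
    refine dvd_pow_self p fun h0 => ?_
    rw [h0, pow_zero] at hi
    exact hT ((Submodule.eq_bot_iff T).2 fun x hx =>
      congrArg Subtype.val ((Nat.card_eq_one_iff_unique.1 hi).1.elim (⟨x, hx⟩ : T) 0))

variable [Finite C]

/-- The fixed space of an element of order prime to `p` is nondegenerate. -/
theorem lnd_fix (hcop : ¬ p ∣ Nat.card C) (hinv : SelfDual.BInv ρ S)
    (hnd : SelfDual.LND S ⊤) (y : C) : SelfDual.LND S (fix ρ y) := by
  classical
  intro x hx h
  refine hnd x trivial fun z _ => ?_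
  have ho : ¬ p ∣ orderOf y := fun h' => hcop (h'.trans (orderOf_dvd_natCard y))
  set o := orderOf y with hodef
  let avg : V := ∑ j ∈ Finset.range o, ρ (y ^ j) z
  have havg : avg ∈ fix ρ y := by
    rw [mem_fix, map_sum]
    have hstep : ∀ j, ρ y (ρ (y ^ j) z) = ρ (y ^ (j + 1)) z := fun j => by
      rw [← Module.End.mul_apply, ← map_mul, ← pow_succ']
    simp only [hstep, avg]
    have h1 := Finset.sum_range_succ (fun j => ρ (y ^ j) z) o
    rw [Finset.sum_range_succ', hodef, pow_orderOf_eq_one, pow_zero] at h1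
    exact add_right_cancel h1
  have hxj : ∀ j : ℕ, ρ (y ^ j) x = x := by
    intro j
    induction j with
    | zero => simp
    | succ j ih => rw [pow_succ, map_mul, Module.End.mul_apply, (mem_fix ρ).1 hx, ih]
  have h2 := h avg havg
  simp only [avg, map_sum] at h2
  have h3 : ∀ j, S x (ρ (y ^ j) z) = S x z := fun j => by
    conv_lhs => rw [← hxj j]
    exact hinv _ _ _
  simp only [h3] at h2
  rw [Finset.sum_const, Finset.card_range, nsmul_eq_mul, mul_eq_zero,
    ZMod.natCast_eq_zero_iff] at h2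
  exact h2.resolve_left ho

/-- **The orthogonal witness.** -/
theorem hasPsi_symm (hM : IsPModular p M) (hp2 : p ≠ 2) (hcop : ¬ p ∣ Nat.card C)
    (hS : ∀ x y, S x y = S y x) (hinv : SelfDual.BInv ρ S) (hnd : SelfDual.LND S ⊤) :
    HasPsi p M C (fun y => Nat.card (fix ρ y)) (fun y => ρ y = 1) (Nat.card V) := by
  classical
  set R : C → Submodule (ZMod p) V := fun y => ⊤ ⊓ S.orthogonal (fix ρ y) with hR
  have hsplit := fun y => SelfDual.exists_orth_compl (lnd_fix ρ S hcop hinv hnd y) hnd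
    (le_top (a := fix ρ y))
  have hcard : ∀ y, Nat.card (fix ρ y) * Nat.card (R y) = Nat.card V := by
    intro y
    rw [← Nat.card_prod, ← Nat.card_congr (Submodule.prodEquivOfIsCompl _ _
      (IsCompl.of_eq (hsplit y).1.eq_bot (hsplit y).2.1)).toEquiv]
  have hval : ∀ y, gaussQ S ⊤ * conj (gaussQ S (fix ρ y)) =
      (Nat.card (fix ρ y) : ℂ) * gaussQ S (R y) := by
    intro y
    conv_lhs => rw [← (hsplit y).2.1, gaussQ_sup S hS (hsplit y).1 inf_le_right]
    rw [mul_right_comm, gaussQ_mul_conj S hp2 hS _ (lnd_fix ρ S hcop hinv hnd y)]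
  have hc0 : ∀ y, (Nat.card (fix ρ y) : ℂ) ≠ 0 := fun y => Nat.cast_ne_zero.2 Nat.card_pos.ne'
  refine ⟨p, fun y => gaussQ S (R y), fun y => Nat.card (R y), ?_⟩
  have hcl : IsClassFunction C fun y => gaussQ S (R y) := by
    intro g h
    have hfix : fix ρ (h * g * h⁻¹) = (fix ρ g).map (ρ h) := by
      ext x
      rw [mem_fix, Submodule.mem_map]
      constructor
      · intro hx
        refine ⟨ρ h⁻¹ x, (mem_fix ρ).2 ?_, SelfDual.apply_inv_apply h x⟩
        conv_rhs => rw [← hx]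
        simp only [← Module.End.mul_apply, ← map_mul]
        group
      · rintro ⟨z, hz, rfl⟩
        simp only [← Module.End.mul_apply, ← map_mul]
        rw [inv_mul_cancel_right, map_mul, Module.End.mul_apply, (mem_fix ρ).1 hz]
    refine mul_left_cancel₀ (hc0 g) ?_
    have e1 := hval (h * g * h⁻¹)
    have e2 := hval g
    have hinj : Function.Injective (ρ h) :=
      Function.LeftInverse.injective (g := ρ h⁻¹) fun x => SelfDual.inv_apply_apply h x
    have hcardeq : Nat.card (fix ρ (h * g * h⁻¹)) = Nat.card (fix ρ g) := by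
      rw [hfix]
      exact (Nat.card_congr (Submodule.equivMapOfInjective (ρ h) hinj (fix ρ g)).toEquiv).symm
    have hgq : gaussQ S (fix ρ (h * g * h⁻¹)) = gaussQ S (fix ρ g) := by
      haveI := Fintype.ofFinite (fix ρ g)
      haveI := Fintype.ofFinite (fix ρ (h * g * h⁻¹))
      rw [gaussQ_eq, gaussQ_eq]
      refine (Fintype.sum_bijective (fun z : fix ρ g => (⟨ρ h z, hfix ▸ ⟨z, z.2, rfl⟩⟩ :
        fix ρ (h * g * h⁻¹))) ⟨?_, ?_⟩ _ _ fun z => ?_).symm
      · intro a b hab
        exact Subtype.ext (hinj (congrArg Subtype.val hab))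
      · rintro ⟨x, hx⟩
        rw [hfix] at hx
        obtain ⟨z, hz, rfl⟩ := hx
        exact ⟨⟨z, hz⟩, rfl⟩
      · rw [hinv]
    rw [hcardeq, hgq] at e1
    exact e1.symm.trans e2
  have hv : (fun y => (Nat.card (fix ρ y) : ℂ)) * (fun y => gaussQ S (R y)) ∈ CycVirt C p := by
    haveI := Fintype.ofFinite V
    have hf : ((fun y => (Nat.card (fix ρ y) : ℂ)) * fun y => gaussQ S (R y)) =
        (fun _ => gaussQ S ⊤) * ∑ t : ZMod p, (fun _ => (ZMod.stdAddChar (-t) : ℂ)) *
          fun y => (Nat.card {x : {x : V // S x x = t} // ρ y x.1 = x.1} : ℂ) := by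
      funext y
      simp only [Pi.mul_apply, Finset.sum_apply]
      rw [← hval y]
      congr 1
      haveI := Fintype.ofFinite (fix ρ y)
      rw [gaussQ_eq, map_sum, ← Finset.sum_fiberwise Finset.univ (fun x : fix ρ y => S x x)]
      refine Finset.sum_congr rfl fun t _ => ?_
      rw [Finset.sum_congr rfl (fun x hx => by rw [(Finset.mem_filter.1 hx).2]), Finset.sum_const,
        nsmul_eq_mul, mul_comm, AddChar.map_neg_eq_inv, Complex.inv_eq_conj (AddChar.norm_apply _ _)]
      congr 2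
      rw [← Fintype.card_subtype, ← Nat.card_eq_fintype_card]
      exact Nat.card_congr ⟨fun x => ⟨⟨x.1.1, x.2⟩, (mem_fix ρ).1 x.1.2⟩,
        fun x => ⟨⟨x.1.1, (mem_fix ρ).2 x.2⟩, x.1.2⟩, fun _ => rfl, fun _ => rfl⟩
    rw [hf]
    refine mul_mem (const_mem_cycVirt (isCycInt_gaussQ S ⊤)) (sum_mem fun t _ =>
      mul_mem (const_mem_cycVirt (isCycInt_stdAddChar _)) (char_mem_cycVirt ?_))
    convert isCharacter_card_fixed (fun (y : C) (x : {x : V // S x x = t}) =>
      (⟨ρ y x.1, by rw [hinv]; exact x.2⟩ : {x : V // S x x = t})) (fun x => by simp)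
      (fun g h x => by simp) using 1
    funext y
    exact congrArg _ (Nat.card_congr (Equiv.subtypeEquivRight fun x => by simp [Subtype.ext_iff]))
  obtain ⟨n, hn⟩ := exists_pow_smul_mem_cycVirt ρ hv
  refine ⟨n, (Fact.out : p.Prime).pos, hcl, fun y => isCycInt_gaussQ S _, hn, ?_, fun y =>
    gaussQ_mul_conj S hp2 hS _ (hsplit y).2.2, fun y => ?_, fun y => le_of_eq ?_⟩
  · have : fix ρ (1 : C) = ⊤ := by ext x; simp [mem_fix]
    have hb : R 1 = ⊥ := by
      have h1 := (hsplit 1).1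
      rw [this, top_disjoint] at h1
      simpa [R, this] using h1
    show gaussQ S (R 1) = 1
    rw [hb]
    simp [gaussQ, finsum_unique, show ((default : (⊥ : Submodule (ZMod p) V)) : V) = 0 from (Submodule.mem_bot (ZMod p)).1 (Subtype.mem _)]
  · by_cases hb : R y = ⊥
    · left
      have h1 := (hsplit y).2.1
      change fix ρ y ⊔ R y = ⊤ at h1
      rw [hb, sup_bot_eq] at h1
      ext x
      exact (mem_fix ρ).1 (h1.ge trivial)
    · exact Or.inr (gaussQ_mem_ideal S hM _ hb)
  · rw [mul_comm]; exact hcard y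

end Vector

end CfsgLib.KGV
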