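import Cfsg.Agent.Lib.KGV.HasPsi
import Cfsg.Agent.Lib.Characters.Extension
import Cfsg.Agent.Lib.CharCorr.Basic
import Mathlib.GroupTheory.SemidirectProduct
import Mathlib.Tactic.Group

/-!
# The symplectic witness for Knörr's criterion

For a `p'`-group `C` preserving a bilinear `β` on `V` with `β - βᵀ` nondegenerate, the irreducible
character of the Heisenberg group of `β` extends to the semidirect product with `C`; its values
on `C`, rescaled, give the witness.
-/

set_option autoImplicit false
set_option linter.style.haveILetI false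
set_option linter.unusedSectionVars false

noncomputable section

namespace CfsgLib.KGV

open Cfsg CfsgLib.Characters CfsgLib.Blocks
open LinearMap (BilinForm)
open scoped ComplexConjugate

variable {p : ℕ} [Fact p.Prime] {V : Type*} [AddCommGroup V] [Module (ZMod p) V]

/-- The Heisenberg group of a bilinear form. -/
@[ext]
structure Heis (β : BilinForm (ZMod p) V) where
  /-- central coordinate -/
  z : ZMod p
  /-- vector coordinate -/
  v : V

namespace Heis

variable {β : BilinForm (ZMod p) V}

instance : Mul (Heis β) := ⟨fun a b => ⟨a.z + b.z + β a.v b.v, a.v + b.v⟩⟩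
instance : One (Heis β) := ⟨⟨0, 0⟩⟩
instance : Inv (Heis β) := ⟨fun a => ⟨-a.z + β a.v a.v, -a.v⟩⟩

@[simp] theorem mul_z (a b : Heis β) : (a * b).z = a.z + b.z + β a.v b.v := rfl
@[simp] theorem mul_v (a b : Heis β) : (a * b).v = a.v + b.v := rfl
@[simp] theorem one_z : (1 : Heis β).z = 0 := rfl
@[simp] theorem one_v : (1 : Heis β).v = 0 := rfl
@[simp] theorem inv_z (a : Heis β) : a⁻¹.z = -a.z + β a.v a.v := rfl
@[simp] theorem inv_v (a : Heis β) : a⁻¹.v = -a.v := rfl

instance : Group (Heis β) where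
  mul_assoc a b c := by
    ext
    · simp only [mul_z, mul_v, map_add, LinearMap.add_apply]; ring
    · simp only [mul_v]; abel
  one_mul a := by ext <;> simp
  mul_one a := by ext <;> simp
  inv_mul_cancel a := by ext <;> simp

/-- The coordinates. -/
def equivProd : Heis β ≃ ZMod p × V where
  toFun a := (a.z, a.v)
  invFun q := ⟨q.1, q.2⟩
  left_inv _ := rfl
  right_inv _ := rfl

instance [Finite V] : Finite (Heis β) := Finite.of_equiv _ equivProd.symm

theorem card_eq [Finite V] : Nat.card (Heis β) = p * Nat.card V := by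
  rw [Nat.card_congr equivProd, Nat.card_prod, Nat.card_zmod]

/-- The centre coordinate as an element. -/
def cz (s : ZMod p) : Heis β := ⟨s, 0⟩

theorem cz_add (s t : ZMod p) : (cz (s + t) : Heis β) = cz s * cz t := by ext <;> simp [cz]

theorem cz_zero : (cz 0 : Heis β) = 1 := rfl

theorem cz_comm (s : ZMod p) (a : Heis β) : cz s * a = a * cz s := by
  ext <;> simp [cz, add_comm]

theorem conj_eq (g h : Heis β) :
    g * h * g⁻¹ = cz (β g.v h.v - β h.v g.v) * h := by
  ext
  · simp [cz]; ring
  · simp [cz]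

theorem eq_cz_of_v_eq_zero (h : Heis β) (hv : h.v = 0) : h = cz h.z := by
  ext <;> simp [cz, hv]

/-- `f` is homogeneous of central character `μ`. -/
def Homog (f : Heis β → ℂ) (μ : AddChar (ZMod p) ℂ) : Prop := ∀ s h, f (cz s * h) = μ s * f h

/-- `β - βᵀ` is nondegenerate. -/
def ND (β : BilinForm (ZMod p) V) : Prop := ∀ v : V, (∀ w, β v w = β w v) → v = 0

theorem addChar_eq_one_of {μ : AddChar (ZMod p) ℂ} {t : ZMod p} (ht : t ≠ 0) (h : μ t = 1) :
    μ = 1 := by
  ext s
  rw [AddChar.one_apply, show s = (s * t⁻¹).val • t by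
    rw [nsmul_eq_mul, ZMod.natCast_zmod_val, mul_assoc, inv_mul_cancel₀ ht, mul_one],
    AddChar.map_nsmul_eq_pow, h, one_pow]

theorem apply_eq_zero (hnd : ND β) {f : Heis β → ℂ} (hf : IsClassFunction (Heis β) f)
    {μ : AddChar (ZMod p) ℂ} (hμ : μ ≠ 1) (hfμ : Homog f μ) (h : Heis β) (hv : h.v ≠ 0) :
    f h = 0 := by
  obtain ⟨w, hw⟩ : ∃ w, β h.v w ≠ β w h.v := by
    by_contra! hcon
    exact hv (hnd _ hcon)
  have h1 := hf h ⟨0, w⟩
  rw [conj_eq, hfμ] at h1
  by_contra hne
  exact hμ (addChar_eq_one_of (sub_ne_zero.2 (Ne.symm hw)) (mul_left_eq_self₀.1 h1 |>.resolve_right hne))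

theorem classInner_homog [Fintype (Heis β)] [Finite V] (hnd : ND β) {f θ : Heis β → ℂ}
    (hf : IsClassFunction (Heis β) f) {μ : AddChar (ZMod p) ℂ} (hμ : μ ≠ 1) (hfμ : Homog f μ)
    (hθμ : Homog θ μ) :
    classInner f θ * (Nat.card V : ℂ) = f 1 * conj (θ 1) := by
  classical
  have hsum : ∑ h : Heis β, f h * conj (θ h) = (p : ℂ) * (f 1 * conj (θ 1)) := by
    rw [← Finset.sum_filter_add_sum_filter_not Finset.univ (fun h : Heis β => h.v = 0),
      Finset.sum_eq_zero (s := Finset.univ.filter fun h : Heis β => ¬ h.v = 0) fun h hh => by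
        rw [apply_eq_zero hnd hf hμ hfμ h (Finset.mem_filter.1 hh).2, zero_mul], add_zero]
    have hbij : ∑ h ∈ Finset.univ.filter (fun h : Heis β => h.v = 0), f h * conj (θ h) =
        ∑ s : ZMod p, f (cz s) * conj (θ (cz s)) := by
      refine (Finset.sum_bij (fun s _ => (cz s : Heis β)) ?_ ?_ ?_ fun _ _ => rfl).symm
      · intro s _; simp [cz]
      · intro a _ b _ hab; exact congrArg Heis.z hab
      · intro h hh
        exact ⟨h.z, Finset.mem_univ _, (eq_cz_of_v_eq_zero h (Finset.mem_filter.1 hh).2).symm⟩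
    rw [hbij, Finset.sum_congr rfl (g := fun _ : ZMod p => f 1 * conj (θ 1))]
    · simp [ZMod.card]
    · intro s _
      have e1 := hfμ s 1
      have e2 := hθμ s 1
      rw [mul_one] at e1 e2
      rw [e1, e2, map_mul]
      have hn : μ s * conj (μ s) = 1 := by
        rw [Complex.mul_conj', AddChar.norm_apply]; simp
      linear_combination (f 1 * conj (θ 1)) * hn
  have hp0 : (p : ℂ) ≠ 0 := Nat.cast_ne_zero.2 (Fact.out : p.Prime).ne_zero
  have hV0 : (Nat.card V : ℂ) ≠ 0 := Nat.cast_ne_zero.2 Nat.card_pos.ne'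
  rw [classInner, hsum, card_eq, Nat.cast_mul]
  field_simp

/-- An irreducible character multiplies by scalars on central elements. -/
theorem irr_central {X : Type*} [Group X] [Finite X] {χ : X → ℂ} (hχ : IsIrrCharacter X χ)
    {z : X} (hz : ∀ g, z * g = g * z) (g : X) : χ (z * g) * χ 1 = χ z * χ g := by
  obtain ⟨n, ρ, hρ, rfl⟩ := hχ
  haveI := hρ
  obtain ⟨c, hc⟩ := CfsgLib.CharExtension.exists_scalar_of_commute ρ (ρ z) fun x => by
    rw [← map_mul, ← map_mul, hz]
  simp only [Representation.character, map_mul, hc, map_one, map_smul, smul_mul_assoc, one_mul,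
    smul_eq_mul, Algebra.algebraMap_eq_smul_one, LinearMap.trace_one]
  ring

/-- Irreducible characters are homogeneous. -/
theorem exists_homog [Finite V] {θ : Heis β → ℂ} (hθ : IsIrrCharacter (Heis β) θ) :
    ∃ μ : AddChar (ZMod p) ℂ, Homog θ μ := by
  obtain ⟨n, hn, h1⟩ := irr_exists_degree hθ
  have h0 : θ 1 ≠ 0 := by rw [h1]; exact_mod_cast hn.ne'
  refine ⟨{ toFun := fun s => θ (cz s) / θ 1
            map_zero_eq_one' := by simp only [cz_zero]; exact div_self h0
            map_add_eq_mul' := fun s t => ?_ }, fun s h => ?_⟩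
  · have := irr_central hθ (cz_comm s) (cz t : Heis β)
    rw [cz_add]
    field_simp
    linear_combination this
  · show θ (cz s * h) = θ (cz s) / θ 1 * θ h
    have := irr_central hθ (cz_comm s) h
    field_simp
    linear_combination this

theorem classInner_eq_zero_of_ne [Fintype (Heis β)] {f θ : Heis β → ℂ}
    {μ ν : AddChar (ZMod p) ℂ} (hf : Homog f μ) (hθ : Homog θ ν) (hne : μ ≠ ν) :
    classInner f θ = 0 := by
  obtain ⟨s, hs⟩ : ∃ s, μ s * conj (ν s) ≠ 1 := by
    by_contra! hcon
    refine hne ?_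
    ext s
    have hn : conj (ν s) * ν s = 1 := by
      rw [mul_comm, Complex.mul_conj', AddChar.norm_apply]; simp
    linear_combination (ν s) * hcon s - (μ s) * hn
  have h1 : ∑ h : Heis β, f h * conj (θ h) =
      μ s * conj (ν s) * ∑ h : Heis β, f h * conj (θ h) := by
    conv_lhs => rw [← Equiv.sum_comp (Equiv.mulLeft (cz s : Heis β))]
    rw [Finset.mul_sum]
    refine Finset.sum_congr rfl fun h _ => ?_
    rw [Equiv.coe_mulLeft, hf, hθ, map_mul]
    ring
  rw [classInner]
  rw [mul_eq_zero]
  right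
  by_contra h0
  exact hs (mul_right_cancel₀ h0 (h1.symm.trans (one_mul _).symm))

theorem exists_irr_nontrivial [Finite V] :
    ∃ (θ : Heis β → ℂ) (μ : AddChar (ZMod p) ℂ), IsIrrCharacter (Heis β) θ ∧ μ ≠ 1 ∧ Homog θ μ := by
  classical
  haveI : Fintype (Heis β) := Fintype.ofFinite _
  by_contra! hcon
  have hz1 : ¬ IsConj (cz 1 : Heis β) 1 := by
    rw [isConj_one_left]
    intro h
    exact one_ne_zero (congrArg Heis.z h)
  apply hz1
  rw [isConj_iff_irr]
  intro χ
  obtain ⟨μ, hμ⟩ := exists_homog χ.2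
  have h1 : μ = 1 := by
    by_contra hne
    exact hcon χ.1 μ χ.2 hne hμ
  have := hμ 1 1
  rwa [mul_one, h1, AddChar.one_apply, one_mul] at this

theorem irr_degree_sq [Finite V] (hnd : ND β) {θ : Heis β → ℂ} (hθ : IsIrrCharacter (Heis β) θ)
    {μ : AddChar (ZMod p) ℂ} (hμ : μ ≠ 1) (hθμ : Homog θ μ) {e : ℕ} (he : θ 1 = e) :
    e * e = Nat.card V := by
  haveI : Fintype (Heis β) := Fintype.ofFinite _
  have h := classInner_homog hnd (isClassFunction_of_isCharacter (isCharacter_of_irr hθ)) hμ hθμ hθμ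
  rw [classInner_irr_self hθ, one_mul, he, map_natCast] at h
  exact_mod_cast h.symm

/-- The automorphism induced by an isometry of `β`. -/
def congrAut (e : V ≃ₗ[ZMod p] V) (he : ∀ a b, β (e a) (e b) = β a b) : Heis β ≃* Heis β where
  toFun a := ⟨a.z, e a.v⟩
  invFun a := ⟨a.z, e.symm a.v⟩
  left_inv a := by ext <;> simp
  right_inv a := by ext <;> simp
  map_mul' a b := by ext <;> simp [he]

/-- Functoriality in linear maps preserving the forms. -/
def mapHom {W : Type*} [AddCommGroup W] [Module (ZMod p) W] {γ : BilinForm (ZMod p) W}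
    (f : W →ₗ[ZMod p] V) (hf : ∀ a b, β (f a) (f b) = γ a b) : Heis γ →* Heis β where
  toFun a := ⟨a.z, f a.v⟩
  map_one' := by ext <;> simp
  map_mul' a b := by ext <;> simp [hf]

end Heis

section Witness

variable [Finite V] {C : Type*} [Group C] [Finite C] {M : Ideal AlgInt}
  (ρ : Representation (ZMod p) C V)

/-- The linear automorphism of a representation at an element. -/
def repEquiv (y : C) : V ≃ₗ[ZMod p] V :=
  LinearEquiv.ofLinear (ρ y) (ρ y⁻¹) (LinearMap.ext fun x => SelfDual.apply_inv_apply y x)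
    (LinearMap.ext fun x => SelfDual.inv_apply_apply y x)

@[simp] theorem repEquiv_apply (y : C) (x : V) : repEquiv ρ y x = ρ y x := rfl

/-- The action on the Heisenberg group. -/
def heisAct {β : BilinForm (ZMod p) V} (hinv : SelfDual.BInv ρ β) : C →* MulAut (Heis β) where
  toFun y := Heis.congrAut (repEquiv ρ y) fun a b => hinv y a b
  map_one' := MulEquiv.ext fun a => Heis.ext rfl (by simp [Heis.congrAut])
  map_mul' g h := MulEquiv.ext fun a => Heis.ext rfl (by simp [Heis.congrAut])

theorem heisAct_apply {β : BilinForm (ZMod p) V} (hinv : SelfDual.BInv ρ β) (y : C) (a : Heis β) :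
    heisAct ρ hinv y a = ⟨a.z, ρ y a.v⟩ := rfl

/-- The irreducible character of the Heisenberg group extends to the semidirect product. -/
theorem exists_extension (hcop : ¬ p ∣ Nat.card C) {β : BilinForm (ZMod p) V}
    (hinv : SelfDual.BInv ρ β) (hnd : Heis.ND β) {θ : Heis β → ℂ}
    (hθ : IsIrrCharacter (Heis β) θ) {μ : AddChar (ZMod p) ℂ} (hμ : μ ≠ 1)
    (hθμ : Heis.Homog θ μ) :
    ∃ χ : (Heis β ⋊[heisAct ρ hinv] C) → ℂ,
      IsIrrCharacter (Heis β ⋊[heisAct ρ hinv] C) χ ∧ ∀ h, χ (SemidirectProduct.inl h) = θ h := by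
  classical
  have hp : p.Prime := Fact.out
  set φ := heisAct ρ hinv with hφ
  haveI : Finite (Heis β ⋊[φ] C) := Finite.of_equiv _ SemidirectProduct.equivProd.symm
  have hθact : ∀ (y : C) (h : Heis β), θ (φ y h) = θ h := by
    intro y h
    rw [hφ, heisAct_apply]
    by_cases hv : h.v = 0
    · rw [hv, map_zero]; congr 1; ext <;> simp [hv]
    · rw [Heis.apply_eq_zero hnd (isClassFunction_of_isCharacter (isCharacter_of_irr hθ)) hμ hθμ h hv,
        Heis.apply_eq_zero hnd (isClassFunction_of_isCharacter (isCharacter_of_irr hθ)) hμ hθμ _]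
      intro h0
      exact hv ((repEquiv ρ y).injective (h0.trans (map_zero (repEquiv ρ y)).symm))
  let N : Subgroup (Heis β ⋊[φ] C) :=
    (SemidirectProduct.rightHom : (Heis β ⋊[φ] C) →* C).ker
  have hN : ∀ x : Heis β ⋊[φ] C, x ∈ N ↔ x.right = 1 := fun x => Iff.rfl
  let e : N ≃* Heis β :=
    { toFun := fun x => x.1.left
      invFun := fun h => ⟨SemidirectProduct.inl h, rfl⟩
      left_inv := fun x => Subtype.ext (SemidirectProduct.ext rfl ((hN x.1).1 x.2).symm)
      right_inv := fun h => rfl
      map_mul' := fun a b => by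
        show (a.1 * b.1).left = _
        rw [SemidirectProduct.mul_left, (hN a.1).1 a.2, map_one, MulAut.one_apply] }
  have hθN : IsIrrCharacter N (θ ∘ e) := CfsgLib.CharCorr.isIrrCharacter_comp_equiv hθ e
  have hinvN : ∀ (g : Heis β ⋊[φ] C) (n : N),
      (θ ∘ e) ⟨g * n * g⁻¹, (show N.Normal from MonoidHom.normal_ker _).conj_mem
        (n : Heis β ⋊[φ] C) n.2 g⟩ = (θ ∘ e) n := by
    intro g n
    show θ (g * (n : Heis β ⋊[φ] C) * g⁻¹).left = θ (n : Heis β ⋊[φ] C).left
    have hn : (n : Heis β ⋊[φ] C).right = 1 := (hN _).1 n.2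
    simp only [SemidirectProduct.mul_left, SemidirectProduct.mul_right,
      SemidirectProduct.inv_left, hn, mul_one]
    rw [← MulAut.mul_apply, ← map_mul, mul_inv_cancel, map_one, MulAut.one_apply,
      isClassFunction_of_isCharacter (isCharacter_of_irr hθ), hθact]
  obtain ⟨d, -, hd⟩ := irr_exists_degree hθ
  have hdd := Heis.irr_degree_sq hnd hθ hμ hθμ hd
  have hidx : N.index = Nat.card C := by
    rw [Subgroup.index_ker, MonoidHom.range_eq_top.2 SemidirectProduct.rightHom_surjective,
      Subgroup.card_top]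
  have hcop' : N.index.Coprime d := by
    rw [hidx]
    obtain ⟨i, hi⟩ := exists_card_eq_pow (p := p) (⊤ : Submodule (ZMod p) V)
    rw [Nat.card_congr (Submodule.topEquiv (R := ZMod p) (M := V)).toEquiv] at hi
    refine ((hp.coprime_iff_not_dvd.2 hcop).symm.pow_right i).coprime_dvd_right ?_
    exact hi ▸ hdd ▸ dvd_mul_right d d
  -- the determinant
  obtain ⟨m, σ, hσ, hσc⟩ := hθN
  haveI := hσ
  let det : Heis β →* ℂˣ := (Units.map LinearMap.det).comp (σ.toHomUnits.comp e.symm.toMonoidHom)
  have hdet : ∀ (y : C) (h : Heis β), det (φ y h) = det h := by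
    intro y h
    let c : N →* N := (e.symm.toMonoidHom.comp (φ y).toMonoidHom).comp e.toMonoidHom
    obtain ⟨T, hT⟩ := CfsgLib.CharExtension.exists_unit_conj σ (σ.comp c) (by
      funext n
      show σ.character (c n) = σ.character n
      rw [hσc]
      show θ (e (e.symm (φ y (e n)))) = θ (e n)
      rw [e.apply_symm_apply, hθact])
    apply Units.ext
    show LinearMap.det (σ (e.symm (φ y h))) = LinearMap.det (σ (e.symm h))
    have h2 := hT (e.symm h)
    have h3 : σ.comp c (e.symm h) = σ (e.symm (φ y h)) :=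
      congrArg σ (show e.symm (φ y (e (e.symm h))) = _ by rw [e.apply_symm_apply])
    rw [h3] at h2
    have hu : LinearMap.det T.1 ≠ 0 := (T.isUnit.map LinearMap.det).ne_zero
    have h4 := congrArg LinearMap.det h2
    rw [map_mul, map_mul] at h4
    exact mul_right_cancel₀ hu (h4.symm.trans (mul_comm _ _))
  let f : Heis β ⋊[φ] C →* ℂˣ := SemidirectProduct.lift det 1 fun y => MonoidHom.ext fun h => by
    simp [hdet y h]
  obtain ⟨χ, hχ, hext⟩ := CfsgLib.CharExtension.extends_of_det N
    (show IsIrrCharacter N (θ ∘ e) from ⟨m, σ, hσ, hσc⟩) hinvN d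
    (by simpa using hd) hcop' (fun x => (f x : ℂ)) (CfsgLib.Induction.isCharacter_monoidHom
      ((Units.coeHom ℂ).comp f)) (by simp) (fun n => by
      rw [← hσc, CfsgLib.CharExtension.detChar_eq σ]
      show ((f (n : Heis β ⋊[φ] C)) : ℂ) = LinearMap.det (σ n)
      rw [show (n : Heis β ⋊[φ] C) = SemidirectProduct.inl (e n) from
        congrArg Subtype.val (e.symm_apply_apply n).symm, SemidirectProduct.lift_inl]
      show LinearMap.det (σ (e.symm (e n))) = _
      rw [e.symm_apply_apply])
  refine ⟨χ, hχ, fun h => ?_⟩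
  have := hext (e.symm h)
  rw [Function.comp_apply, e.apply_symm_apply] at this
  exact this

/-- **The symplectic witness.** -/
theorem hasPsi_alt (hM : IsPModular p M) (hcop : ¬ p ∣ Nat.card C) (β : BilinForm (ZMod p) V)
    (hinv : SelfDual.BInv ρ β) (hnd : Heis.ND β) :
    HasPsi p M C (fun y => Nat.card (fix ρ y)) (fun y => ρ y = 1) (Nat.card V) := by
  classical
  have hp : p.Prime := Fact.out
  obtain ⟨θ, μ, hθ, hμ, hθμ⟩ := Heis.exists_irr_nontrivial (β := β)
  let φ := heisAct ρ hinv
  obtain ⟨χ, hχ, hext⟩ : ∃ χ : (Heis β ⋊[φ] C) → ℂ,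
      IsIrrCharacter (Heis β ⋊[φ] C) χ ∧ ∀ h, χ (SemidirectProduct.inl h) = θ h :=
    exists_extension ρ hcop hinv hnd hθ hμ hθμ
  haveI : Finite (Heis β ⋊[φ] C) := Finite.of_equiv _ SemidirectProduct.equivProd.symm
  haveI : Fintype (Heis β ⋊[φ] C) := Fintype.ofFinite _
  haveI : Fintype (Heis β) := Fintype.ofFinite _
  obtain ⟨d, hd0, hd⟩ := irr_exists_degree hθ
  have hdd := Heis.irr_degree_sq hnd hθ hμ hθμ hd
  have hχcl := isClassFunction_of_isCharacter (isCharacter_of_irr hχ)
  have hcz : ∀ (s : ZMod p) (g : (Heis β ⋊[φ] C)), SemidirectProduct.inl (Heis.cz s) * g =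
      g * SemidirectProduct.inl (Heis.cz s) := by
    intro s g
    refine SemidirectProduct.ext ?_ (by simp)
    simp only [SemidirectProduct.mul_left, SemidirectProduct.left_inl, SemidirectProduct.right_inl,
      map_one, MulAut.one_apply]
    rw [Heis.cz_comm]
    congr 1
    simp only [φ, heisAct_apply]
    ext <;> simp [Heis.cz]
  have hχμ : ∀ (s : ZMod p) (g : (Heis β ⋊[φ] C)), χ (SemidirectProduct.inl (Heis.cz s) * g) = μ s * χ g := by
    intro s g
    have h1 := Heis.irr_central hχ (hcz s) g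
    have h2 : χ (SemidirectProduct.inl (Heis.cz s)) = μ s * d := by
      rw [hext, ← mul_one (Heis.cz s), hθμ, hd]
    have h3 : χ 1 = d := by rw [← map_one (SemidirectProduct.inl (φ := φ)), hext, hd]
    rw [h2, h3] at h1
    have hd' : (d : ℂ) ≠ 0 := Nat.cast_ne_zero.2 hd0.ne'
    exact mul_right_cancel₀ hd' (h1.trans (by ring))
  let W : C → ℂ := fun y => χ (SemidirectProduct.inr y)
  have hW : IsCharacter C W := by
    obtain ⟨n, σ, -, rfl⟩ := hχ
    exact ⟨n, σ.comp SemidirectProduct.inr, rfl⟩
  -- the centralizer of `y`: divisibility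
  have hdiv : ∀ y : C, ∃ e : ℕ, e * e = Nat.card (fix ρ y) ∧ e ∣ d ∧ 0 < e ∧
      IsCycInt (Nat.card (Heis β ⋊[φ] C) * Nat.card (Heis β ⋊[φ] C)) (W y / e) := by
    intro y
    let ι := (fix ρ y).subtype
    let β' : BilinForm (ZMod p) (fix ρ y) := β.comp ι ι
    have hnd' : Heis.ND β' := by
      intro v hv
      refine Subtype.ext (lnd_fix ρ (β - LinearMap.flip β) hcop (fun g a b => by simp [hinv g])
        (fun a _ ha => hnd a fun w => sub_eq_zero.1 (ha w trivial)) y v v.2 fun w hw =>
          sub_eq_zero.2 (hv ⟨w, hw⟩))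
    let j : Heis β' →* (Heis β ⋊[φ] C) :=
      SemidirectProduct.inl.comp (Heis.mapHom (β := β) ι fun a b => rfl)
    have hjinj : Function.Injective j := fun a b h => by
      have h1 := SemidirectProduct.inl_injective h
      exact Heis.ext (congrArg (fun x : Heis β => x.z) h1)
        (Subtype.ext (congrArg (fun x : Heis β => x.v) h1))
    have hjy : ∀ h : Heis β', SemidirectProduct.inr y * j h = j h * SemidirectProduct.inr y := by
      intro h
      refine SemidirectProduct.ext ?_ (by simp [j])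
      simp only [j, MonoidHom.comp_apply, SemidirectProduct.mul_left, SemidirectProduct.left_inr,
        SemidirectProduct.right_inr, SemidirectProduct.left_inl, SemidirectProduct.right_inl,
        map_one, mul_one, one_mul]
      simp only [φ, heisAct_apply]
      exact Heis.ext rfl ((mem_fix ρ).1 h.v.2)
    have hjcz : ∀ s : ZMod p, j (Heis.cz s) = SemidirectProduct.inl (Heis.cz s) := fun s => rfl
    haveI : Fintype (Heis β') := Fintype.ofFinite _
    let g0 : Heis β' → ℂ := fun h => χ (j h)
    have hg0 : IsCharacter (Heis β') g0 := by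
      obtain ⟨n, σ, -, rfl⟩ := hχ
      exact ⟨n, σ.comp j, rfl⟩
    have hg0μ : Heis.Homog g0 μ := fun s h => by simp only [g0, map_mul, hjcz, hχμ]
    obtain ⟨θ', hθ'⟩ : ∃ θ' : IrrCharacter (Heis β'), classInner g0 (θ' : Heis β' → ℂ) ≠ 0 := by
      by_contra! hcon
      have h0 := congrFun
        (eq_zero_of_forall_classInner_eq_zero (isClassFunction_of_isCharacter hg0) hcon) 1
      simp only [g0, map_one, Pi.zero_apply] at h0
      rw [← map_one (SemidirectProduct.inl (φ := φ)), hext, hd, Nat.cast_eq_zero] at h0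
      omega
    obtain ⟨ν, hν⟩ := Heis.exists_homog θ'.2
    have hνμ : ν = μ := by
      by_contra hne
      exact hθ' (Heis.classInner_eq_zero_of_ne hg0μ hν (Ne.symm hne))
    rw [hνμ] at hν
    obtain ⟨e, he0, he⟩ := irr_exists_degree θ'.2
    have hee := Heis.irr_degree_sq hnd' θ'.2 hμ hν he
    refine ⟨e, hee, ?_, he0, ?_⟩
    · rw [← Nat.pow_dvd_pow_iff two_ne_zero, pow_two, pow_two, hee, hdd]
      exact (fix ρ y).toAddSubgroup.card_addSubgroup_dvd_card
    · let D : Subgroup (Heis β ⋊[φ] C) := j.range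
      haveI : Fintype D := Fintype.ofFinite D
      let ej : Heis β' ≃* D := MonoidHom.ofInjective hjinj
      have hθD : IsCharacter D (fun u => conj ((θ' : Heis β' → ℂ) (ej.symm u))) := by
        obtain ⟨n, σ, hσ⟩ := isCharacter_conj (irr_isCharacter θ')
        exact ⟨n, σ.comp ej.symm.toMonoidHom, funext fun u => congrFun hσ (ej.symm u)⟩
      have h1 := avg_char_mul (isCharacter_of_irr hχ) D (SemidirectProduct.inr y) (by
        rintro _ ⟨h, rfl⟩; exact hjy h) hθD
      let fy : Heis β' → ℂ := fun h => χ (SemidirectProduct.inr y * j h)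
      have hfycl : IsClassFunction (Heis β') fy := fun g h => by
        show χ (SemidirectProduct.inr y * j (h * g * h⁻¹)) = χ (SemidirectProduct.inr y * j g)
        rw [map_mul, map_mul, map_inv, ← mul_assoc, ← mul_assoc, hjy, mul_assoc (j h)]
        exact hχcl _ _
      have hfyμ : Heis.Homog fy μ := fun s h => by
        simp only [fy, map_mul, hjcz, ← hχμ, ← mul_assoc, ← hcz]
      have h2 : (Nat.card D : ℂ)⁻¹ * ∑ u : D, χ (SemidirectProduct.inr (φ := φ) y * (u : Heis β ⋊[φ] C)) *
          conj ((θ' : Heis β' → ℂ) (ej.symm u)) = classInner fy (θ' : Heis β' → ℂ) := by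
        rw [classInner, Nat.card_congr ej.symm.toEquiv]
        congr 1
        refine (Fintype.sum_equiv ej.toEquiv _ _ fun h => ?_).symm
        simp only [MulEquiv.toEquiv_eq_coe, EquivLike.coe_coe, MulEquiv.symm_apply_apply]
        rfl
      rw [h2] at h1
      convert h1 using 1
      have h3 := Heis.classInner_homog hnd' hfycl hμ hfyμ hν
      simp only [fy, map_one, mul_one, he, map_natCast] at h3
      rw [← hee, Nat.cast_mul] at h3
      have he' : (e : ℂ) ≠ 0 := Nat.cast_ne_zero.2 he0.ne'
      rw [div_eq_iff he']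
      exact (mul_right_cancel₀ he' (by linear_combination h3)).symm
  choose e hee hed he0 hint using hdiv
  have he0' : ∀ y, (e y : ℂ) ≠ 0 := fun y => Nat.cast_ne_zero.2 (he0 y).ne'
  -- the absolute value
  have hnorm : ∀ y : C, W y * conj (W y) = (Nat.card (fix ρ y) : ℂ) := by
    intro y
    obtain ⟨n, σ, hσ, hσc⟩ := hχ
    have hT : σ.character = χ := hσc
    obtain ⟨m, τ, hτ, hτc⟩ := hθ
    haveI := hτ
    obtain ⟨ψ⟩ := CfsgLib.CharExtension.nonempty_equiv_of_char_eq τ
      (σ.comp (SemidirectProduct.inl (φ := φ))) (funext fun h => by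
        rw [hτc]; exact (congrFun hσc _).trans (hext h))
    haveI : Representation.IsIrreducible (σ.comp (SemidirectProduct.inl (φ := φ)) :
      Representation ℂ (Heis β) (Fin n → ℂ)) := isIrreducible_of_equiv ψ hτ
    let T := σ (SemidirectProduct.inr y)
    let A : Module.End ℂ (Fin n → ℂ) :=
      ∑ g : Heis β, σ (SemidirectProduct.inl g) * T * σ (SemidirectProduct.inl g⁻¹)
    obtain ⟨c, hc⟩ := CfsgLib.CharExtension.exists_scalar_of_commute
      (σ.comp (SemidirectProduct.inl (φ := φ))) A fun x => by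
        simp only [A, Finset.sum_mul, Finset.mul_sum, MonoidHom.comp_apply]
        rw [← Equiv.sum_comp (Equiv.mulLeft x)]
        refine Finset.sum_congr rfl fun g _ => ?_
        have e : σ (SemidirectProduct.inl x⁻¹) * σ (SemidirectProduct.inl x) = 1 := by
          rw [← map_mul, ← map_mul, inv_mul_cancel, map_one, map_one]
        simp only [Equiv.coe_mulLeft, mul_inv_rev, map_mul, mul_assoc, e, mul_one]
    have hn : (n : ℂ) = d := by
      have := congrFun hσc 1
      rw [Representation.char_one, Module.finrank_fin_fun, ← map_one (SemidirectProduct.inl (φ := φ)),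
        hext, hd] at this
      exact this
    -- two traces
    have htA : LinearMap.trace ℂ _ A = (Nat.card (Heis β) : ℂ) * W y := by
      simp only [A, map_sum]
      rw [Finset.sum_congr rfl (g := fun _ => W y), Finset.sum_const, Finset.card_univ,
        ← Nat.card_eq_fintype_card, nsmul_eq_mul]
      intro g _
      rw [LinearMap.trace_mul_comm, ← mul_assoc, ← map_mul, ← map_mul, map_inv, inv_mul_cancel,
        one_mul]
      exact congrFun hT _
    have hcA : LinearMap.trace ℂ _ A = c * d := by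
      rw [hc, Algebra.algebraMap_eq_smul_one, map_smul, LinearMap.trace_one,
        Module.finrank_fin_fun, smul_eq_mul, hn]
    have htB : LinearMap.trace ℂ _ (A * σ (SemidirectProduct.inr y⁻¹)) = c * conj (W y) := by
      rw [hc, ← Algebra.smul_def, map_smul, smul_eq_mul]
      congr 1
      rw [← char_inv_eq_conj' (σ := σ) hT (SemidirectProduct.inr y), map_inv]
      rfl
    have hsum : LinearMap.trace ℂ _ (A * σ (SemidirectProduct.inr y⁻¹)) =
        (d : ℂ) * ((p * Nat.card (fix ρ y) : ℕ) : ℂ) := by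
      simp only [A, Finset.sum_mul, map_sum]
      have hterm : ∀ g : Heis β,
          LinearMap.trace ℂ _ (σ (SemidirectProduct.inl g) * T * σ (SemidirectProduct.inl g⁻¹) *
            σ (SemidirectProduct.inr y⁻¹)) = if ρ y g.v = g.v then (d : ℂ) else 0 := by
        intro g
        simp only [T, ← map_mul]
        have hel : SemidirectProduct.inl g * SemidirectProduct.inr y * SemidirectProduct.inl g⁻¹ *
            SemidirectProduct.inr y⁻¹ = SemidirectProduct.inl (φ := φ) (g * φ y g⁻¹) := by
          rw [map_mul SemidirectProduct.inl, SemidirectProduct.inl_aut, map_inv SemidirectProduct.inr]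
          simp only [mul_assoc]
        rw [hel]
        refine ((congrFun hT _).trans (hext _)).trans ?_
        simp only [φ, heisAct_apply]
        split_ifs with hfix
        · have h1 : g * (⟨(g⁻¹).z, ρ y (g⁻¹).v⟩ : Heis β) = 1 := by
            rw [show ρ y (g⁻¹).v = (g⁻¹).v by simp [hfix]]
            exact mul_inv_cancel g
          rw [h1, hd]
        · refine Heis.apply_eq_zero hnd (isClassFunction_of_isCharacter
            (isCharacter_of_irr ⟨m, τ, hτ, hτc⟩)) hμ hθμ _ fun h0 => hfix ?_
          simp only [Heis.mul_v, Heis.inv_v, map_neg, add_neg_eq_zero] at h0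
          exact h0.symm
      simp only [hterm]
      rw [← Finset.sum_filter, Finset.sum_const, nsmul_eq_mul, mul_comm]
      congr 2
      rw [← Fintype.card_subtype, ← Nat.card_eq_fintype_card,
        show p * Nat.card (fix ρ y) = Nat.card (ZMod p × fix ρ y) by
          rw [Nat.card_prod, Nat.card_zmod]]
      exact Nat.card_congr ⟨fun g => (g.1.z, ⟨g.1.v, (mem_fix ρ).2 g.2⟩),
        fun q => ⟨⟨q.1, q.2⟩, (mem_fix ρ).1 q.2.2⟩, fun _ => rfl, fun _ => rfl⟩
    rw [htA] at hcA
    rw [htB, Nat.cast_mul] at hsum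
    rw [Heis.card_eq, Nat.cast_mul] at hcA
    have hV : (Nat.card V : ℂ) = d * d := by rw [← hdd, Nat.cast_mul]
    rw [hV] at hcA
    have hd' : (d : ℂ) ≠ 0 := Nat.cast_ne_zero.2 hd0.ne'
    have hp' : (p : ℂ) ≠ 0 := Nat.cast_ne_zero.2 hp.ne_zero
    have hc' : c = (p : ℂ) * d * W y := mul_right_cancel₀ hd' (by linear_combination -hcA)
    rw [hc'] at hsum
    exact mul_left_cancel₀ (mul_ne_zero hp' hd') (by linear_combination hsum)
  let ψ : C → ℂ := fun y => ((d / e y : ℕ) : ℂ) * (W y / e y)
  have hψ : ∀ y, ψ y * (Nat.card (fix ρ y) : ℂ) = (d : ℂ) * W y := by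
    intro y
    simp only [ψ]
    rw [← hee y, Nat.cast_mul, Nat.cast_div (hed y) (he0' y)]
    field_simp [he0' y]
  have hv : (fun y => (Nat.card (fix ρ y) : ℂ)) * ψ ∈ CycVirt C (Nat.card (Heis β ⋊[φ] C) * Nat.card (Heis β ⋊[φ] C)) := by
    have : ((fun y => (Nat.card (fix ρ y) : ℂ)) * ψ) = (d : C → ℂ) * W := funext fun y => by
      simp only [Pi.mul_apply, Pi.natCast_apply, ← hψ y]; ring
    rw [this]
    exact mul_mem (natCast_mem _ d) (char_mem_cycVirt hW)
  obtain ⟨k, hk⟩ := exists_pow_smul_mem_cycVirt ρ hv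
  have hint' : ∀ y, IsCycInt (Nat.card (Heis β ⋊[φ] C) * Nat.card (Heis β ⋊[φ] C)) (ψ y) := fun y =>
    IsCycInt.mul ⟨isIntegral_algebraMap (x := ((d / e y : ℕ) : ℤ)), natCast_mem _ _⟩ (hint y)
  refine ⟨_, ψ, fun y => (d / e y) * (d / e y), k, Nat.mul_pos Nat.card_pos Nat.card_pos, ?_,
    hint', hk, ?_, fun y => ?_, fun y => ?_, fun y => ?_⟩
  · intro g h
    have hfix : Nat.card (fix ρ (h * g * h⁻¹)) = Nat.card (fix ρ g) := by
      refine Nat.card_congr ⟨fun x => ⟨ρ h⁻¹ x, ?_⟩, fun x => ⟨ρ h x, ?_⟩,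
        fun x => Subtype.ext (SelfDual.apply_inv_apply h _),
        fun x => Subtype.ext (SelfDual.inv_apply_apply h _)⟩
      · rw [mem_fix]
        conv_rhs => rw [← (mem_fix ρ).1 x.2]
        simp only [← Module.End.mul_apply, ← map_mul]
        group
      · rw [mem_fix, map_mul, map_mul]
        simp only [Module.End.mul_apply, SelfDual.inv_apply_apply, (mem_fix ρ).1 x.2]
    have hWgh : W (h * g * h⁻¹) = W g := isClassFunction_of_isCharacter hW g h
    refine mul_right_cancel₀ (b := ((Nat.card (fix ρ g) : ℕ) : ℂ))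
      (Nat.cast_ne_zero.2 Nat.card_pos.ne') ?_
    have := hψ (h * g * h⁻¹)
    rw [hfix, hWgh] at this
    exact this.trans (hψ g).symm
  · refine mul_right_cancel₀ (b := ((Nat.card (fix ρ (1 : C)) : ℕ) : ℂ))
      (Nat.cast_ne_zero.2 Nat.card_pos.ne') ?_
    rw [hψ, one_mul]
    have h1 : fix ρ (1 : C) = ⊤ := by ext x; simp [mem_fix]
    rw [h1, Nat.card_congr (Submodule.topEquiv (R := ZMod p) (M := V)).toEquiv, ← hdd, Nat.cast_mul]
    congr 1
    show χ (SemidirectProduct.inr 1) = _
    rw [map_one, ← map_one (SemidirectProduct.inl (φ := φ)), hext, hd]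
  · simp only [ψ, map_mul, map_natCast, map_div₀]
    have h := hnorm y
    rw [← hee y, Nat.cast_mul] at h
    push_cast
    field_simp [he0' y]
    linear_combination (((d / e y : ℕ) : ℂ) * ((d / e y : ℕ) : ℂ)) * h
  · by_cases hy : d / e y = 1
    · left
      have h1 : d = e y := by
        have := Nat.div_mul_cancel (hed y)
        rw [hy, one_mul] at this
        exact this.symm
      have h2 : fix ρ y = ⊤ := by
        rw [← Submodule.toAddSubgroup_inj, Submodule.top_toAddSubgroup]
        exact AddSubgroup.eq_top_of_card_eq _ (show Nat.card (fix ρ y) = _ by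
          rw [← hee y, ← h1, hdd])
      ext x
      exact (mem_fix ρ).1 (h2.ge trivial)
    · right
      refine MemLocalIdeal.mul_right hM ((memLocalIdeal_natCast_iff hM _).2 ?_)
        (memLocalRing_of_isIntegral hM (hint y).1)
      obtain ⟨i, hi⟩ := exists_card_eq_pow (p := p) (⊤ : Submodule (ZMod p) V)
      rw [Nat.card_congr (Submodule.topEquiv (R := ZMod p) (M := V)).toEquiv] at hi
      obtain ⟨k, -, hk⟩ := (Nat.dvd_prime_pow hp).1
        (show d / e y ∣ p ^ i from (Nat.div_dvd_of_dvd (hed y)).trans (hi ▸ hdd ▸ dvd_mul_right d d))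
      rw [hk] at hy ⊢
      exact dvd_pow_self p fun h => hy (by rw [h, pow_zero])
  · show d / e y * (d / e y) * Nat.card (fix ρ y) ≤ Nat.card V
    rw [← hdd, ← hee y]
    refine le_of_eq ?_
    have := Nat.div_mul_cancel (hed y)
    calc d / e y * (d / e y) * (e y * e y) = (d / e y * e y) * (d / e y * e y) := by ring
      _ = d * d := by rw [this]
where
  char_inv_eq_conj' {X : Type _} [Group X] [Finite X] {n : ℕ} {σ : Representation ℂ X (Fin n → ℂ)}
      {χ : X → ℂ} (h : σ.character = χ) (g : X) : σ.character g⁻¹ = conj (χ g) := by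
    subst h
    exact CfsgLib.Characters.char_inv_eq_conj σ g

end Witness

end CfsgLib.KGV
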