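import Cfsg.Prelude.Def_Blocks
import Cfsg.Agent.Lib.Characters.Decomp
import Cfsg.Agent.Lib.Characters.Values
import Cfsg.Agent.Lib.KGV.Ito
import Mathlib.GroupTheory.CommutingProbability
import Mathlib.GroupTheory.NoncommCoprod
import Mathlib.Tactic.Group

/-!
# Knörr's criterion for `k(GV) ≤ |V|`

`CycVirt C N` is the ring of class functions on `C` generated by characters and by the algebraic
integers in the field of `N`-th roots of unity.  If it holds a function `ψ` with `ψ 1 = 1`,
`ψ y` in the local ideal for `y ≠ 1` and `|ψ y|² · |C_V(y)| ≤ |V|`, for `C` the stabilizer in the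
complement of some `v ∈ V`, then `k(GV) ≤ |V|`.
-/

set_option autoImplicit false

noncomputable section

namespace CfsgLib.KGV

open Cfsg CfsgLib.Characters CfsgLib.Blocks
open scoped ComplexConjugate

/-- Algebraic integers in the field of `N`-th roots of unity. -/
def IsCycInt (N : ℕ) (c : ℂ) : Prop := IsIntegral ℤ c ∧ c ∈ rootField N

theorem IsCycInt.mono {M N : ℕ} (h : M ∣ N) {c : ℂ} (hc : IsCycInt M c) : IsCycInt N c :=
  ⟨hc.1, rootField_mono h hc.2⟩

theorem IsCycInt.add {N : ℕ} {a b : ℂ} (ha : IsCycInt N a) (hb : IsCycInt N b) :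
    IsCycInt N (a + b) := ⟨ha.1.add hb.1, add_mem ha.2 hb.2⟩

theorem IsCycInt.mul {N : ℕ} {a b : ℂ} (ha : IsCycInt N a) (hb : IsCycInt N b) :
    IsCycInt N (a * b) := ⟨ha.1.mul hb.1, mul_mem ha.2 hb.2⟩

theorem IsCycInt.neg {N : ℕ} {a : ℂ} (ha : IsCycInt N a) : IsCycInt N (-a) :=
  ⟨ha.1.neg, neg_mem ha.2⟩

theorem isCycInt_zero (N : ℕ) : IsCycInt N 0 := ⟨isIntegral_zero, zero_mem _⟩

theorem isCycInt_root {N : ℕ} (hN : 0 < N) {z : ℂ} (h : z ^ N = 1) : IsCycInt N z :=
  ⟨IsIntegral.of_pow hN (by rw [h]; exact isIntegral_one), mem_rootField_of_pow_eq_one h⟩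

/-- Virtual characters with cyclotomic integer coefficients. -/
def CycVirt (C : Type*) [Group C] (N : ℕ) : Subring (C → ℂ) :=
  Subring.closure ({f | ∃ c : ℂ, IsCycInt N c ∧ f = fun _ => c} ∪ {f | IsCharacter C f})

theorem const_mem_cycVirt {C : Type*} [Group C] {N : ℕ} {c : ℂ} (hc : IsCycInt N c) :
    (fun _ : C => c) ∈ CycVirt C N := Subring.subset_closure (Or.inl ⟨c, hc, rfl⟩)

theorem char_mem_cycVirt {C : Type*} [Group C] {N : ℕ} {f : C → ℂ} (hf : IsCharacter C f) :
    f ∈ CycVirt C N := Subring.subset_closure (Or.inr hf)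

theorem isClassFunction_cycVirt {C : Type*} [Group C] {N : ℕ} {f : C → ℂ}
    (hf : f ∈ CycVirt C N) : IsClassFunction C f := by
  induction hf using Subring.closure_induction with
  | mem f hf =>
    rcases hf with ⟨c, -, rfl⟩ | hf
    · exact fun _ _ => rfl
    · exact isClassFunction_of_isCharacter hf
  | zero => exact fun _ _ => rfl
  | one => exact fun _ _ => rfl
  | add f g _ _ hf hg => exact isClassFunction_add hf hg
  | neg f _ hf => exact fun a b => by simp [hf a b]
  | mul f g _ _ hf hg => exact isClassFunction_mul hf hg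

variable {X : Type*} [Group X] [Finite X]

/-- Averages of products of a character at `x y` with a character of `C` are cyclotomic
integers, for `x` centralizing `C`. -/
theorem avg_char_mul {χ : X → ℂ} (hχ : IsCharacter X χ) (C : Subgroup X) [Fintype C] (x : X)
    (hx : ∀ c ∈ C, Commute x c) {θ : C → ℂ} (hθ : IsCharacter C θ) :
    IsCycInt (Nat.card X * Nat.card X)
      ((Nat.card C : ℂ)⁻¹ * ∑ y : C, χ (x * y) * θ y) := by
  classical
  let Z := Subgroup.zpowers x × C
  let π : Z →* X := MonoidHom.noncommCoprod (Subgroup.zpowers x).subtype C.subtype (by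
    rintro ⟨a, i, rfl⟩ c
    exact (hx c c.2).zpow_left i)
  have hΘ : IsCharacter Z ((fun z => χ (π z)) * fun z => θ z.2) := by
    refine isCharacter_mul ?_ ?_
    · obtain ⟨n, ρ, rfl⟩ := hχ; exact ⟨n, ρ.comp π, rfl⟩
    · obtain ⟨n, ρ, rfl⟩ := hθ; exact ⟨n, ρ.comp (MonoidHom.snd _ _), rfl⟩
  let D : Subgroup Z := (MonoidHom.inr (Subgroup.zpowers x) C).range
  haveI : Fintype D := Fintype.ofFinite D
  let e : C ≃ D := Equiv.ofBijective (MonoidHom.inr (Subgroup.zpowers x) C).rangeRestrict
    ⟨fun a b h => congrArg Prod.snd (congrArg Subtype.val h),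
      MonoidHom.rangeRestrict_surjective _⟩
  have hnorm : ((⟨x, Subgroup.mem_zpowers x⟩, 1) : Z) ∈ Subgroup.normalizer (D : Set Z) := by
    rw [Subgroup.mem_normalizer_iff]
    intro z
    have : ∀ z : Z, z ∈ D ↔ z.1 = 1 := fun z =>
      ⟨by rintro ⟨c, rfl⟩; rfl, fun h => ⟨z.2, Prod.ext h.symm rfl⟩⟩
    rw [this, this]
    simp
  have h := avg_spec hΘ D ((⟨x, Subgroup.mem_zpowers x⟩, 1) : Z) hnorm
  have heq : ∑ d : D, ((fun z : Z => χ (π z)) * fun z : Z => θ z.2)
      (((⟨x, Subgroup.mem_zpowers x⟩, 1) : Z) * d) = ∑ y : C, χ (x * y) * θ y := by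
    refine (Fintype.sum_equiv e _ _ fun y => ?_).symm
    have he : ((e y : D) : Z) = (1, y) := rfl
    have hmul : ((⟨x, Subgroup.mem_zpowers x⟩, 1) : Z) * ((e y : D) : Z) = (⟨x, Subgroup.mem_zpowers x⟩, y) := by
      rw [he]; exact Prod.ext (mul_one _) (one_mul _)
    simp only [Pi.mul_apply]
    rw [hmul]
    rfl
  rw [heq, ← Nat.card_congr e] at h
  refine ⟨h.1, rootField_mono ?_ h.2⟩
  rw [Nat.card_prod]
  exact mul_dvd_mul (Subgroup.card_subgroup_dvd_card _) (Subgroup.card_subgroup_dvd_card _)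

/-- The coefficients of `f y * χ (x y)` are cyclotomic integers for `f` in `CycVirt`. -/
theorem avg_cycVirt {χ : X → ℂ} (hχ : IsCharacter X χ) (C : Subgroup X) [Fintype C] (x : X)
    (hx : ∀ c ∈ C, Commute x c) {N : ℕ} {f : C → ℂ} (hf : f ∈ CycVirt C N) {θ : C → ℂ}
    (hθ : IsCharacter C θ) :
    IsCycInt (N * (Nat.card X * Nat.card X))
      ((Nat.card C : ℂ)⁻¹ * ∑ y : C, f y * χ (x * y) * θ y) := by
  let Q : (C → ℂ) → Prop := fun g => ∀ θ : C → ℂ, IsCharacter C θ →
    IsCycInt (N * (Nat.card X * Nat.card X))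
      ((Nat.card C : ℂ)⁻¹ * ∑ y : C, g y * χ (x * y) * θ y)
  have h1 : Q 1 := fun θ hθ => by
    simpa using (avg_char_mul hχ C x hx hθ).mono (Dvd.intro_left N rfl)
  have key : ∀ g, Q g → Q (f * g) := by
    induction hf using Subring.closure_induction with
    | mem f hf =>
      intro g hg θ hθ
      rcases hf with ⟨c, hc, rfl⟩ | hf
      · have := (hc.mono (Dvd.intro (Nat.card X * Nat.card X) rfl)).mul (hg θ hθ)
        convert this using 1
        simp only [Pi.mul_apply, Finset.mul_sum]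
        exact Finset.sum_congr rfl fun y _ => by ring
      · convert hg (f * θ) (isCharacter_mul hf hθ) using 1
        simp only [Pi.mul_apply]
        congr 1
        exact Finset.sum_congr rfl fun y _ => by ring
    | zero => intro g _ θ _; simpa using isCycInt_zero _
    | one => intro g hg; simpa using hg
    | add f f' _ _ hf hf' =>
      intro g hg θ hθ
      convert (hf g hg θ hθ).add (hf' g hg θ hθ) using 1
      simp only [Pi.mul_apply, Pi.add_apply, ← mul_add, ← Finset.sum_add_distrib, add_mul]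
    | neg f _ hf =>
      intro g hg θ hθ
      convert (hf g hg θ hθ).neg using 1
      simp [Pi.mul_apply, neg_mul]
    | mul f f' _ _ hf hf' =>
      intro g hg
      rw [mul_assoc]
      exact hf _ (hf' g hg)
  simpa using key 1 h1 θ hθ

/-- **Knörr's criterion**, with `p`-power denominators allowed in `ψ`. -/
theorem knorr_of_pow_smul {p : ℕ} [Fact p.Prime] {M : Ideal AlgInt} (hM : IsPModular p M)
    (V : Subgroup X) [V.Normal] (hVp : IsPGroup p V) (hidx : ¬ p ∣ V.index)
    (hab : ∀ a ∈ V, ∀ b ∈ V, a * b = b * a) (G : Subgroup X) (hGV : Subgroup.IsComplement' V G)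
    (v : X) (hv : v ∈ V) (C : Subgroup X) (hC : C = G ⊓ Subgroup.centralizer ({v} : Set X))
    {N : ℕ} (hN : 0 < N) (ψ : C → ℂ) (hψcl : IsClassFunction C ψ)
    (hψint : ∀ y, IsCycInt N (ψ y)) {n : ℕ} (hψ : ((p : ℂ) ^ n) • ψ ∈ CycVirt C N)
    (hψ1 : ψ 1 = 1)
    (hψM : ∀ y : C, y ≠ 1 → MemLocalIdeal M (ψ y)) (m : C → ℕ)
    (hm : ∀ y : C, ψ y * conj (ψ y) = (m y : ℂ))
    (hmle : ∀ y : C, m y * Nat.card ↥(V ⊓ Subgroup.centralizer ({(y : X)} : Set X)) ≤ Nat.card V) :
    Nat.card (ConjClasses X) ≤ Nat.card V := by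
  classical
  haveI : Fintype X := Fintype.ofFinite X
  haveI : Fintype C := Fintype.ofFinite C
  have hCG : C ≤ G := hC ▸ inf_le_left
  have hvC : ∀ c ∈ C, Commute v c := fun c hc =>
    (Subgroup.mem_centralizer_singleton_iff.1 ((hC ▸ hc : c ∈ G ⊓ _).2)).symm
  have hpC : ¬ p ∣ Nat.card C := fun h => hidx <| by
    rw [hGV.symm.index_eq_card]
    exact h.trans (Subgroup.card_dvd_of_le hCG)
  obtain ⟨k, hk⟩ := hVp ⟨v, hv⟩
  have hvk : v ^ p ^ k = 1 := congrArg Subtype.val hk
  let e : IrrCharacter X × IrrCharacter C → ℂ := fun i =>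
    classInner (fun y : C => ψ y * (i.1 : X → ℂ) (v * y)) (i.2 : C → ℂ)
  have heC : ∀ i, IsCycInt (N * (Nat.card X * Nat.card X)) (e i) := by
    intro i
    -- `p ^ n • e` and `|C| • e` are cyclotomic integers
    have h1 : IsCycInt (N * (Nat.card X * Nat.card X)) ((p : ℂ) ^ n * e i) := by
      convert avg_cycVirt (irr_isCharacter i.1) C v hvC hψ
        (isCharacter_conj (irr_isCharacter i.2)) using 1
      simp only [e, classInner, Pi.smul_apply, smul_eq_mul, mul_assoc, mul_left_comm _ ((p : ℂ) ^ n),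
        ← Finset.mul_sum]
    have h2 : IsCycInt (N * (Nat.card X * Nat.card X)) ((Nat.card C : ℂ) * e i) := by
      have hC0 : (Nat.card C : ℂ) ≠ 0 := Nat.cast_ne_zero.2 Nat.card_pos.ne'
      simp only [e, classInner]
      rw [mul_inv_cancel_left₀ hC0]
      have hχ : ∀ z : X, (i.1 : X → ℂ) z ∈ rootField (N * (Nat.card X * Nat.card X)) := fun z =>
        rootField_mono (Dvd.intro_left N rfl)
          (rootField_mono (Dvd.intro _ rfl) (char_mem_rootField (irr_isCharacter i.1) z))
      refine ⟨IsIntegral.sum _ fun y _ => ((hψint y).1.mul (char_isIntegral (irr_isCharacter i.1) _)).mul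
        (char_isIntegral (isCharacter_conj (irr_isCharacter i.2)) y), sum_mem fun y _ =>
          mul_mem (mul_mem (rootField_mono (Dvd.intro _ rfl) (hψint y).2) (hχ _)) ?_⟩
      refine rootField_mono (Dvd.intro_left N rfl) (rootField_mono ?_
        (char_mem_rootField (isCharacter_conj (irr_isCharacter i.2)) y))
      exact (Subgroup.card_subgroup_dvd_card C).trans (Dvd.intro _ rfl)
    have hcast : ∀ z : ℤ, IsCycInt (N * (Nat.card X * Nat.card X)) (z : ℂ) := fun z =>
      ⟨isIntegral_algebraMap (x := z), intCast_mem _ z⟩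
    have hcop : (p ^ n).Coprime (Nat.card C) :=
      Nat.Coprime.pow_left n ((Fact.out : p.Prime).coprime_iff_not_dvd.2 hpC)
    have hb := Nat.gcd_eq_gcd_ab (p ^ n) (Nat.card C)
    rw [hcop.gcd_eq_one] at hb
    have hb' : (1 : ℂ) = (p : ℂ) ^ n * ((p ^ n).gcdA (Nat.card C) : ℂ) +
        (Nat.card C : ℂ) * ((p ^ n).gcdB (Nat.card C) : ℂ) := by exact_mod_cast hb
    have he : e i = ((p ^ n).gcdA (Nat.card C) : ℂ) * ((p : ℂ) ^ n * e i) +
        ((p ^ n).gcdB (Nat.card C) : ℂ) * ((Nat.card C : ℂ) * e i) := by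
      linear_combination (e i) * hb'
    rw [he]
    exact ((hcast _).mul h1).add ((hcast _).mul h2)
  -- every coefficient is non-zero
  have hne : ∀ i, e i ≠ 0 := by
    intro i h0
    have hsum : ∑ y : C, ψ y * (i.1 : X → ℂ) (v * y) * conj ((i.2 : C → ℂ) y) = 0 := by
      have := h0
      simp only [e, classInner, mul_eq_zero] at this
      exact this.resolve_left (by simp)
    rw [← Finset.add_sum_erase _ _ (Finset.mem_univ (1 : C))] at hsum
    have hrest : MemLocalIdeal M (∑ y ∈ Finset.univ.erase (1 : C),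
        ψ y * (i.1 : X → ℂ) (v * y) * conj ((i.2 : C → ℂ) y)) := by
      refine MemLocalIdeal.sum hM _ fun y hy => ?_
      rw [mul_assoc]
      refine MemLocalIdeal.mul_right hM (hψM y (Finset.ne_of_mem_erase hy)) ?_
      exact memLocalRing_of_isIntegral hM ((char_isIntegral (irr_isCharacter i.1) _).mul
        (char_isIntegral (isCharacter_conj (irr_isCharacter i.2)) y))
    obtain ⟨d, -, hd⟩ := irr_exists_degree i.1.2
    obtain ⟨d', hd', -, hdvd⟩ := irr_degree_dvd_card i.2
    have h1 : MemLocalIdeal M ((i.1 : X → ℂ) v * (d' : ℂ)) := by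
      have h2 := MemLocalIdeal.neg hM hrest
      rw [← eq_neg_of_add_eq_zero_left hsum, hψ1, Subgroup.coe_one, mul_one, one_mul, hd',
        map_natCast] at h2
      exact h2
    have hd'L : MemLocalRing M (d' : ℂ) := by simpa using memLocalRing_coe hM (d' : AlgInt)
    rcases MemLocalIdeal.mul_cases hM
      (memLocalRing_of_isIntegral hM (char_isIntegral (irr_isCharacter i.1) v)) hd'L h1 with h | h
    · have h3 := MemLocalIdeal.sub hM h (char_sub_one_mem hM (irr_isCharacter i.1) hvk)
      rw [sub_sub_cancel, hd, memLocalIdeal_natCast_iff hM] at h3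
      exact hidx (h3.trans (irrDegree_dvd_abelian_index V inferInstance hab i.1 d hd))
    · exact hpC (((memLocalIdeal_natCast_iff hM d').1 h).trans hdvd)
  -- the sum of the squared absolute values
  have hclass : ∀ χ : IrrCharacter X,
      IsClassFunction C (fun y : C => ψ y * (χ : X → ℂ) (v * y)) := by
    intro χ g h
    show ψ (h * g * h⁻¹) * (χ : X → ℂ) (v * ((h * g * h⁻¹ : C) : X)) = _
    rw [hψcl g h]
    congr 1
    rw [← irr_isClassFunction χ (v * g) (h : X)]
    congr 1
    simp only [Subgroup.coe_mul, InvMemClass.coe_inv]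
    rw [show (h : X) * (v * g) * (h : X)⁻¹ = ((h : X) * v) * g * (h : X)⁻¹ by group,
      ← (hvC h h.2).eq]
    group
  set c : C → ℕ := fun y => Nat.card (Subgroup.centralizer ({v * (y : X)} : Set X)) with hc
  have htot : ∑ i : IrrCharacter X × IrrCharacter C, e i * conj (e i) =
      (Nat.card C : ℂ)⁻¹ * ∑ y : C, ((m y * c y : ℕ) : ℂ) := by
    rw [Fintype.sum_prod_type, Finset.sum_congr rfl fun (χ : IrrCharacter X) _ =>
      (classInner_eq_sum_mul (φ := fun y : C => ψ y * (χ : X → ℂ) (v * y)) (hclass χ)).symm]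
    simp only [classInner, ← Finset.mul_sum]
    congr 1
    rw [Finset.sum_comm]
    refine Finset.sum_congr rfl fun y _ => ?_
    have h := column_orth (G := X) (v * y) (v * y)
    rw [if_pos (IsConj.refl _)] at h
    push_cast
    rw [← h, ← hm y, Finset.mul_sum]
    exact Finset.sum_congr rfl fun χ _ => by rw [map_mul]; ring
  have hkey := card_ne_zero_le_sum_normSq Finset.univ
    (Nat.mul_pos hN (Nat.mul_pos Nat.card_pos Nat.card_pos)) e
    (fun i _ => (heC i).2) (fun i _ => (heC i).1)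
    ((Nat.card C : ℚ)⁻¹ * ∑ y : C, ((m y * c y : ℕ) : ℚ)) (by rw [htot]; push_cast; rfl)
  rw [Finset.filter_true_of_mem (fun i _ => hne i), Finset.card_univ, Fintype.card_prod] at hkey
  -- the centralizer of `v y`
  have hcle : ∀ y : C, c y ≤ Nat.card ↥(V ⊓ Subgroup.centralizer ({(y : X)} : Set X)) *
      Nat.card (Subgroup.centralizer ({y} : Set C)) := by
    intro y
    have hbij : Function.Bijective (fun q : V × G => (q.1 : X) * q.2) := hGV
    have hsub : ∀ z ∈ Subgroup.centralizer ({v * (y : X)} : Set X),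
        ∃ u ∈ V ⊓ Subgroup.centralizer ({(y : X)} : Set X),
          ∃ g : C, g ∈ Subgroup.centralizer ({y} : Set C) ∧ u * (g : X) = z := by
      intro z hz
      have hz' : Commute z (v * y) := Subgroup.mem_centralizer_singleton_iff.1 hz
      have hvy : Commute v (y : X) := hvC y y.2
      have hcop : (p ^ k).Coprime (Nat.card C) :=
        Nat.Coprime.pow_left k ((Fact.out : p.Prime).coprime_iff_not_dvd.2 hpC)
      have hy1 : (y : X) ^ Nat.card C = 1 := by
        rw [← Subgroup.coe_pow, pow_card_eq_one', Subgroup.coe_one]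
      have hzy : Commute z (y : X) := by
        have h1 : Commute z ((v * (y : X)) ^ p ^ k) := hz'.pow_right _
        rw [hvy.mul_pow, hvk, one_mul] at h1
        have hb := Nat.gcd_eq_gcd_ab (p ^ k) (Nat.card C)
        rw [hcop.gcd_eq_one, Nat.cast_one] at hb
        have h2 : (y : X) = ((y : X) ^ p ^ k) ^ (p ^ k).gcdA (Nat.card C) := by
          conv_lhs => rw [← zpow_one (y : X), hb]
          rw [zpow_add, zpow_mul, zpow_mul, zpow_natCast, zpow_natCast, hy1, one_zpow, mul_one]
        rw [h2]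
        exact h1.zpow_right _
      have hzv : Commute z v := by
        have h1 := hz'.mul_right hzy.inv_right
        rwa [mul_inv_cancel_right] at h1
      obtain ⟨⟨u, g⟩, hug⟩ := hbij.surjective z
      subst hug
      have huv : Commute (u : X) v := hab u u.2 v hv
      have hgv : Commute (g : X) v := by
        have h1 := (huv.inv_left).mul_left hzv
        rwa [inv_mul_cancel_left] at h1
      have hgC : (g : X) ∈ C := hC ▸ ⟨g.2, Subgroup.mem_centralizer_singleton_iff.2 hgv⟩
      have hyu : (y : X) * u * (y : X)⁻¹ ∈ V := Subgroup.Normal.conj_mem inferInstance _ u.2 _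
      have hsame : ((⟨(y : X) * u * (y : X)⁻¹, hyu⟩, ⟨(y : X) * g * (y : X)⁻¹,
          G.mul_mem (G.mul_mem (hCG y.2) g.2) (G.inv_mem (hCG y.2))⟩) : V × G) = (u, g) := by
        apply hbij.injective
        show (y : X) * u * (y : X)⁻¹ * ((y : X) * g * (y : X)⁻¹) = (u : X) * g
        calc _ = (y : X) * ((u : X) * g) * (y : X)⁻¹ := by group
          _ = _ := by rw [hzy.symm.eq, mul_inv_cancel_right]
      have h1 : (y : X) * u * (y : X)⁻¹ = u := congrArg Subtype.val (congrArg Prod.fst hsame)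
      have h2 : (y : X) * g * (y : X)⁻¹ = g := congrArg Subtype.val (congrArg Prod.snd hsame)
      rw [mul_inv_eq_iff_eq_mul] at h1 h2
      exact ⟨u, ⟨u.2, Subgroup.mem_centralizer_singleton_iff.2 h1.symm⟩, ⟨g, hgC⟩,
        Subgroup.mem_centralizer_singleton_iff.2 (Subtype.ext h2.symm), rfl⟩
    rw [← Nat.card_prod]
    choose u hu g hg hug using hsub
    refine Nat.card_le_card_of_injective
      (fun z : Subgroup.centralizer ({v * (y : X)} : Set X) =>
        ((⟨u z z.2, hu z z.2⟩ : ↥(V ⊓ Subgroup.centralizer ({(y : X)} : Set X))),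
          (⟨g z z.2, hg z z.2⟩ : Subgroup.centralizer ({y} : Set C)))) ?_
    intro a b hab'
    simp only [Prod.mk.injEq, Subtype.mk.injEq] at hab'
    apply Subtype.ext
    rw [← hug a a.2, ← hug b b.2, hab'.1, hab'.2]
  have hcc : ∑ y : C, Nat.card (Subgroup.centralizer ({y} : Set C)) =
      Nat.card (ConjClasses C) * Nat.card C := by
    rw [← card_comm_eq_card_conjClasses_mul_card, Nat.card_congr (Equiv.subtypeProdEquivSigmaSubtype
      (fun a b : C => Commute a b)), Nat.card_sigma]
    exact Finset.sum_congr rfl fun y _ => Nat.card_congr (Equiv.subtypeEquivRight fun b =>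
      ⟨fun h => (Subgroup.mem_centralizer_singleton_iff.1 h).symm,
        fun h => Subgroup.mem_centralizer_singleton_iff.2 h.symm⟩)
  have hbound : ∑ y : C, m y * c y ≤ Nat.card V * (Nat.card (ConjClasses C) * Nat.card C) := by
    rw [← hcc, Finset.mul_sum]
    refine Finset.sum_le_sum fun y _ => le_trans (Nat.mul_le_mul_left _ (hcle y)) ?_
    rw [← mul_assoc]
    exact Nat.mul_le_mul_right _ (hmle y)
  have hb' : ((∑ y : C, m y * c y : ℕ) : ℝ) ≤
      ((Nat.card V * (Nat.card (ConjClasses C) * Nat.card C) : ℕ) : ℝ) := Nat.cast_le.2 hbound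
  push_cast at hkey hb'
  rw [← Nat.card_eq_fintype_card, ← Nat.card_eq_fintype_card, card_irr_eq_card_conjClasses,
    card_irr_eq_card_conjClasses] at hkey
  have hC0 : (0 : ℝ) < Nat.card C := Nat.cast_pos.2 Nat.card_pos
  have hfin : ((Nat.card (ConjClasses X) * Nat.card (ConjClasses C) : ℕ) : ℝ) ≤
      ((Nat.card V * Nat.card (ConjClasses C) : ℕ) : ℝ) := by
    push_cast
    refine hkey.trans ?_
    rw [inv_mul_le_iff₀ hC0]
    linarith
  exact Nat.le_of_mul_le_mul_right (Nat.cast_le.1 hfin) Nat.card_pos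

/-- Values of members of `CycVirt` are cyclotomic integers. -/
theorem isCycInt_apply_of_mem_cycVirt {C : Type*} [Group C] [Finite C] {N : ℕ} {f : C → ℂ}
    (hf : f ∈ CycVirt C N) (y : C) : IsCycInt (N * Nat.card C) (f y) := by
  induction hf using Subring.closure_induction with
  | mem f hf =>
    rcases hf with ⟨c, hc, rfl⟩ | hf
    · exact hc.mono (Dvd.intro _ rfl)
    · exact ⟨char_isIntegral hf y, rootField_mono (Dvd.intro_left N rfl) (char_mem_rootField hf y)⟩
  | zero => exact isCycInt_zero _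
  | one => exact ⟨isIntegral_one, one_mem _⟩
  | add f g _ _ hf hg => exact hf.add hg
  | neg f _ hf => exact hf.neg
  | mul f g _ _ hf hg => exact hf.mul hg

/-- **Knörr's criterion.** -/
theorem knorr {p : ℕ} [Fact p.Prime] {M : Ideal AlgInt} (hM : IsPModular p M)
    (V : Subgroup X) [V.Normal] (hVp : IsPGroup p V) (hidx : ¬ p ∣ V.index)
    (hab : ∀ a ∈ V, ∀ b ∈ V, a * b = b * a) (G : Subgroup X) (hGV : Subgroup.IsComplement' V G)
    (v : X) (hv : v ∈ V) (C : Subgroup X) (hC : C = G ⊓ Subgroup.centralizer ({v} : Set X))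
    {N : ℕ} (hN : 0 < N) (ψ : C → ℂ) (hψ : ψ ∈ CycVirt C N) (hψ1 : ψ 1 = 1)
    (hψM : ∀ y : C, y ≠ 1 → MemLocalIdeal M (ψ y)) (m : C → ℕ)
    (hm : ∀ y : C, ψ y * conj (ψ y) = (m y : ℂ))
    (hmle : ∀ y : C, m y * Nat.card ↥(V ⊓ Subgroup.centralizer ({(y : X)} : Set X)) ≤ Nat.card V) :
    Nat.card (ConjClasses X) ≤ Nat.card V :=
  knorr_of_pow_smul hM V hVp hidx hab G hGV v hv C hC (Nat.mul_pos hN Nat.card_pos) ψ
    (isClassFunction_cycVirt hψ) (isCycInt_apply_of_mem_cycVirt hψ) (n := 0)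
    (by rw [pow_zero, one_smul]
        exact Subring.closure_mono (Set.union_subset_union_left _ (by
          rintro f ⟨c, hc, rfl⟩; exact ⟨c, hc.mono (Dvd.intro _ rfl), rfl⟩)) hψ)
    hψ1 hψM m hm hmle

end CfsgLib.KGV
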