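import Cfsg.Agent.Lib.Characters.Decomp
import Mathlib.RingTheory.IntegralDomain
import Mathlib.RingTheory.RootsOfUnity.Basic

/-!
# Vanishing elements from orbits on linear characters of a normal subgroup
-/

set_option autoImplicit false
set_option linter.style.haveILetI false
set_option linter.unusedSectionVars false

noncomputable section

namespace CfsgLib.KGV.OrbitVanish

open Cfsg CfsgLib.Characters
open scoped ComplexConjugate

variable {G : Type*} [Group G] [Finite G] (A : Subgroup G) [A.Normal]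

/-- Conjugation on linear characters. -/
def dualMap (g : G) : (A →* ℂˣ) →* (A →* ℂˣ) where
  toFun l := l.comp (MulAut.conjNormal g⁻¹ : MulAut A).toMonoidHom
  map_one' := rfl
  map_mul' _ _ := rfl

theorem dualMap_apply (g : G) (l : A →* ℂˣ) (a : A) :
    dualMap A g l a = l (MulAut.conjNormal g⁻¹ a) := rfl

theorem dualMap_mul (g h : G) (l : A →* ℂˣ) :
    dualMap A (g * h) l = dualMap A g (dualMap A h l) := by
  refine MonoidHom.ext fun a => ?_
  rw [dualMap_apply, dualMap_apply, dualMap_apply, mul_inv_rev, map_mul, MulAut.mul_apply]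

theorem dualMap_one (l : A →* ℂˣ) : dualMap A (1 : G) l = l := by
  refine MonoidHom.ext fun a => ?_
  rw [dualMap_apply, inv_one, map_one, MulAut.one_apply]

/-- The action of `G` on linear characters of `A`. -/
def dualAct : G →* MulAut (A →* ℂˣ) where
  toFun g :=
    { toFun := dualMap A g
      invFun := dualMap A g⁻¹
      left_inv := fun l => by rw [← dualMap_mul, inv_mul_cancel, dualMap_one]
      right_inv := fun l => by rw [← dualMap_mul, mul_inv_cancel, dualMap_one]
      map_mul' := map_mul _ }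
  map_one' := MulEquiv.ext fun l => dualMap_one A l
  map_mul' g h := MulEquiv.ext fun l => dualMap_mul A g h l

theorem dualAct_apply (g : G) (l : A →* ℂˣ) (a : A) :
    dualAct A g l a = l (MulAut.conjNormal g⁻¹ a) := rfl

theorem finite_dual {A : Type*} [Group A] [Finite A] : Finite (A →* ℂˣ) := by
  haveI : NeZero (Nat.card A) := ⟨Nat.card_pos.ne'⟩
  refine Finite.of_injective (fun l : A →* ℂˣ => fun a => (⟨l a, by
    rw [mem_rootsOfUnity, ← map_pow, pow_card_eq_one', map_one]⟩ : rootsOfUnity (Nat.card A) ℂ)) ?_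
  intro l m h
  exact MonoidHom.ext fun a => congrArg Subtype.val (congrFun h a)

/-- If no conjugate of the linear character `l` of `A` is fixed by `g` then `g` is a vanishing
element. -/
theorem exists_vanishing (l : A →* ℂˣ) (g : G)
    (hg : ∀ h : G, dualAct A g (dualAct A h l) ≠ dualAct A h l) :
    ∃ χ : IrrCharacter G, (χ : G → ℂ) g = 0 := by
  classical
  haveI : Fintype G := Fintype.ofFinite G
  haveI : Fintype A := Fintype.ofFinite A
  haveI : Finite (A →* ℂˣ) := finite_dual
  haveI : Fintype (A →* ℂˣ) := Fintype.ofFinite _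
  have hA0 : (Nat.card A : ℂ) ≠ 0 := Nat.cast_ne_zero.2 Nat.card_pos.ne'
  -- a character over `l`
  obtain ⟨χ, hχ⟩ : ∃ χ : IrrCharacter G,
      ∑ a : A, conj ((l a : ℂˣ) : ℂ) * (χ : G → ℂ) a ≠ 0 := by
    by_contra! hcon
    have h1 : ∑ χ : IrrCharacter G, (χ : G → ℂ) 1 *
        ∑ a : A, conj ((l a : ℂˣ) : ℂ) * (χ : G → ℂ) a = 0 :=
      Finset.sum_eq_zero fun χ _ => by rw [hcon χ, mul_zero]
    simp only [Finset.mul_sum] at h1
    rw [Finset.sum_comm] at h1
    have h2 : ∀ a : A, ∑ χ : IrrCharacter G, (χ : G → ℂ) 1 *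
        (conj ((l a : ℂˣ) : ℂ) * (χ : G → ℂ) a) =
          conj ((l a : ℂˣ) : ℂ) * if (a : G) = 1 then (Nat.card G : ℂ) else 0 := fun a => by
      rw [← sum_degree_mul_irr, Finset.mul_sum]
      exact Finset.sum_congr rfl fun χ _ => by ring
    rw [Finset.sum_congr rfl fun a _ => h2 a, Finset.sum_eq_single 1
      (fun a _ ha => by rw [if_neg (show (a : G) ≠ 1 from fun h => ha (Subtype.ext h)), mul_zero])
      (fun h => absurd (Finset.mem_univ _) h)] at h1
    simp [Nat.card_pos.ne'] at h1
  refine ⟨χ, ?_⟩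
  obtain ⟨_, n, ρ, hρ, rfl⟩ := χ
  haveI := hρ
  show ρ.character g = 0
  let e : (A →* ℂˣ) → Module.End ℂ (Fin n → ℂ) := fun μ =>
    (Nat.card A : ℂ)⁻¹ • ∑ a : A, conj ((μ a : ℂˣ) : ℂ) • ρ a
  have horth : ∀ μ ν : A →* ℂˣ, e μ * e ν = if μ = ν then e μ else 0 := by
    intro μ ν
    have hstep : (∑ a : A, conj ((μ a : ℂˣ) : ℂ) • ρ a) * (∑ b : A, conj ((ν b : ℂˣ) : ℂ) • ρ b) =
        (∑ a : A, conj ((μ a : ℂˣ) : ℂ) * conj ((ν a⁻¹ : ℂˣ) : ℂ)) •
          ∑ c : A, conj ((ν c : ℂˣ) : ℂ) • ρ c := by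
      rw [Finset.sum_mul, Finset.sum_smul]
      refine Finset.sum_congr rfl fun a _ => ?_
      rw [Finset.mul_sum, Finset.smul_sum, ← Equiv.sum_comp (Equiv.mulLeft a⁻¹)]
      refine Finset.sum_congr rfl fun c _ => ?_
      have hac : (a : G) * ((a⁻¹ * c : A) : G) = c := mul_inv_cancel_left (a : G) c
      rw [Equiv.coe_mulLeft, smul_mul_smul_comm, ← map_mul ρ, hac, smul_smul, map_mul ν,
        Units.val_mul, map_mul]
      congr 1
      ring
    simp only [e, smul_mul_assoc, mul_smul_comm, smul_smul, hstep]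
    split_ifs with h
    · subst h
      congr 1
      have h1 : ∀ a : A, conj ((μ a : ℂˣ) : ℂ) * conj ((μ a⁻¹ : ℂˣ) : ℂ) = 1 := fun a => by
        rw [← map_mul, ← Units.val_mul, ← map_mul, mul_inv_cancel, map_one, Units.val_one, map_one]
      rw [Finset.sum_congr rfl fun a _ => h1 a, Finset.sum_const, Finset.card_univ,
        ← Nat.card_eq_fintype_card, nsmul_eq_mul, mul_one]
      field_simp
    · let κ : A →* ℂ :=
        (starRingEnd ℂ).toMonoidHom.comp ((Units.coeHom ℂ).comp (μ * ν⁻¹))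
      have hκ : κ ≠ 1 := fun hk => h (MonoidHom.ext fun a => Units.ext (by
        have h1 := congrArg conj (DFunLike.congr_fun hk a)
        simp only [κ, MonoidHom.comp_apply, RingHom.toMonoidHom_eq_coe, MonoidHom.coe_coe,
          Complex.conj_conj, MonoidHom.one_apply, map_one, Units.coeHom_apply,
          MonoidHom.mul_apply, MonoidHom.inv_apply, Units.val_mul, Units.val_inv_eq_inv_val] at h1
        field_simp at h1
        exact h1))
      have hz : ∑ a : A, conj ((μ a : ℂˣ) : ℂ) * conj ((ν a⁻¹ : ℂˣ) : ℂ) = 0 := by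
        have := sum_hom_units_eq_zero κ hκ
        simpa [κ, map_mul] using this
      rw [hz]
      simp
  have hcomm : ∀ (x : G) (μ : A →* ℂˣ), ρ x * e μ = e (dualAct A x μ) * ρ x := by
    intro x μ
    simp only [e, mul_smul_comm, smul_mul_assoc, Finset.mul_sum, Finset.sum_mul]
    congr 1
    refine Fintype.sum_equiv (MulAut.conjNormal x : MulAut A).toEquiv _ _ fun a => ?_
    rw [MulEquiv.toEquiv_eq_coe, EquivLike.coe_coe, ← map_mul, ← map_mul, dualAct_apply,
      ← MulAut.mul_apply, ← map_mul, inv_mul_cancel, map_one, MulAut.one_apply,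
      MulAut.conjNormal_apply, inv_mul_cancel_right]
  let O : Finset (A →* ℂˣ) := Finset.univ.filter fun μ => ∃ h : G, dualAct A h l = μ
  obtain ⟨c, hc⟩ := schur_scalar ρ (∑ μ ∈ O, e μ) fun x => by
    rw [Finset.sum_mul, Finset.mul_sum]
    refine (Finset.sum_equiv (dualAct A x).toEquiv (fun μ => ?_) fun μ _ => ?_).symm
    · simp only [O, Finset.mem_filter, Finset.mem_univ, true_and]
      constructor
      · rintro ⟨h, rfl⟩
        exact ⟨x * h, by rw [map_mul, MulAut.mul_apply]; rfl⟩
      · rintro ⟨h, hh⟩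
        refine ⟨x⁻¹ * h, ?_⟩
        rw [map_mul, MulAut.mul_apply, hh, map_inv]
        exact (dualAct A x).symm_apply_apply μ
    · exact hcomm x μ
  have hl : l ∈ O := Finset.mem_filter.2 ⟨Finset.mem_univ _, 1, by rw [map_one]; rfl⟩
  have hc1 : c = 1 := by
    have h1 : (∑ μ ∈ O, e μ) * e l = e l := by
      rw [Finset.sum_mul, Finset.sum_eq_single l (fun μ _ hne => by rw [horth, if_neg hne])
        (fun h => absurd hl h), horth, if_pos rfl]
    rw [hc, smul_one_mul] at h1
    refine smul_left_injective ℂ (fun h3 : e l = 0 => ?_) (h1.trans (one_smul ℂ _).symm)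
    apply hχ
    have h4 := congrArg (LinearMap.trace ℂ (Fin n → ℂ)) h3
    simp only [e, map_smul, map_sum, map_zero, smul_eq_mul] at h4
    exact (mul_eq_zero.1 h4).resolve_left (inv_ne_zero hA0)
  have hone : ρ g = ∑ μ ∈ O, ρ g * e μ := by
    rw [← Finset.mul_sum, hc, hc1, one_smul, mul_one]
  rw [Representation.character, hone, map_sum]
  refine Finset.sum_eq_zero fun μ hμ => ?_
  obtain ⟨h, rfl⟩ := (Finset.mem_filter.1 hμ).2
  have h5 : ρ g * e (dualAct A h l) = ρ g * e (dualAct A h l) * e (dualAct A h l) := by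
    rw [mul_assoc, horth, if_pos rfl]
  rw [h5, LinearMap.trace_mul_comm, ← mul_assoc, mul_assoc (e _), hcomm, ← mul_assoc, horth,
    if_neg (Ne.symm (hg h)), zero_mul, map_zero]

end CfsgLib.KGV.OrbitVanish
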