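import Cfsg.Agent.Lib.KGV.CoprimeOrbit
import Cfsg.Agent.Lib.KGV.OrbitVanish
import Cfsg.Agent.Lib.PCore.Basic
import Cfsg.Agent.Lib.Solvable.Fitting
import Cfsg.Agent.Lib.Structure.SolvableRadical
import Cfsg.Agent.Lib.Characters.Clifford
import Cfsg.Agent.Lib.OddOrder.PuigSeries
import Mathlib.GroupTheory.FiniteAbelian.Duality
import Mathlib.RingTheory.RootsOfUnity.AlgebraicallyClosed

/-!
# Solvable groups with one vanishing class of `p`-singular elements, `p` odd
-/

set_option autoImplicit false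
set_option linter.style.haveILetI false
set_option linter.unusedSectionVars false

universe u

noncomputable section

namespace CfsgLib.KGV.OneClass

open Cfsg Subgroup CfsgLib.KGV.CoprimeOrbit CfsgLib.KGV.OrbitVanish

variable {G : Type u} [Group G] [Finite G] {p : ℕ} [hp : Fact p.Prime]

/-- Vanishing elements. -/
def Van (g : G) : Prop := ∃ χ : IrrCharacter G, (χ : G → ℂ) g = 0

/-- All vanishing `p`-singular elements are conjugate. -/
def One (p : ℕ) (G : Type u) [Group G] : Prop :=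
  ∀ a b : G, (∃ χ : IrrCharacter G, (χ : G → ℂ) a = 0) → p ∣ orderOf a →
    (∃ χ : IrrCharacter G, (χ : G → ℂ) b = 0) → p ∣ orderOf b → IsConj a b

theorem van_of_surjective {H : Type u} [Group H] (f : G →* H) (hf : Function.Surjective f)
    {g : G} (h : ∃ χ : IrrCharacter H, (χ : H → ℂ) (f g) = 0) : Van g := by
  obtain ⟨χ, hχ⟩ := h
  exact ⟨⟨_, CfsgLib.Clifford.isIrrCharacter_pullback χ.2 f hf⟩, hχ⟩

theorem one_of_surjective {H : Type u} [Group H] (f : G →* H) (hf : Function.Surjective f)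
    (h : One p G) : One p H := by
  intro a b ha hap hb hbp
  obtain ⟨x, rfl⟩ := hf a
  obtain ⟨y, rfl⟩ := hf b
  exact f.map_isConj (h x y (van_of_surjective f hf ha) (hap.trans (orderOf_map_dvd f x))
    (van_of_surjective f hf hb) (hbp.trans (orderOf_map_dvd f y)))

theorem exists_lift_vanishing {H : Type u} [Group H] (f : G →* H) (hf : Function.Surjective f)
    (h : ∃ y : H, (∃ χ : IrrCharacter H, (χ : H → ℂ) y = 0) ∧ p ∣ orderOf y) :
    ∃ g : G, Van g ∧ p ∣ orderOf g := by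
  obtain ⟨y, hy, hyp⟩ := h
  obtain ⟨x, rfl⟩ := hf y
  exact ⟨x, van_of_surjective f hf hy, hyp.trans (orderOf_map_dvd f x)⟩

/-- The Fitting subgroup is a `p'`-group when `O_p(G) = 1`. -/
theorem not_dvd_card_fitting (h0 : Cfsg.pCore p G = ⊥) :
    ¬ p ∣ Nat.card (Cfsg.fittingSubgroup G) := by
  intro hd
  obtain ⟨P⟩ := (inferInstance : Nonempty (Sylow p (Cfsg.fittingSubgroup G)))
  have h1 := CfsgLib.Fitting.sylow_fitting_eq_pCore P
  rw [h0, Subgroup.map_eq_bot_iff_of_injective _ (Subgroup.subtype_injective _)] at h1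
  exact P.ne_bot_of_dvd_card hd h1

/-- The key step: `M` an abelian normal `p'`-subgroup, `M * P₀ = K` normal, `P₀` a nontrivial
Sylow `p`-subgroup of `K`; then `|P₀| = p` and `K` has a vanishing `p`-singular element. -/
theorem step (hp2 : p ≠ 2) (h0 : Cfsg.pCore p G = ⊥) (hone : One p G) (M : Subgroup G) [M.Normal]
    (hMab : ∀ a ∈ M, ∀ b ∈ M, a * b = b * a) (hMp : ¬ p ∣ Nat.card M) (hM1 : M ≠ ⊥)
    (P₀ : Subgroup G) (hP₀ : IsPGroup p P₀) (hP₀1 : P₀ ≠ ⊥) (hK : (P₀ ⊔ M).Normal)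
    (hfr : Subgroup.normalizer (P₀ : Set G) ⊔ M = ⊤) :
    Nat.card P₀ = p ∧ ∃ g ∈ P₀ ⊔ M, Van g ∧ p ∣ orderOf g := by
  classical
  letI : CommGroup M :=
    { (inferInstance : Group M) with mul_comm := fun a b => Subtype.ext (hMab a a.2 b b.2) }
  haveI : Finite (M →* ℂˣ) := finite_dual
  have hcop : p.Coprime (Nat.card M) := hp.out.coprime_iff_not_dvd.2 hMp
  have hDM : Nat.card (M →* ℂˣ) = Nat.card M := by
    obtain ⟨e⟩ := CommGroup.monoidHom_mulEquiv_of_hasEnoughRootsOfUnity M ℂ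
    exact Nat.card_congr e.toEquiv
  have hPM : P₀ ⊓ M = ⊥ := by
    rw [eq_bot_iff]
    intro x hx
    obtain ⟨k, hk⟩ := hP₀ ⟨x, hx.1⟩
    have hk' : x ^ p ^ k = 1 := congrArg Subtype.val hk
    have h2 : x ^ Nat.card M = 1 := congrArg Subtype.val (pow_card_eq_one' (x := (⟨x, hx.2⟩ : M)))
    have := pow_gcd_eq_one.2 ⟨hk', h2⟩
    rwa [Nat.Coprime.gcd_eq_one (hcop.pow_left k), pow_one] at this
  -- faithfulness on `M`
  have hfaith : ∀ x ∈ P₀, (∀ m ∈ M, x * m = m * x) → x = 1 := by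
    intro x hx hxM
    set L := (P₀ ⊔ M) ⊓ Subgroup.centralizer (M : Set G) with hL
    have hLn : L.Normal := Subgroup.normal_inf_normal _ _
    have hnil : Group.IsNilpotent L := by
      let f := (QuotientGroup.mk' M).comp L.subtype
      have hker : f.ker ≤ Subgroup.center L := by
        intro y hy
        rw [Subgroup.mem_center_iff]
        intro z
        have hy' : (y : G) ∈ M := (QuotientGroup.eq_one_iff (y : G)).1 hy
        exact Subtype.ext ((Subgroup.mem_centralizer_iff.1 z.2.2) _ hy').symm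
      haveI : Group.IsNilpotent f.range := by
        have hle : f.range ≤ P₀.map (QuotientGroup.mk' M) := by
          rintro _ ⟨y, rfl⟩
          have h1 : QuotientGroup.mk' M (y : G) ∈ (P₀ ⊔ M).map (QuotientGroup.mk' M) :=
            ⟨y, y.2.1, rfl⟩
          rwa [Subgroup.map_sup, QuotientGroup.map_mk'_self, sup_bot_eq] at h1
        exact ((hP₀.map (QuotientGroup.mk' M)).to_le hle).isNilpotent
      exact Subgroup.isNilpotent_of_ker_le_center f.rangeRestrict
        (by rwa [MonoidHom.ker_rangeRestrict])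
    have hxL : x ∈ L := ⟨Subgroup.mem_sup_left hx,
      Subgroup.mem_centralizer_iff.2 fun m hm => (hxM m hm).symm⟩
    have hxF : x ∈ Cfsg.fittingSubgroup G := CfsgLib.Fitting.le_fitting hLn hnil hxL
    obtain ⟨k, hk⟩ := hP₀ ⟨x, hx⟩
    have hk' : x ^ p ^ k = 1 := congrArg Subtype.val hk
    have h2 : x ^ Nat.card (Cfsg.fittingSubgroup G) = 1 :=
      congrArg Subtype.val (pow_card_eq_one' (x := (⟨x, hxF⟩ : Cfsg.fittingSubgroup G)))
    have := pow_gcd_eq_one.2 ⟨hk', h2⟩
    rwa [Nat.Coprime.gcd_eq_one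
      ((hp.out.coprime_iff_not_dvd.2 (not_dvd_card_fitting h0)).pow_left k), pow_one] at this
  have hdual : ∀ x ∈ P₀, (dualAct M x) = 1 → x = 1 := by
    intro x hx h
    refine hfaith x hx fun m hm => ?_
    by_contra hne
    have hne' : (MulAut.conjNormal x⁻¹ (⟨m, hm⟩ : M)) * (⟨m, hm⟩ : M)⁻¹ ≠ 1 := by
      intro h1
      rw [mul_inv_eq_one] at h1
      have h2 : x⁻¹ * m * x⁻¹⁻¹ = m := congrArg Subtype.val h1
      apply hne
      calc x * m = x * (x⁻¹ * m * x⁻¹⁻¹) := by rw [h2]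
        _ = m * x := by group
    obtain ⟨l, hl⟩ := CommGroup.exists_apply_ne_one_of_hasEnoughRootsOfUnity M ℂ hne'
    apply hl
    rw [map_mul, map_inv l, mul_inv_eq_one]
    exact DFunLike.congr_fun (DFunLike.congr_fun h l) (⟨m, hm⟩ : M)
  have hMtriv : ∀ m ∈ M, dualAct M m = 1 := fun m hm => MulEquiv.ext fun l => MonoidHom.ext fun a => by
    rw [dualAct_apply, MulAut.one_apply]
    congr 1
    refine Subtype.ext ?_
    rw [MulAut.conjNormal_apply, inv_inv, mul_assoc, hMab a a.2 m hm, inv_mul_cancel_left]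
  -- the vanishing lemma for subgroups of `P₀`
  have hvan : ∀ R : Subgroup G, R ≤ P₀ → (R ⊔ M).Normal → ∀ d : M →* ℂˣ,
      (∀ r ∈ R, dualAct M r d = d → r = 1) → ∀ g ∈ R ⊔ M, p ∣ orderOf g → Van g := by
    intro R _ hRn d hd g hg hpg
    refine exists_vanishing M d g fun h hfix => ?_
    set u := h⁻¹ * g ^ (orderOf g / p) * h⁻¹⁻¹ with hu
    have huR : u ∈ R ⊔ M := hRn.conj_mem _ (pow_mem hg _) h⁻¹
    have hgk : ∀ j : ℕ, dualAct M (g ^ j) (dualAct M h d) = dualAct M h d :=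
      fun j => apply_pow_fixed (D := M →* ℂˣ) (dualAct M) hfix j
    have hufix : dualAct M u d = d := by
      rw [hu, inv_inv, map_mul, map_mul, MulAut.mul_apply, MulAut.mul_apply, hgk, map_inv]
      exact (dualAct M h).symm_apply_apply d
    have hup : orderOf (g ^ (orderOf g / p)) = p :=
      orderOf_pow_orderOf_div (orderOf_pos g).ne' hpg
    obtain ⟨r, hr, m, hm, hrm⟩ := Subgroup.mem_sup_of_normal_right.1 huR
    rw [← hrm, map_mul, MulAut.mul_apply, hMtriv m hm, MulAut.one_apply] at hufix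
    have hum : u ∈ M := by rw [← hrm, hd r hr hufix, one_mul]; exact hm
    apply hMp
    rw [← hup]
    have : g ^ (orderOf g / p) ∈ M := by
      have := (inferInstance : M.Normal).conj_mem u hum h
      rwa [hu, show h * (h⁻¹ * g ^ (orderOf g / p) * h⁻¹⁻¹) * h⁻¹ = g ^ (orderOf g / p) by group]
        at this
    exact (Subgroup.orderOf_dvd_natCard _ this)
  -- normality
  have hnormal : ∀ S : Subgroup P₀, S.Characteristic → (S.map P₀.subtype ⊔ M).Normal := by
    intro S hS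
    refine ⟨fun n hn g => ?_⟩
    have hg : g ∈ Subgroup.normalizer (P₀ : Set G) ⊔ M := hfr ▸ Subgroup.mem_top g
    obtain ⟨a, ha, m, hm, rfl⟩ := Subgroup.mem_sup_of_normal_right.1 hg
    have ham : ∀ y ∈ S.map P₀.subtype ⊔ M, a * y * a⁻¹ ∈ S.map P₀.subtype ⊔ M := by
      intro y hy
      obtain ⟨s, hs, m', hm', rfl⟩ := Subgroup.mem_sup_of_normal_right.1 hy
      rw [show a * (s * m') * a⁻¹ = (a * s * a⁻¹) * (a * m' * a⁻¹) by group]
      refine Subgroup.mul_mem_sup ?_ ((inferInstance : M.Normal).conj_mem m' hm' a)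
      obtain ⟨s', hs', rfl⟩ := hs
      refine ⟨P₀.normalizerMonoidHom ⟨a, ha⟩ s', ?_, rfl⟩
      have he := Subgroup.characteristic_iff_map_eq.1 hS (P₀.normalizerMonoidHom ⟨a, ha⟩)
      exact he ▸ ⟨s', hs', rfl⟩
    rw [show a * m * n * (a * m)⁻¹ = a * (m * n * m⁻¹) * a⁻¹ by group]
    exact ham _ (mul_mem (mul_mem (Subgroup.mem_sup_right hm) hn) (inv_mem (Subgroup.mem_sup_right hm)))
  have hord : ∀ R : Subgroup G, R ≤ P₀ → ∀ r ∈ R, r ≠ 1 → p ∣ orderOf r := by
    intro R hR r hr hr1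
    obtain ⟨k, hk⟩ := hP₀ ⟨r, hR hr⟩
    obtain ⟨j, -, hj⟩ :=
      (Nat.dvd_prime_pow hp.out).1 (orderOf_dvd_of_pow_eq_one (congrArg Subtype.val hk : r ^ p ^ k = 1))
    rw [hj]
    refine dvd_pow_self p fun h => hr1 ?_
    rw [h, pow_zero, orderOf_eq_one_iff] at hj
    exact hj
  -- a free subgroup containing the centre equals it
  set Z := (Subgroup.center P₀).map P₀.subtype with hZdef
  have hZP : Z ≤ P₀ := Subgroup.map_subtype_le _
  haveI : Nontrivial P₀ := (Subgroup.nontrivial_iff_ne_bot P₀).2 hP₀1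
  haveI := hP₀.center_nontrivial
  obtain ⟨zc, hzc⟩ := exists_ne (1 : Subgroup.center P₀)
  have hzcZ : ((zc : P₀) : G) ∈ Z := ⟨zc, zc.2, rfl⟩
  have hzc1 : ((zc : P₀) : G) ≠ 1 := fun h => hzc (Subtype.ext (Subtype.ext h))
  have hfree_ab : ∀ R : Subgroup G, R ≤ P₀ → (∀ a ∈ R, ∀ b ∈ R, a * b = b * a) →
      ∃ d : M →* ℂˣ, ∀ r ∈ R, dualAct M r d = d → r = 1 := by
    intro R hR hRab
    obtain ⟨d, hd⟩ := exists_free_abelian (D := M →* ℂˣ) ((dualAct M).comp R.subtype)
      (by
        obtain ⟨k, hk⟩ := IsPGroup.iff_card.1 (hP₀.to_le hR)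
        rw [hk, hDM]
        exact hcop.pow_left k)
      (fun a b => Subtype.ext (hRab a a.2 b b.2))
    exact ⟨d, fun r hr h => hdual r (hR hr) (hd ⟨r, hr⟩ h)⟩
  have hZab : ∀ a ∈ Z, ∀ b ∈ Z, a * b = b * a := by
    rintro _ ⟨a, ha, rfl⟩ _ ⟨b, -, rfl⟩
    exact congrArg Subtype.val (Subgroup.mem_center_iff.1 ha b).symm
  obtain ⟨dZ, hdZ⟩ := hfree_ab Z hZP hZab
  have hZn : (Z ⊔ M).Normal := hnormal _ inferInstance
  have hvanZ := hvan Z hZP hZn dZ hdZ
  have hneat : ∀ R : Subgroup G, R ≤ P₀ → (R ⊔ M).Normal → Z ≤ R →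
      (∃ d : M →* ℂˣ, ∀ r ∈ R, dualAct M r d = d → r = 1) → R = Z := by
    rintro R hR hRn hZR ⟨d, hd⟩
    refine le_antisymm (fun r hr => ?_) hZR
    by_cases hr1 : r = 1
    · exact hr1 ▸ Z.one_mem
    have hconj := hone _ _ (hvanZ _ (Subgroup.mem_sup_left hzcZ) (hord Z hZP _ hzcZ hzc1))
      (hord Z hZP _ hzcZ hzc1) (hvan R hR hRn d hd r (Subgroup.mem_sup_left hr) (hord R hR r hr hr1))
      (hord R hR r hr hr1)
    obtain ⟨c, hc⟩ := isConj_iff.1 hconj
    have hrZM : r ∈ Z ⊔ M := hc ▸ hZn.conj_mem _ (Subgroup.mem_sup_left hzcZ) c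
    obtain ⟨s, hs, m, hm, hsm⟩ := Subgroup.mem_sup_of_normal_right.1 hrZM
    have hmP : m ∈ P₀ ⊓ M := ⟨by
      rw [show m = s⁻¹ * r by rw [← hsm, inv_mul_cancel_left]]
      exact P₀.mul_mem (P₀.inv_mem (hZP hs)) (hR hr), hm⟩
    rw [hPM, Subgroup.mem_bot] at hmP
    rw [← hsm, hmP, mul_one]
    exact hs
  -- the centre has order `p`
  have hconjZ : ∀ r ∈ Z ⊔ M, p ∣ orderOf r → IsConj ((zc : P₀) : G) r := fun r hr hpr =>
    hone _ _ (hvanZ _ (Subgroup.mem_sup_left hzcZ) (hord Z hZP _ hzcZ hzc1))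
      (hord Z hZP _ hzcZ hzc1) (hvanZ r hr hpr) hpr
  have hordeq : ∀ r ∈ Z ⊔ M, p ∣ orderOf r → orderOf r = p := by
    set z0 := ((zc : P₀) : G) with hz0
    have hz1 : z0 ^ (orderOf z0 / p) ∈ Z := pow_mem hzcZ _
    have ho : orderOf (z0 ^ (orderOf z0 / p)) = p :=
      orderOf_pow_orderOf_div (orderOf_pos _).ne' (hord Z hZP _ hzcZ hzc1)
    intro r hr hpr
    obtain ⟨c, hc⟩ := isConj_iff.1
      ((hconjZ r hr hpr).symm.trans (hconjZ _ (Subgroup.mem_sup_left hz1) (by rw [ho])))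
    rw [← ho, ← hc]
    exact (orderOf_injective (MulAut.conj c).toMonoidHom (MulAut.conj c).injective r).symm
  let φM : G →* MulAut M := MulAut.conjNormal
  have hfpf : ∀ r ∈ Z, r ≠ 1 → ∀ m : M, φM r m = m → m = 1 := by
    intro r hr hr1 m hm
    have hc : r * (m : G) * r⁻¹ = m := by rw [← MulAut.conjNormal_apply]; exact congrArg Subtype.val hm
    rw [mul_inv_eq_iff_eq_mul] at hc
    have hrp := hord Z hZP r hr hr1
    have hpow : r ^ p = 1 := by
      rw [← hordeq r (Subgroup.mem_sup_left hr) hrp]; exact pow_orderOf_eq_one r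
    by_contra hm1
    have hg : r * (m : G) ∈ Z ⊔ M := Subgroup.mul_mem_sup hr m.2
    have hm' : orderOf (m : G) ∣ Nat.card M := Subgroup.orderOf_dvd_natCard _ m.2
    have hcop' : (orderOf r).Coprime (orderOf (m : G)) := by
      rw [hordeq r (Subgroup.mem_sup_left hr) hrp]
      exact hcop.coprime_dvd_right hm'
    have hog : orderOf (r * m) = orderOf r * orderOf (m : G) :=
      Commute.orderOf_mul_eq_mul_orderOf_of_coprime hc hcop'
    have hog' := hordeq _ hg (hog ▸ Dvd.dvd.mul_right hrp _)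
    rw [hog, hordeq r (Subgroup.mem_sup_left hr) hrp] at hog'
    have : orderOf (m : G) = 1 := Nat.eq_of_mul_eq_mul_left hp.out.pos (hog'.trans (mul_one p).symm)
    exact hm1 (Subtype.ext (orderOf_eq_one_iff.1 this))
  obtain ⟨z, hz, hz1⟩ : ∃ z : Subgroup.center P₀, z ^ p = 1 ∧ z ≠ 1 := by
    refine ⟨zc, ?_, hzc⟩
    apply Subtype.ext; apply Subtype.ext
    have := hordeq _ (Subgroup.mem_sup_left hzcZ) (hord Z hZP _ hzcZ hzc1)
    simp only [SubgroupClass.coe_pow, OneMemClass.coe_one]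
    rw [← this, pow_orderOf_eq_one]
  have hzZ : ((z : P₀) : G) ∈ Z := ⟨z, z.2, rfl⟩
  have hzne : ((z : P₀) : G) ≠ 1 := fun h => hz1 (Subtype.ext (Subtype.ext h))
  have hZcyc : ∀ y ∈ Z, y ∈ Subgroup.zpowers ((z : P₀) : G) := by
    intro y hy
    by_contra hny
    obtain ⟨i, -, m, hm1, hm⟩ := exists_fixed_rank_two (P := Z) (φM.comp Z.subtype)
      (z := ⟨_, hzZ⟩) (u := ⟨y, hy⟩) hcop (by
        apply Subtype.ext
        by_cases hy1 : y = 1
        · simp [hy1]
        · show y ^ p = 1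
          rw [← hordeq y (Subgroup.mem_sup_left hy) (hord Z hZP y hy hy1)]
          exact pow_orderOf_eq_one y)
      (Subtype.ext (by simpa using congrArg (fun w : Subgroup.center P₀ => ((w : P₀) : G)) hz))
      (Subtype.ext (hZab y hy _ hzZ)) (fun m hm => hfpf _ hzZ hzne m hm)
      (by
        obtain ⟨m, hm, hm1⟩ := (Subgroup.ne_bot_iff_exists_ne_one.1 hM1 : ∃ m : M, m ≠ 1) |>.elim
          (fun m hm => (⟨m, trivial, hm⟩ : ∃ m : M, True ∧ m ≠ 1))
        exact ⟨m, hm1⟩)
    by_cases hprod : y * ((z : P₀) : G) ^ i = 1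
    · apply hny
      rw [mul_eq_one_iff_eq_inv.1 hprod]
      exact inv_mem (pow_mem (Subgroup.mem_zpowers _) i)
    · exact hm1 (hfpf _ (mul_mem hy (pow_mem hzZ i)) hprod m hm)
  have hcenter_le : ∀ g : P₀, g ∈ Subgroup.center P₀ → g ∈ Subgroup.zpowers (z : P₀) := by
    intro g hg
    obtain ⟨i, hi⟩ := hZcyc g ⟨g, hg, rfl⟩
    exact ⟨i, Subtype.ext (by simpa using hi)⟩
  -- fixed-point-free on the dual
  have hfpfD : ∀ l : M →* ℂˣ, dualAct M ((z : P₀) : G) l = l → l = 1 := by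
    intro l hl
    let f : M →* M :=
      { toFun := fun a => a⁻¹ * φM ((z : P₀) : G)⁻¹ a
        map_one' := by simp
        map_mul' := fun a b => by rw [map_mul, mul_inv, mul_mul_mul_comm] }
    have hinj : Function.Injective f := by
      rw [injective_iff_map_eq_one]
      intro a ha
      have h1 : φM ((z : P₀) : G)⁻¹ a = a := (inv_mul_eq_one.1 ha).symm
      refine hfpf _ hzZ hzne a ?_
      conv_lhs => rw [← h1]
      rw [← MulAut.mul_apply, ← map_mul, mul_inv_cancel, map_one, MulAut.one_apply]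
    refine MonoidHom.ext fun a => ?_
    obtain ⟨b, rfl⟩ := Finite.injective_iff_surjective.1 hinj a
    show l (b⁻¹ * φM ((z : P₀) : G)⁻¹ b) = 1
    rw [map_mul, map_inv, inv_mul_eq_one]
    exact (DFunLike.congr_fun hl b).symm
  -- class two
  haveI : Group.IsNilpotent P₀ := hP₀.isNilpotent
  set Z2 := Subgroup.upperCentralSeries P₀ 2
  set S := (commutator P₀ ⊓ Z2) ⊔ Subgroup.center P₀ with hS
  have hZ2 : ⁅Z2, (⊤ : Subgroup P₀)⁆ ≤ Subgroup.center P₀ := by
    refine Subgroup.commutator_le.2 fun a ha b _ => ?_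
    rw [← Subgroup.upperCentralSeries_one]
    exact Subgroup.mem_upperCentralSeries_succ_iff.1 ha b
  have hcommZ2 : ⁅commutator P₀, Z2⁆ = ⊥ := by
    rw [_root_.commutator_def]
    have hcz : ⁅Subgroup.center P₀, (⊤ : Subgroup P₀)⁆ = ⊥ := by
      rw [Subgroup.commutator_eq_bot_iff_le_centralizer]
      intro a ha
      exact Subgroup.mem_centralizer_iff.2 fun b _ => Subgroup.mem_center_iff.1 ha b
    have h1 : ⁅⁅Z2, (⊤ : Subgroup P₀)⁆, (⊤ : Subgroup P₀)⁆ = ⊥ :=
      le_bot_iff.1 (hcz ▸ Subgroup.commutator_mono hZ2 le_rfl)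
    have h2 : ⁅⁅(⊤ : Subgroup P₀), Z2⁆, (⊤ : Subgroup P₀)⁆ = ⊥ := by
      rwa [Subgroup.commutator_comm (⊤ : Subgroup P₀) Z2]
    exact Subgroup.commutator_commutator_eq_bot_of_rotate h2 h1
  haveI hSchar : S.Characteristic := by
    rw [Subgroup.characteristic_iff_map_eq]
    intro e
    rw [hS, Subgroup.map_sup, Subgroup.map_inf_eq _ _ _ e.injective,
      Subgroup.characteristic_iff_map_eq.1 (inferInstance : (commutator P₀).Characteristic) e,
      Subgroup.characteristic_iff_map_eq.1 (inferInstance : Z2.Characteristic) e,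
      Subgroup.characteristic_iff_map_eq.1 (inferInstance : (Subgroup.center P₀).Characteristic) e]
  have hSab : ∀ a ∈ S, ∀ b ∈ S, a * b = b * a := by
    have hK : ∀ a ∈ commutator P₀ ⊓ Z2, ∀ b ∈ S, a * b = b * a := by
      intro a ha b hb
      obtain ⟨b', hb', c, hc, rfl⟩ := Subgroup.mem_sup_of_normal_right.1 hb
      have hab : a * b' = b' * a :=
        (Subgroup.mem_centralizer_iff.1
          (Subgroup.commutator_eq_bot_iff_le_centralizer.1 hcommZ2 hb'.1) a ha.2)
      exact (Commute.mul_right hab (Subgroup.mem_center_iff.1 hc a)).eq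
    intro a ha b hb
    obtain ⟨a', ha', c, hc, rfl⟩ := Subgroup.mem_sup_of_normal_right.1 ha
    exact (Commute.mul_left (hK a' ha' b hb) ((Subgroup.mem_center_iff.1 hc b).symm)).eq
  have hSeq : S = Subgroup.center P₀ := by
    refine Subgroup.map_injective P₀.subtype_injective ?_
    have hSab' : ∀ a ∈ S.map P₀.subtype, ∀ b ∈ S.map P₀.subtype, a * b = b * a := by
      rintro _ ⟨a, ha, rfl⟩ _ ⟨b, hb, rfl⟩
      exact congrArg Subtype.val (hSab a ha b hb)
    exact hneat _ (Subgroup.map_subtype_le _) (hnormal S hSchar) (Subgroup.map_mono le_sup_right)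
      (hfree_ab _ (Subgroup.map_subtype_le _) hSab')
  have hcomm_le : commutator P₀ ≤ Subgroup.center P₀ := by
    by_contra hne
    let q := QuotientGroup.mk' (Subgroup.center P₀)
    haveI : ((commutator P₀).map q).Normal :=
      Subgroup.Normal.map inferInstance q (QuotientGroup.mk'_surjective _)
    have hne' : (commutator P₀).map q ≠ ⊥ := by
      rwa [Ne, Subgroup.map_eq_bot_iff, QuotientGroup.ker_mk']
    obtain ⟨⟨y, hy⟩, hy1⟩ := Subgroup.ne_bot_iff_exists_ne_one.1
      (CfsgLib.OddOrder.PuigSeries.inf_center_ne_bot _ hne')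
    obtain ⟨x, hx, rfl⟩ := hy.2
    apply hy1
    apply Subtype.ext
    have hxS : x ∈ S := Subgroup.mem_sup_left ⟨hx, by
      show x ∈ Subgroup.upperCentralSeries P₀ (1 + 1)
      rw [Subgroup.mem_upperCentralSeries_succ_iff]
      intro b
      rw [Subgroup.upperCentralSeries_one]
      rw [← QuotientGroup.eq_one_iff]
      have := Subgroup.mem_center_iff.1 hy.1 (q b)
      simp only [q, QuotientGroup.mk'_apply] at this
      simp only [commutatorElement_def, QuotientGroup.mk_mul, QuotientGroup.mk_inv, ← this]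
      group⟩
    rw [hSeq] at hxS
    exact (QuotientGroup.eq_one_iff x).2 hxS
  have hzp : (z : P₀) ^ p = 1 := by
    rw [← Subgroup.coe_pow, hz]; rfl
  have hextra : Extra (D := M →* ℂˣ) ((dualAct M).comp P₀.subtype) p (z : P₀) := by
    refine ⟨hzp, fun h => hz1 (Subtype.ext h), fun g => Subgroup.mem_center_iff.1 z.2 g, fun g hg => ?_,
      fun g => ?_, fun g h => ?_, fun l hl => hfpfD l hl⟩
    · exact hcenter_le g (Subgroup.mem_center_iff.2 fun h => ((hg h).symm).eq)
    · refine hcenter_le _ (Subgroup.mem_center_iff.2 fun h => ?_)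
      have hc : h * g * h⁻¹ * g⁻¹ ∈ Subgroup.center P₀ :=
        hcomm_le (Subgroup.commutator_mem_commutator trivial trivial)
      set c := h * g * h⁻¹ * g⁻¹ with hcdef
      have hcp : c ^ p = 1 := by
        obtain ⟨i, hi⟩ := hcenter_le c hc
        have hi' : (z : P₀) ^ i = c := hi
        rw [← hi', ← zpow_natCast, ← zpow_mul, mul_comm, zpow_mul, zpow_natCast, hzp, one_zpow]
      have hconj : h * g * h⁻¹ = c * g := by rw [hcdef]; group
      have h3 : h * g ^ p * h⁻¹ = g ^ p := by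
        rw [← conj_pow, hconj, Commute.mul_pow (show Commute c g from (Subgroup.mem_center_iff.1 hc g).symm), hcp,
          one_mul]
      exact mul_inv_eq_iff_eq_mul.1 h3
    · exact hcenter_le _ (hcomm_le (Subgroup.commutator_mem_commutator trivial trivial))
  have hfreeP : ∃ d : M →* ℂˣ, ∀ r ∈ P₀, dualAct M r d = d → r = 1 := by
    have hD : ∃ l : M →* ℂˣ, l ≠ 1 := by
      have h1 : 1 < Nat.card (M →* ℂˣ) := by
        rw [hDM]; exact Subgroup.one_lt_card_iff_ne_bot M |>.2 hM1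
      haveI : Nontrivial (M →* ℂˣ) := Finite.one_lt_card_iff_nontrivial.1 h1
      exact exists_ne 1
    obtain ⟨d, hd⟩ := exists_free_extra (D := M →* ℂˣ) ((dualAct M).comp P₀.subtype) hp2 hextra (hDM ▸ hcop) hD
    exact ⟨d, fun r hr h => congrArg Subtype.val (hd ⟨r, hr⟩ h)⟩
  have hPZ : P₀ = Z := hneat P₀ le_rfl hK hZP hfreeP
  refine ⟨?_, _, Subgroup.mem_sup_left (hZP hzZ), hvanZ _ (Subgroup.mem_sup_left hzZ)
    (hord Z hZP _ hzZ hzne), hord Z hZP _ hzZ hzne⟩
  have hle : P₀ = Subgroup.zpowers ((z : P₀) : G) :=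
    le_antisymm (fun y hy => hZcyc y (hPZ ▸ hy)) (Subgroup.zpowers_le.2 (z : P₀).2)
  have hoz : orderOf ((z : P₀) : G) = p :=
    hordeq _ (Subgroup.mem_sup_left hzZ) (hord Z hZP _ hzZ hzne)
  calc Nat.card P₀ = Nat.card (Subgroup.zpowers ((z : P₀) : G)) := by rw [← hle]
    _ = p := by rw [Nat.card_zpowers, hoz]

/-- **One vanishing class of `p`-singular elements.** -/
theorem sylow_le (hp2 : p ≠ 2) : ∀ (n : ℕ) (G : Type u) [Group G] [Finite G],
    Nat.card G ≤ n → Group.IsSolvable G → Cfsg.pCore p G = ⊥ → One p G →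
    (∀ P : Sylow p G, Nat.card P ≤ p) ∧
      (p ∣ Nat.card G → ∃ g : G, (∃ χ : IrrCharacter G, (χ : G → ℂ) g = 0) ∧ p ∣ orderOf g) := by
  intro n
  induction n with
  | zero => intro G _ _ hn; exact absurd hn (by simpa using (Nat.card_pos (α := G)).ne')
  | succ n ih =>
    intro G _ _ hn hsolv h0 hone
    by_cases hdvd : p ∣ Nat.card G
    swap
    · refine ⟨fun P => ?_, fun h => absurd h hdvd⟩
      rw [P.card_eq_multiplicity, Nat.factorization_eq_zero_of_not_dvd hdvd, pow_zero]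
      exact hp.out.one_le
    haveI : Nontrivial G := Finite.one_lt_card_iff_nontrivial.1
      (lt_of_lt_of_le hp.out.one_lt (Nat.le_of_dvd Nat.card_pos hdvd))
    obtain ⟨M, hM, -⟩ := CfsgLib.Structure.exists_isMinNormal_le (H := (⊤ : Subgroup G))
      inferInstance top_ne_bot
    haveI := hM.normal
    obtain ⟨ℓ, hℓ, hMab, hMexp⟩ :=
      CfsgLib.Structure.isElementaryAbelian_of_isMinNormal_of_isSolvable hM inferInstance
    have hMℓ : IsPGroup ℓ M := fun x => ⟨1, Subtype.ext (by simpa using hMexp x x.2)⟩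
    haveI := Fact.mk hℓ
    have hne : ℓ ≠ p := fun h => hM.ne_bot (le_bot_iff.1 (h0 ▸ CfsgLib.PCore.le_pCore hM.normal (h ▸ hMℓ)))
    have hMp : ¬ p ∣ Nat.card M := by
      obtain ⟨k, hk⟩ := IsPGroup.iff_card.1 hMℓ
      rw [hk]
      exact fun h => hne ((Nat.prime_dvd_prime_iff_eq hp.out hℓ).1 (hp.out.dvd_of_dvd_pow h)).symm
    set q := QuotientGroup.mk' M with hq
    have hqs : Function.Surjective q := QuotientGroup.mk'_surjective M
    have hcard : Nat.card G = Nat.card (G ⧸ M) * Nat.card M :=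
      Subgroup.card_eq_card_quotient_mul_card_subgroup M
    have hlt : Nat.card (G ⧸ M) ≤ n := by
      have h1 : 1 < Nat.card M := (Subgroup.one_lt_card_iff_ne_bot M).2 hM.ne_bot
      have h2 : 0 < Nat.card (G ⧸ M) := Nat.card_pos
      nlinarith
    haveI : Group.IsSolvable (G ⧸ M) := inferInstance
    have hfac : (Nat.card G).factorization p = (Nat.card (G ⧸ M)).factorization p := by
      rw [hcard, Nat.factorization_mul Nat.card_pos.ne' Nat.card_pos.ne', Finsupp.add_apply,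
        Nat.factorization_eq_zero_of_not_dvd hMp, add_zero]
    have hone' : One p (G ⧸ M) := one_of_surjective q hqs hone
    obtain ⟨P'⟩ := (inferInstance : Nonempty (Sylow p (G ⧸ M)))
    set Kb := Cfsg.pCore p (G ⧸ M) with hKb
    by_cases hKbot : Kb = ⊥
    · obtain ⟨h1, h2⟩ := ih (G ⧸ M) hlt inferInstance hKbot hone'
      refine ⟨fun P => ?_, fun _ => ?_⟩
      · rw [P.card_eq_multiplicity, hfac, ← P'.card_eq_multiplicity]
        exact h1 P'
      · refine exists_lift_vanishing q hqs (h2 ?_)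
        rcases (hp.out.dvd_mul).1 (hcard ▸ hdvd) with h | h
        · exact h
        · exact absurd h hMp
    -- the Sylow subgroup of the preimage
    haveI : Kb.Normal := CfsgLib.Fitting.pCore_normal p
    set K := Kb.comap q with hKdef
    haveI : K.Normal := Subgroup.Normal.comap inferInstance q
    have hMK : M ≤ K := fun x hx => by
      rw [hKdef, Subgroup.mem_comap, hq, QuotientGroup.mk'_apply, (QuotientGroup.eq_one_iff x).2 hx]
      exact Kb.one_mem
    have hKmap : K.map q = Kb := Subgroup.map_comap_eq_self_of_surjective hqs _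
    obtain ⟨Q⟩ := (inferInstance : Nonempty (Sylow p K))
    set P₀ := (Q : Subgroup K).map K.subtype with hP₀def
    have hP₀K : P₀ ≤ K := Subgroup.map_subtype_le _
    have hP₀ : IsPGroup p P₀ := Q.isPGroup'.map _
    have hcardK : Nat.card K = Nat.card Kb * Nat.card M := by
      rw [hKdef, hq, CfsgLib.PCore.card_comap_mk' M Kb, mul_comm]
    obtain ⟨j, hj⟩ := IsPGroup.iff_card.1 (CfsgLib.PCore.pCore_isPGroup (p := p) (G := G ⧸ M))
    rw [← hKb] at hj
    have hQc : Nat.card P₀ = Nat.card Kb := by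
      rw [hP₀def, Nat.card_congr (Subgroup.equivMapOfInjective _ _ K.subtype_injective).toEquiv.symm,
        Q.card_eq_multiplicity, hcardK, hj, Nat.factorization_mul (pow_ne_zero _ hp.out.ne_zero)
          Nat.card_pos.ne', Finsupp.add_apply, Nat.factorization_eq_zero_of_not_dvd hMp, add_zero,
        hp.out.factorization_pow, Finsupp.single_eq_same]
    have hsup : P₀ ⊔ M = K := by
      refine Subgroup.eq_of_le_of_card_ge (sup_le hP₀K hMK) ?_
      rw [hcardK, ← hQc]
      refine Nat.le_of_dvd Nat.card_pos ?_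
      exact (Nat.Coprime.mul_dvd_of_dvd_of_dvd (by
        rw [hQc, hj]; exact (hp.out.coprime_iff_not_dvd.2 hMp).pow_left j)
        (Subgroup.card_dvd_of_le le_sup_left) (Subgroup.card_dvd_of_le le_sup_right))
    have hP₀1 : P₀ ≠ ⊥ := by
      intro h
      rw [h, Subgroup.card_bot] at hQc
      exact hKbot (Subgroup.card_eq_one.1 hQc.symm)
    have hfr : Subgroup.normalizer (P₀ : Set G) ⊔ M = ⊤ := by
      refine top_le_iff.1 ((Sylow.normalizer_sup_eq_top Q).ge.trans (sup_le le_sup_left ?_))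
      exact hsup ▸ sup_le (le_trans Subgroup.le_normalizer le_sup_left) le_sup_right
    obtain ⟨hP₀p, g, hgK, hgv, hgp⟩ := step hp2 h0 hone M
      (fun a ha b hb => congrArg Subtype.val (hMab.is_comm.comm ⟨a, ha⟩ ⟨b, hb⟩)) hMp hM.ne_bot P₀ hP₀
      hP₀1 (hsup.symm ▸ inferInstance) hfr
    refine ⟨fun P => ?_, fun _ => ⟨g, hgv, hgp⟩⟩
    -- nothing above `K`
    set q' := QuotientGroup.mk' Kb with hq'
    have hq's : Function.Surjective q' := QuotientGroup.mk'_surjective Kb
    have hone'' : One p ((G ⧸ M) ⧸ Kb) := one_of_surjective q' hq's hone'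
    have h0'' : Cfsg.pCore p ((G ⧸ M) ⧸ Kb) = ⊥ := CfsgLib.PCore.pCore_quotient_pCore
    have hlt'' : Nat.card ((G ⧸ M) ⧸ Kb) ≤ n :=
      le_trans (Nat.card_le_card_of_surjective q' hq's) hlt
    have hnd : ¬ p ∣ Nat.card ((G ⧸ M) ⧸ Kb) := by
      intro hd
      obtain ⟨x, hxv, hxp⟩ := exists_lift_vanishing (q'.comp q) (hq's.comp hqs)
        ((ih _ hlt'' inferInstance h0'' hone'').2 hd)
      obtain ⟨c, hc⟩ := isConj_iff.1 (hone g x hgv hgp hxv hxp)
      obtain ⟨y, hyv, hyp⟩ := (ih _ hlt'' inferInstance h0'' hone'').2 hd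
      obtain ⟨x', rfl⟩ := (hq's.comp hqs) y
      obtain ⟨c', hc'⟩ := isConj_iff.1 (hone g x' hgv hgp (van_of_surjective (q'.comp q) (hq's.comp hqs) hyv)
        (hyp.trans (orderOf_map_dvd (q'.comp q) x')))
      have hg1 : q' (q g) = 1 := (QuotientGroup.eq_one_iff _).2 (by
        have : g ∈ K := hsup ▸ hgK
        exact this)
      have : (q'.comp q) x' = 1 := by
        rw [← hc', map_mul, map_mul, MonoidHom.comp_apply, MonoidHom.comp_apply, MonoidHom.comp_apply,
          hg1, mul_one, map_inv, map_inv, mul_inv_cancel]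
      rw [show (⇑q' ∘ ⇑q) x' = (q'.comp q) x' from rfl, this, orderOf_one] at hyp
      exact hp.out.ne_one (Nat.dvd_one.1 hyp)
    rw [P.card_eq_multiplicity, hfac,
      Subgroup.card_eq_card_quotient_mul_card_subgroup Kb,
      Nat.factorization_mul Nat.card_pos.ne' Nat.card_pos.ne', Finsupp.add_apply,
      Nat.factorization_eq_zero_of_not_dvd hnd, zero_add, hj, hp.out.factorization_pow,
      Finsupp.single_eq_same]
    rw [← hj, ← hQc, hP₀p]

end CfsgLib.KGV.OneClass
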