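import Cfsg.Agent.Lib.Characters.Monomial
import Cfsg.Agent.Lib.Characters.ItoMichlerPSolvable
import Cfsg.Agent.Lib.KGV.CoprimeOrbit
import Cfsg.Agent.Lib.KGV.OrbitVanish
import Cfsg.Agent.Lib.Solvable.Fitting
import Cfsg.Agent.Lib.Solvable.Frattini
import Mathlib.RingTheory.RootsOfUnity.EnoughRootsOfUnity
import Mathlib.GroupTheory.FiniteAbelian.Duality
import Mathlib.Analysis.Complex.Polynomial.Basic

/-!
# Solvable groups with squarefree character degrees
-/

set_option autoImplicit false
set_option linter.style.haveILetI false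
set_option linter.unusedSectionVars false

noncomputable section

namespace CfsgLib.KGV.Squarefree

open Cfsg CfsgLib CfsgLib.Characters CfsgLib.ClassCount Subgroup
open scoped commutatorElement ComplexConjugate

universe u

variable {G : Type u} [Group G] [Finite G]

theorem degree_normal (h : ∀ χ : IrrCharacter G, Squarefree (charDegree (χ : G → ℂ)))
    (N : Subgroup G) [N.Normal] (θ : IrrCharacter N) :
    Squarefree (charDegree (θ : N → ℂ)) := by
  obtain ⟨χ, hχ⟩ := ItoMichler.exists_degree_dvd N θ
  exact (h χ).squarefree_of_dvd hχ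

theorem degree_quotient (h : ∀ χ : IrrCharacter G, Squarefree (charDegree (χ : G → ℂ)))
    (N : Subgroup G) [N.Normal] (φ : IrrCharacter (G ⧸ N)) :
    Squarefree (charDegree (φ : G ⧸ N → ℂ)) := by
  haveI := Fintype.ofFinite G
  have h1 := h ⟨_, Clifford.isIrrCharacter_pullback φ.2 (QuotientGroup.mk' N)
    (QuotientGroup.mk'_surjective N)⟩
  simpa [charDegree] using h1

/-- The second derived group of a `p`-group with squarefree degrees is trivial. -/
theorem derived_two_pgroup {p : ℕ} [hp : Fact p.Prime] (hP : IsPGroup p G)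
    (h : ∀ χ : IrrCharacter G, Squarefree (charDegree (χ : G → ℂ))) :
    derivedSeries G 2 = ⊥ := by
  classical
  haveI := Fintype.ofFinite G
  haveI := hP.isNilpotent
  rw [Subgroup.eq_bot_iff_forall]
  intro g hg
  refine isConj_one_left.1 ((isConj_iff_irr _ _).2 fun χ => ?_)
  obtain ⟨H, lam, hχ⟩ := CharMonomial.monomial_of_nilpotent (Nat.card G) G rfl _ χ.2
  have hidx : charDegree (χ : G → ℂ) = H.index := by
    have h1 := congrFun hχ 1
    rw [Induction.indFun_one_apply, map_one, Units.val_one, mul_one, (degree_eq χ).1] at h1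
    exact_mod_cast h1
  obtain ⟨n, hn⟩ := hP.index H
  have hn1 : n ≤ 1 := by
    by_contra hcon
    have h2 : p * p ∣ H.index := by
      rw [hn, ← pow_two]
      exact pow_dvd_pow p (by omega)
    exact hp.out.ne_one (Nat.isUnit_iff.1 ((hidx ▸ h χ) p h2))
  have hcom : commutator G ≤ H := by
    rcases Nat.le_one_iff_eq_zero_or_eq_one.1 hn1 with rfl | rfl
    · rw [pow_zero, Subgroup.index_eq_one] at hn
      rw [hn]
      exact le_top
    · rw [pow_one] at hn
      have hmax : IsCoatom H := by
        refine ⟨fun e => hp.out.ne_one (by rw [← hn, e, Subgroup.index_top]), fun K hK => ?_⟩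
        rcases hp.out.eq_one_or_self_of_dvd _ (hn ▸ Subgroup.index_dvd_of_le hK.le) with e | e
        · exact Subgroup.index_eq_one.1 e
        · exfalso
          refine hK.not_ge ?_
          rw [← Subgroup.relIndex_eq_one]
          have h3 := Subgroup.relIndex_mul_index hK.le
          rw [e, hn] at h3
          exact Nat.eq_of_mul_eq_mul_right hp.out.pos (h3.trans (one_mul p).symm)
      exact CfsgLib.PGroup.commutator_le_of_isCoatom hP hmax
  have hker : derivedSeries G 2 ≤ lam.ker.map H.subtype := by
    rw [derivedSeries_succ, derivedSeries_one, Subgroup.commutator_le]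
    intro a ha b hb
    refine ⟨⁅(⟨a, hcom ha⟩ : H), (⟨b, hcom hb⟩ : H)⁆, ?_, rfl⟩
    show lam _ = 1
    rw [map_commutatorElement]
    exact commutatorElement_eq_one_iff_mul_comm.2 (mul_comm _ _)
  rw [hχ, Induction.indFun_apply, Induction.indFun_apply]
  congr 1
  refine Finset.sum_congr rfl fun y _ => ?_
  obtain ⟨z, hz, hzy⟩ := hker ((derivedSeries_normal G 2).conj_mem' g hg y)
  rw [mul_one, inv_mul_cancel, Induction.extendByZero_mem H _ H.one_mem]
  rw [← hzy]
  refine (Induction.extendByZero_mem H (fun h => (lam h : ℂ)) z.2).trans ?_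
  show (lam z : ℂ) = (lam 1 : ℂ)
  rw [hz, map_one]

/-- The second derived group of a nilpotent group with squarefree degrees is trivial. -/
theorem derived_two_nilpotent [Group.IsNilpotent G]
    (h : ∀ χ : IrrCharacter G, Squarefree (charDegree (χ : G → ℂ))) :
    derivedSeries G 2 = ⊥ := by
  have hn : ∀ {p : ℕ} [Fact p.Prime] (P : Sylow p G), (P : Subgroup G).Normal := fun P =>
    inferInstance
  let e := Sylow.directProductOfNormal (G := G) hn
  rw [Subgroup.eq_bot_iff_forall]
  intro g hg
  apply e.symm.injective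
  rw [map_one]
  funext p P
  haveI : Fact (Nat.Prime p) := ⟨Nat.prime_of_mem_primeFactors p.2⟩
  let f : G →* (P : Subgroup G) :=
    ((Pi.evalMonoidHom (fun P : Sylow p G => (P : Subgroup G)) P).comp
      (Pi.evalMonoidHom (fun p : (Nat.card G).primeFactors => ∀ P : Sylow p G, (P : Subgroup G)) p)).comp
      e.symm.toMonoidHom
  have h1 : f g ∈ derivedSeries (P : Subgroup G) 2 :=
    map_derivedSeries_le_derivedSeries f 2 ⟨g, hg, rfl⟩
  haveI := hn P
  rw [derived_two_pgroup P.2 (degree_normal h (P : Subgroup G)), Subgroup.mem_bot] at h1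
  exact h1

omit [Finite G] in
theorem commutator_le_of_coatom [Group.IsNilpotent G] {M : Subgroup G} (hM : IsCoatom M) :
    commutator G ≤ M := by
  haveI : M.Normal := Group.normalizerCondition_of_isNilpotent.normal_of_coatom M hM
  haveI : Nontrivial (G ⧸ M) := QuotientGroup.nontrivial_iff.2 hM.1
  have hc : Subgroup.center (G ⧸ M) = ⊤ := by
    rcases hM.le_iff.1 (le_trans (QuotientGroup.ker_mk' M).ge
      (Subgroup.ker_le_comap (QuotientGroup.mk' M) (Subgroup.center (G ⧸ M)))) with h | h
    · rw [← Subgroup.comap_top (QuotientGroup.mk' M)] at h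
      exact Subgroup.comap_injective (QuotientGroup.mk'_surjective M) h
    · exfalso
      haveI : Nontrivial (Subgroup.center (G ⧸ M)) :=
        (Subgroup.nontrivial_iff_ne_bot _).2 (Group.IsNilpotent.center_ne_bot (G ⧸ M))
      obtain ⟨z, hz⟩ := exists_ne (1 : Subgroup.center (G ⧸ M))
      obtain ⟨g, hg⟩ := QuotientGroup.mk'_surjective M z.1
      have hgM : g ∈ M := by
        rw [← h, Subgroup.mem_comap, hg]
        exact z.2
      apply hz
      apply Subtype.ext
      rw [← hg]
      exact (QuotientGroup.eq_one_iff g).2 hgM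
  rw [_root_.commutator_def, Subgroup.commutator_le]
  intro a _ b _
  rw [← QuotientGroup.eq_one_iff, ← QuotientGroup.mk'_apply, map_commutatorElement,
    commutatorElement_eq_one_iff_mul_comm]
  exact (Subgroup.mem_center_iff.1 (hc ▸ Subgroup.mem_top _) _)

theorem commutator_fitting_le_frattini :
    ⁅fittingSubgroup G, fittingSubgroup G⁆ ≤ frattini G := by
  haveI := Fitting.fitting_isNilpotent (G := G)
  refine le_trans ?_ (CfsgLib.Frattini.map_frattini_le_of_normal
    (Fitting.fitting_normal (G := G)))
  rw [← Subgroup.map_subtype_commutator]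
  exact Subgroup.map_mono (le_iInf₂ fun M hM => commutator_le_of_coatom hM)

/-- Stabilizers of linear characters of an abelian normal subgroup have squarefree index. -/
theorem squarefree_stab_index (h : ∀ χ : IrrCharacter G, Squarefree (charDegree (χ : G → ℂ)))
    (A : Subgroup G) [hA : A.Normal] (l : A →* ℂˣ) (S : Subgroup G)
    (hS : ∀ g, g ∈ S ↔ OrbitVanish.dualAct A g l = l) : Squarefree S.index := by
  classical
  haveI := Fintype.ofFinite G
  haveI := Fintype.ofFinite A
  let θ : IrrCharacter A := ⟨fun a => (l a : ℂ), isIrrCharacter_of_hom l⟩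
  obtain ⟨χ, hχ⟩ := NormalRes.exists_mult_ne_zero_of_irr A θ
  obtain ⟨e, he⟩ := NormalRes.mult_nat A (irr_isCharacter χ) θ
  have h1 := Clifford.clifford_degree hA χ.2 θ.2 hχ
  rw [show classInner (fun n : A => (χ : G → ℂ) n) (θ : A → ℂ) = (e : ℂ) from he,
    show (θ : A → ℂ) 1 = 1 by simp [θ], mul_one,
    (degree_eq χ).1, ← Nat.cast_mul, Nat.cast_inj] at h1
  have hSI : S = Clifford.inertia hA (θ : A → ℂ) := by
    ext g
    rw [hS, Clifford.mem_inertia]
    constructor
    · intro hg n
      refine congrArg Units.val ?_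
      have h2 := DFunLike.congr_fun hg ⟨g * n * g⁻¹, hA.conj_mem n n.2 g⟩
      rw [OrbitVanish.dualAct_apply] at h2
      refine h2.symm.trans (congrArg l (Subtype.ext ?_))
      rw [MulAut.conjNormal_apply]
      group
    · intro hg
      refine MonoidHom.ext fun a => ?_
      rw [OrbitVanish.dualAct_apply]
      have h2 := hg (MulAut.conjNormal g⁻¹ a)
      refine (Units.ext h2).symm.trans (congrArg l (Subtype.ext ?_))
      show g * ↑(MulAut.conjNormal g⁻¹ a) * g⁻¹ = (a : G)
      rw [MulAut.conjNormal_apply]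
      group
  exact (h χ).squarefree_of_dvd (by rw [h1, hSI]; exact dvd_mul_left _ _)

theorem relIndex_dvd_index_swap {Q : Type*} [Group Q] [Finite Q] (N S : Subgroup Q) [N.Normal] :
    S.relIndex N ∣ S.index := by
  obtain ⟨t, ht⟩ := Subgroup.relIndex_dvd_index_of_normal N S
  refine ⟨t, ?_⟩
  have h1 : Nat.card (S ⊓ N : Subgroup Q) * S.relIndex N = Nat.card N := by
    rw [← Subgroup.inf_relIndex_right, ← Subgroup.relIndex_bot_left, ← Subgroup.relIndex_bot_left,
      Subgroup.relIndex_mul_relIndex _ _ _ bot_le inf_le_right]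
  have h2 : Nat.card (S ⊓ N : Subgroup Q) * N.relIndex S = Nat.card S := by
    rw [inf_comm, ← Subgroup.inf_relIndex_right, ← Subgroup.relIndex_bot_left,
      ← Subgroup.relIndex_bot_left, Subgroup.relIndex_mul_relIndex _ _ _ bot_le inf_le_right]
  have h3 := S.card_mul_index
  rw [← N.card_mul_index, ← h1, ← h2, ht] at h3
  have h4 : Nat.card (S ⊓ N : Subgroup Q) * N.relIndex S ≠ 0 := by
    rw [h2]; exact Nat.card_pos.ne'
  refine mul_left_cancel₀ h4 (h3.trans ?_)
  ring

/-- The core argument: the quotient by a self-centralising abelian Fitting subgroup is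
metabelian. -/
theorem derived_two_le_of_abelian [Group.IsSolvable G]
    (h : ∀ χ : IrrCharacter G, Squarefree (charDegree (χ : G → ℂ)))
    (A : Subgroup G) [hA : A.Normal] (hF : fittingSubgroup G = A)
    (hab : ∀ a ∈ A, ∀ b ∈ A, a * b = b * a) : derivedSeries G 2 ≤ A := by
  classical
  letI : CommGroup A := { (inferInstance : Group A) with
    mul_comm := fun a b => Subtype.ext (hab a a.2 b b.2) }
  haveI : Finite (A →* ℂˣ) := OrbitVanish.finite_dual
  have hAker : A ≤ (OrbitVanish.dualAct A).ker := fun g hg => MonoidHom.mem_ker.2 <|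
    MulEquiv.ext fun l => MonoidHom.ext fun a => by
      rw [OrbitVanish.dualAct_apply]
      show l _ = l a
      refine congrArg l (Subtype.ext ?_)
      rw [MulAut.conjNormal_apply, hab g⁻¹ (inv_mem hg) a a.2]
      group
  let φ : G ⧸ A →* MulAut (A →* ℂˣ) := QuotientGroup.lift A (OrbitVanish.dualAct A) hAker
  have hφ : ∀ g : G, φ (QuotientGroup.mk' A g) = OrbitVanish.dualAct A g := fun _ => rfl
  have hcore : ∀ p : ℕ, p.Prime → Nat.card (pCore p (G ⧸ A)) ∣ p := by
    intro p hp
    haveI : Fact p.Prime := ⟨hp⟩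
    set N := Nat.card A with hN
    let m := N / p ^ N.factorization p
    have hNm : p ^ N.factorization p * m = N := Nat.ordProj_mul_ordCompl_eq_self N p
    have hpm : ¬ p ∣ m := Nat.not_dvd_ordCompl hp Nat.card_pos.ne'
    have hcopm : (p ^ N.factorization p).Coprime m :=
      Nat.Coprime.pow_left _ (hp.coprime_iff_not_dvd.2 hpm)
    let D' : Subgroup (A →* ℂˣ) := (powMonoidHom m).ker
    have hpD : ¬ p ∣ Nat.card D' := fun hd => by
      obtain ⟨x, hx⟩ := exists_prime_orderOf_dvd_card' p hd
      exact hpm (hx ▸ orderOf_dvd_of_pow_eq_one (Subtype.ext x.2))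
    have hinv : ∀ (q : G ⧸ A) (x : A →* ℂˣ), x ∈ D' → φ q x ∈ D' := fun q x hx => by
      rw [MonoidHom.mem_ker, powMonoidHom_apply] at hx ⊢
      rw [← map_pow, hx, map_one]
    let ψ : G ⧸ A →* MulAut D' :=
      { toFun := fun q =>
          { toFun := fun x => ⟨φ q x.1, hinv q x.1 x.2⟩
            invFun := fun x => ⟨φ q⁻¹ x.1, hinv q⁻¹ x.1 x.2⟩
            left_inv := fun x => Subtype.ext (by
              show φ q⁻¹ (φ q x.1) = x.1
              rw [← MulAut.mul_apply, ← map_mul, inv_mul_cancel, map_one, MulAut.one_apply])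
            right_inv := fun x => Subtype.ext (by
              show φ q (φ q⁻¹ x.1) = x.1
              rw [← MulAut.mul_apply, ← map_mul, mul_inv_cancel, map_one, MulAut.one_apply])
            map_mul' := fun x y => Subtype.ext (map_mul (φ q) x.1 y.1) }
        map_one' := MulEquiv.ext fun x => Subtype.ext (by
          show φ 1 x.1 = x.1
          rw [map_one, MulAut.one_apply])
        map_mul' := fun a b => MulEquiv.ext fun x => Subtype.ext (by
          show φ (a * b) x.1 = φ a (φ b x.1)
          rw [map_mul, MulAut.mul_apply]) }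
    -- faithfulness on the normal `p`-subgroup
    have hfaith : pCore p (G ⧸ A) ⊓ ψ.ker = ⊥ := by
      haveI := Fitting.pCore_normal (G := G ⧸ A) p
      let K : Subgroup G := (pCore p (G ⧸ A) ⊓ ψ.ker).comap (QuotientGroup.mk' A)
      have hKn : K.Normal := Subgroup.Normal.comap inferInstance _
      have hKc : ∀ g ∈ K, ∀ z : A, (z : A) ^ m = 1 → g * z = z * g := by
        intro g hg z hz
        let c : A := MulAut.conjNormal g z * z⁻¹
        suffices hc : c = 1 by
          have h1 := congrArg Subtype.val (mul_inv_eq_one.1 hc)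
          rw [MulAut.conjNormal_apply] at h1
          exact mul_inv_eq_iff_eq_mul.1 h1
        by_contra hc
        have hcm : c ^ m = 1 := by
          rw [mul_pow, ← map_pow, inv_pow, hz, map_one, inv_one, mul_one]
        have hcp : c ^ p ^ N.factorization p ≠ 1 := fun h2 => hc (by
          have := pow_gcd_eq_one.2 ⟨h2, hcm⟩
          rwa [Nat.Coprime.gcd_eq_one hcopm, pow_one] at this)
        obtain ⟨l, hl⟩ := CommGroup.exists_apply_ne_one_of_hasEnoughRootsOfUnity A ℂ hcp
        apply hl
        have hl' : l ^ p ^ N.factorization p ∈ D' := by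
          rw [MonoidHom.mem_ker, powMonoidHom_apply, ← pow_mul, hNm]
          refine MonoidHom.ext fun a => ?_
          rw [MonoidHom.pow_apply, ← map_pow, hN, pow_card_eq_one', map_one]
          rfl
        have h3 : φ (QuotientGroup.mk' A g) (l ^ p ^ N.factorization p) =
            l ^ p ^ N.factorization p :=
          congrArg Subtype.val (MulEquiv.congr_fun (MonoidHom.mem_ker.1 hg.2) ⟨_, hl'⟩)
        have h4 := DFunLike.congr_fun h3 (MulAut.conjNormal g z)
        rw [hφ, OrbitVanish.dualAct_apply, ← MulAut.mul_apply, ← map_mul, inv_mul_cancel,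
          map_one, MulAut.one_apply] at h4
        rw [map_pow, ← MonoidHom.pow_apply, map_mul, ← h4, ← map_mul, mul_inv_cancel, map_one]
      have hKp : IsPGroup p (K ⧸ Subgroup.center K) := by
        intro x
        obtain ⟨x, rfl⟩ := QuotientGroup.mk_surjective x
        obtain ⟨k, hk⟩ := Fitting.pCore_isPGroup p ⟨QuotientGroup.mk' A x, x.2.1⟩
        have hxA : (x : G) ^ p ^ k ∈ A := by
          rw [← QuotientGroup.eq_one_iff, ← QuotientGroup.mk'_apply, map_pow]
          exact congrArg Subtype.val hk
        refine ⟨k + N.factorization p, ?_⟩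
        rw [← QuotientGroup.mk_pow, QuotientGroup.eq_one_iff, Subgroup.mem_center_iff]
        intro g
        apply Subtype.ext
        have hz : ((⟨_, hxA⟩ : A) ^ p ^ N.factorization p) ^ m = 1 := by
          rw [← pow_mul, hNm, hN, pow_card_eq_one']
        have := hKc g g.2 _ hz
        simpa [pow_add, pow_mul] using this
      haveI := hKp.isNilpotent
      haveI hKnil : Group.IsNilpotent K := Group.of_quotient_center_nilpotent inferInstance
      have hKA : K ≤ A := hF ▸ Fitting.le_fitting hKn hKnil
      rw [Subgroup.eq_bot_iff_forall]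
      intro q hq
      obtain ⟨g, rfl⟩ := QuotientGroup.mk'_surjective A q
      exact (QuotientGroup.eq_one_iff g).2 (hKA hq)
    -- abelian subgroups of the core are small
    have hsmall : ∀ B : Subgroup (G ⧸ A), B ≤ pCore p (G ⧸ A) →
        (∀ a ∈ B, ∀ b ∈ B, a * b = b * a) → Nat.card B ∣ p := by
      intro B hBP hBab
      haveI := Fitting.pCore_normal (G := G ⧸ A) p
      have hBp : IsPGroup p B := (Fitting.pCore_isPGroup p).to_le hBP
      obtain ⟨k, hk⟩ := IsPGroup.iff_card.1 hBp
      have hcop : (Nat.card B).Coprime (Nat.card D') := by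
        rw [hk]
        exact Nat.Coprime.pow_left _ (hp.coprime_iff_not_dvd.2 hpD)
      obtain ⟨d, hd⟩ := CoprimeOrbit.exists_free_abelian (D := D') (ψ.comp B.subtype) hcop
        fun a b => Subtype.ext (hBab a a.2 b b.2)
      let S : Subgroup (G ⧸ A) :=
        { carrier := {q | φ q d.1 = d.1}
          one_mem' := by simp
          mul_mem' := fun {a b} (ha : φ a d.1 = d.1) (hb : φ b d.1 = d.1) => by
            show φ (a * b) d.1 = d.1
            rw [map_mul, MulAut.mul_apply, hb, ha]
          inv_mem' := fun {a} (ha : φ a d.1 = d.1) => by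
            show φ a⁻¹ d.1 = d.1
            conv_lhs => rw [← ha]
            rw [← MulAut.mul_apply, ← map_mul, inv_mul_cancel, map_one, MulAut.one_apply] }
      have hsq : Squarefree S.index := by
        rw [← Subgroup.index_comap_of_surjective S (QuotientGroup.mk'_surjective A)]
        exact squarefree_stab_index h A d.1 _ fun g => Iff.rfl
      have hBS : S ⊓ B = ⊥ := by
        rw [Subgroup.eq_bot_iff_forall]
        intro b hb
        have h1 : ψ b = 1 := hd ⟨b, hb.2⟩ (Subtype.ext hb.1)
        have h2 : b ∈ pCore p (G ⧸ A) ⊓ ψ.ker := ⟨hBP hb.2, MonoidHom.mem_ker.2 h1⟩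
        rwa [hfaith, Subgroup.mem_bot] at h2
      have hcard : Nat.card B ≤ S.relIndex (pCore p (G ⧸ A)) := by
        rw [← Subgroup.relIndex_bot_left, ← hBS, Subgroup.inf_relIndex_right]
        refine Nat.le_of_not_lt fun hlt => ?_
        exact absurd (Subgroup.relIndex_le_of_le_right (H := S) hBP Subgroup.index_ne_zero_of_finite)
          hlt.not_ge
      obtain ⟨j, -, hj⟩ := (Nat.dvd_prime_pow hp).1
        ((IsPGroup.iff_card.1 (Fitting.pCore_isPGroup (G := G ⧸ A) p)).choose_spec ▸
          Subgroup.relIndex_dvd_card S (pCore p (G ⧸ A)))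
      have hj1 : j ≤ 1 := by
        by_contra hcon
        refine hp.ne_one (Nat.isUnit_iff.1 (hsq p ?_))
        refine dvd_trans ?_ (relIndex_dvd_index_swap (pCore p (G ⧸ A)) S)
        rw [hj, ← pow_two]
        exact pow_dvd_pow p (by omega)
      have hk1 : k ≤ 1 := by
        by_contra hcon
        have h1 : p ^ k ≤ p ^ j := by rw [← hk, ← hj]; exact hcard
        have := (Nat.pow_le_pow_iff_right hp.one_lt).1 h1
        omega
      rw [hk]
      exact (pow_dvd_pow p hk1).trans (pow_one p).dvd
    obtain ⟨n, hn⟩ := IsPGroup.iff_card.1 (Fitting.pCore_isPGroup (G := G ⧸ A) p)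
    rcases Nat.lt_or_ge n 2 with h2 | h2
    · rw [hn]
      exact (pow_dvd_pow p (Nat.lt_succ_iff.1 h2)).trans (pow_one p).dvd
    · obtain ⟨B, hB⟩ := Sylow.exists_subgroup_card_pow_prime p (G := pCore p (G ⧸ A))
        (hn ▸ pow_dvd_pow p h2)
      have hB' : Nat.card (B.map (pCore p (G ⧸ A)).subtype) = p ^ 2 := by
        rw [Nat.card_congr (B.equivMapOfInjective _ (Subgroup.subtype_injective _)).toEquiv.symm, hB]
      have hle : B.map (pCore p (G ⧸ A)).subtype ≤ pCore p (G ⧸ A) := Subgroup.map_subtype_le B
      have h1 := hsmall _ hle fun a ha b hb => congrArg Subtype.val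
        ((IsPGroup.isMulCommutative_of_card_eq_prime_sq hB').is_comm.comm ⟨a, ha⟩ ⟨b, hb⟩)
      rw [hB', pow_two] at h1
      exact absurd (Nat.le_of_dvd hp.pos h1) (by nlinarith [hp.two_le])
  -- conclusion
  have hcyc : ∀ p : ℕ, p.Prime →
      ∀ a ∈ commutator (G ⧸ A), ∀ x ∈ pCore p (G ⧸ A), x * a = a * x := by
    intro p hp a ha x hx
    haveI : Fact p.Prime := ⟨hp⟩
    haveI := Fitting.pCore_normal (G := G ⧸ A) p
    haveI : IsCyclic (pCore p (G ⧸ A)) := by
      rcases (Nat.dvd_prime hp).1 (hcore p hp) with h1 | h1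
      · haveI := (Nat.card_eq_one_iff_unique.1 h1).1
        infer_instance
      · exact isCyclic_of_prime_card h1
    have hk : a ∈ ((IsCyclic.mulAutMulEquiv (pCore p (G ⧸ A))).toMonoidHom.comp
        (MulAut.conjNormal (H := pCore p (G ⧸ A)))).ker :=
      Abelianization.commutator_subset_ker _ ha
    rw [MonoidHom.mem_ker, MonoidHom.comp_apply, MulEquiv.coe_toMonoidHom,
      EmbeddingLike.map_eq_one_iff] at hk
    have h1 := congrArg Subtype.val (MulEquiv.congr_fun hk ⟨x, hx⟩)
    rw [MulAut.conjNormal_apply, MulAut.one_apply, mul_inv_eq_iff_eq_mul] at h1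
    exact h1.symm
  haveI : Group.IsSolvable (G ⧸ A) := Group.isSolvable_of_surjective (QuotientGroup.mk'_surjective A)
  have hFc : fittingSubgroup (G ⧸ A) ≤ Subgroup.centralizer (fittingSubgroup (G ⧸ A) : Set (G ⧸ A)) := by
    rw [Fitting.fitting_eq_iSup_pCore]
    refine iSup_le fun p => ?_
    rw [Subgroup.le_centralizer_iff]
    refine iSup_le fun q => ?_
    intro x hx
    rw [Subgroup.mem_centralizer_iff]
    intro y hy
    have hpp := Nat.prime_of_mem_primeFactors p.2
    have hqp := Nat.prime_of_mem_primeFactors q.2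
    by_cases hpq : (p : ℕ) = q
    · haveI : Fact (Nat.Prime p) := ⟨hpp⟩
      rw [← hpq] at hx
      haveI : IsCyclic (pCore (p : ℕ) (G ⧸ A)) := by
        rcases (Nat.dvd_prime hpp).1 (hcore p hpp) with h1 | h1
        · haveI := (Nat.card_eq_one_iff_unique.1 h1).1
          infer_instance
        · exact isCyclic_of_prime_card h1
      exact congrArg Subtype.val
        ((IsCyclic.isMulCommutative (α := pCore (p : ℕ) (G ⧸ A))).is_comm.comm ⟨y, hy⟩ ⟨x, hx⟩)
    · exact (Fitting.commute_pCore_of_ne hpp hqp hpq hy hx).eq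
  have hcomm : commutator (G ⧸ A) ≤ fittingSubgroup (G ⧸ A) := by
    refine le_trans ?_ Fitting.centralizer_fitting_le
    rw [Fitting.fitting_eq_iSup_pCore, Subgroup.le_centralizer_iff]
    refine iSup_le fun p => ?_
    intro x hx
    rw [Subgroup.mem_centralizer_iff]
    intro a ha
    exact (hcyc p (Nat.prime_of_mem_primeFactors p.2) a ha x hx).symm
  have hbot : derivedSeries (G ⧸ A) 2 = ⊥ := by
    rw [derivedSeries_succ, derivedSeries_one, Subgroup.commutator_eq_bot_iff_le_centralizer]
    exact hcomm.trans (hFc.trans (Subgroup.centralizer_le hcomm))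
  intro g hg
  have h1 := map_derivedSeries_le_derivedSeries (QuotientGroup.mk' A) 2 ⟨g, hg, rfl⟩
  rw [hbot, Subgroup.mem_bot] at h1
  exact (QuotientGroup.eq_one_iff g).1 h1

theorem derived_two_le_fitting [Group.IsSolvable G]
    (h : ∀ χ : IrrCharacter G, Squarefree (charDegree (χ : G → ℂ))) :
    derivedSeries G 2 ≤ fittingSubgroup G := by
  haveI : Group.IsSolvable (G ⧸ frattini G) :=
    Group.isSolvable_of_surjective (QuotientGroup.mk'_surjective (frattini G))
  haveI := Fitting.fitting_normal (G := G)
  have hF := CfsgLib.Frattini.fitting_quotient_frattini (G := G)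
  haveI : ((fittingSubgroup G).map (QuotientGroup.mk' (frattini G))).Normal :=
    Subgroup.Normal.map inferInstance _ (QuotientGroup.mk'_surjective _)
  have h1 := derived_two_le_of_abelian (degree_quotient h (frattini G)) _ hF (by
    rintro _ ⟨a, ha, rfl⟩ _ ⟨b, hb, rfl⟩
    rw [← commutatorElement_eq_one_iff_mul_comm, ← map_commutatorElement]
    exact (QuotientGroup.eq_one_iff _).2
      (commutator_fitting_le_frattini (Subgroup.commutator_mem_commutator ha hb)))
  intro g hg
  obtain ⟨f, hf, hfg⟩ :=
    h1 (map_derivedSeries_le_derivedSeries (QuotientGroup.mk' (frattini G)) 2 ⟨g, hg, rfl⟩)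
  simp only [QuotientGroup.mk'_apply] at hfg
  have h2 := (QuotientGroup.eq).1 hfg
  rw [show g = f * (f⁻¹ * g) by group]
  exact mul_mem hf (CfsgLib.Frattini.frattini_le_fitting h2)

/-- **Solvable groups with squarefree degrees have derived length at most four.** -/
theorem derived_four [Group.IsSolvable G]
    (h : ∀ χ : IrrCharacter G, Squarefree (charDegree (χ : G → ℂ))) :
    derivedSeries G 4 = ⊥ := by
  haveI := Fitting.fitting_normal (G := G)
  haveI := Fitting.fitting_isNilpotent (G := G)
  have h2 := derived_two_nilpotent (G := fittingSubgroup G) (degree_normal h (fittingSubgroup G))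
  have hF := derived_two_le_fitting h
  rw [derivedSeries_succ, derivedSeries_one] at h2
  rw [eq_bot_iff]
  intro g hg
  have hd : derivedSeries G 4 ≤ (⁅commutator (fittingSubgroup G), commutator (fittingSubgroup G)⁆ :
      Subgroup (fittingSubgroup G)).map (fittingSubgroup G).subtype := by
    rw [Subgroup.map_commutator, Subgroup.map_subtype_commutator]
    show ⁅⁅derivedSeries G 2, derivedSeries G 2⁆, ⁅derivedSeries G 2, derivedSeries G 2⁆⁆ ≤ _
    exact Subgroup.commutator_mono (Subgroup.commutator_mono hF hF) (Subgroup.commutator_mono hF hF)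
  have := hd hg
  rwa [h2, Subgroup.map_bot] at this

end CfsgLib.KGV.Squarefree
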