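import Cfsg.Agent.Lib.Characters.Ramified
import Cfsg.Agent.Lib.CharCorr.QuotientTools
import Cfsg.Agent.Lib.CharDeg.OnePrimeDegree
import Cfsg.Agent.Lib.KGV.CoprimeOrbit
import Cfsg.Agent.Lib.KGV.SquarefreeDegrees
import Cfsg.Agent.Lib.Techniques.KInfBasic

/-!
# Quasi-primitive characters of two-prime groups with nilpotent quotient by the Fitting subgroup
-/

set_option autoImplicit false
set_option linter.style.haveILetI false
set_option linter.unusedSectionVars false

noncomputable section

namespace CfsgLib.KGV.PrimitiveNilpotent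

open Cfsg CfsgLib CfsgLib.Characters Subgroup CfsgLib.KGV.CoprimeOrbit
open scoped commutatorElement ComplexConjugate

universe u v

/-! ## Fixed points of coprime nilpotent actions on abelian groups -/

section Count

variable {Q : Type u} [Group Q] [Finite Q]

/-- The restriction of an action to an invariant subgroup. -/
def restrictAct {V : Type v} [CommGroup V] (φ : Q →* MulAut V) (C : Subgroup V)
    (h : ∀ t, ∀ v ∈ C, φ t v ∈ C) : Q →* MulAut C where
  toFun t :=
    { toFun := fun v => ⟨φ t v.1, h t v.1 v.2⟩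
      invFun := fun v => ⟨φ t⁻¹ v.1, h t⁻¹ v.1 v.2⟩
      left_inv := fun v => Subtype.ext (by
        show φ t⁻¹ (φ t v.1) = v.1
        rw [← MulAut.mul_apply, ← map_mul, inv_mul_cancel, map_one, MulAut.one_apply])
      right_inv := fun v => Subtype.ext (by
        show φ t (φ t⁻¹ v.1) = v.1
        rw [← MulAut.mul_apply, ← map_mul, mul_inv_cancel, map_one, MulAut.one_apply])
      map_mul' := fun x y => Subtype.ext (map_mul (φ t) x.1 y.1) }
  map_one' := MulEquiv.ext fun v => Subtype.ext (by
    show φ 1 v.1 = v.1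
    rw [map_one, MulAut.one_apply])
  map_mul' a b := MulEquiv.ext fun v => Subtype.ext (by
    show φ (a * b) v.1 = φ a (φ b v.1)
    rw [map_mul, MulAut.mul_apply])

/-- The product over the elements of the squared orders of fixed point groups is bounded by the
order to the power of the number of elements. -/
theorem prod_card_fix_sq_le [Fintype Q] [Group.IsNilpotent Q] :
    ∀ (n : ℕ) {V : Type v} [CommGroup V] [Finite V] (φ : Q →* MulAut V), Nat.card V ≤ n →
      (Nat.card Q).Coprime (Nat.card V) → (∀ v : V, (∀ t, φ t v = v) → v = 1) →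
      ∏ t : Q, Nat.card (fixD φ t) ^ 2 ≤ Nat.card V ^ Nat.card Q := by
  intro n
  induction n with
  | zero =>
    intro V _ _ φ hle _ _
    exact absurd hle (by have := Nat.card_pos (α := V); omega)
  | succ n ih =>
    intro V _ _ φ hle hcop hfix
    classical
    by_cases htriv : φ = 1
    · have h1 : ∀ v : V, v = 1 := fun v => hfix v fun t => by rw [htriv]; rfl
      haveI : Subsingleton V := ⟨fun a b => by rw [h1 a, h1 b]⟩
      have hV : Nat.card V = 1 := Nat.card_eq_one_iff_unique.2 ⟨inferInstance, ⟨1⟩⟩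
      rw [hV, one_pow]
      refine (Finset.prod_eq_one fun t _ => ?_).le
      rw [Nat.card_eq_one_iff_unique.2 ⟨inferInstance, ⟨1⟩⟩, one_pow]
    haveI : Nontrivial φ.range := by
      rw [Subgroup.nontrivial_iff_ne_bot]
      intro h
      apply htriv
      refine MonoidHom.ext fun t => ?_
      have h2 : φ t ∈ φ.range := ⟨t, rfl⟩
      rwa [h, Subgroup.mem_bot] at h2
    haveI : Group.IsNilpotent φ.range :=
      Group.nilpotent_of_surjective φ.rangeRestrict φ.rangeRestrict_surjective
    haveI : Nontrivial (Subgroup.center φ.range) :=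
      (Subgroup.nontrivial_iff_ne_bot _).2 (Group.IsNilpotent.center_ne_bot φ.range)
    obtain ⟨w, hw⟩ := exists_ne (1 : Subgroup.center φ.range)
    obtain ⟨z, hz⟩ := w.1.2
    have hzne : φ z ≠ 1 := fun h => hw (Subtype.ext (Subtype.ext (hz.symm.trans h)))
    have hzc : ∀ (t : Q) (v : V), φ t (φ z v) = φ z (φ t v) := fun t v => by
      have h1 := congrArg Subtype.val (Subgroup.mem_center_iff.1 w.2 ⟨φ t, t, rfl⟩)
      simp only [Subgroup.coe_mul] at h1
      rw [← MulAut.mul_apply, ← MulAut.mul_apply, hz, h1]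
    let N : V →* V :=
      { toFun := orbProd φ z
        map_one' := by simp [orbProd]
        map_mul' := orbProd_mul φ z }
    have hzpow : ∀ (j : ℕ) (t : Q) (v : V), φ t (φ (z ^ j) v) = φ (z ^ j) (φ t v) := by
      intro j t
      induction j with
      | zero => intro v; simp
      | succ j ihj =>
        intro v
        rw [pow_succ', map_mul, MulAut.mul_apply, hzc, ihj, MulAut.mul_apply]
    have hNt : ∀ (t : Q) (v : V), φ t (N v) = N (φ t v) := fun t v => by
      show φ t (orbProd φ z v) = orbProd φ z (φ t v)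
      simp only [orbProd, map_prod]
      exact Finset.prod_congr rfl fun j _ => hzpow j t v
    set C := fixD φ z with hC
    set D := N.ker with hD
    have hCt : ∀ t, ∀ v ∈ C, φ t v ∈ C := fun t v hv => by
      rw [hC, mem_fixD] at hv ⊢
      rw [← hzc, hv]
    have hDt : ∀ t, ∀ v ∈ D, φ t v ∈ D := fun t v hv => by
      rw [hD, MonoidHom.mem_ker] at hv ⊢
      rw [← hNt, hv, map_one]
    have hCD : ∀ v ∈ C, v ∈ D → v = 1 := fun v hv hv' => by
      refine eq_one_of_pow_orderOf hcop (u := z) ?_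
      rw [← orbProd_of_fixed φ (mem_fixD φ |>.1 hv)]
      exact MonoidHom.mem_ker.1 hv'
    let f : C × D → V := fun x => x.1.1 * x.2.1
    have hfinj : Function.Injective f := by
      rintro ⟨⟨a, ha⟩, ⟨b, hb⟩⟩ ⟨⟨a', ha'⟩, ⟨b', hb'⟩⟩ h
      simp only [f] at h
      have h1 : a * a'⁻¹ = b' * b⁻¹ := by
        rw [mul_inv_eq_iff_eq_mul, mul_comm b', mul_assoc, mul_comm b' a', ← h]
        rw [mul_comm b⁻¹, mul_assoc, mul_inv_cancel, mul_one]
      have h2 := hCD _ (C.mul_mem ha (C.inv_mem ha')) (h1 ▸ D.mul_mem hb' (D.inv_mem hb))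
      have h3 : a = a' := mul_inv_eq_one.1 h2
      subst h3
      have h4 : b = b' := mul_left_cancel h
      subst h4
      rfl
    have hfsurj : Function.Surjective f := by
      haveI := Fintype.ofFinite V
      refine (Fintype.bijective_iff_injective_and_card f).2 ⟨hfinj, le_antisymm
        (Fintype.card_le_of_injective f hfinj) ?_⟩ |>.2
      rw [Fintype.card_prod, ← Nat.card_eq_fintype_card, ← Nat.card_eq_fintype_card,
        ← Nat.card_eq_fintype_card, ← D.card_mul_index, mul_comm (Nat.card C)]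
      refine Nat.mul_le_mul_left _ ?_
      rw [hD, Subgroup.index_ker]
      exact Subgroup.card_le_of_le (by
        rintro _ ⟨v, rfl⟩
        exact apply_orbProd φ z v)
    have hcard : Nat.card C * Nat.card D = Nat.card V := by
      rw [← Nat.card_prod]
      exact Nat.card_congr (Equiv.ofBijective f ⟨hfinj, hfsurj⟩)
    let φC := restrictAct φ C hCt
    let φD := restrictAct φ D hDt
    have hfixt : ∀ t, Nat.card (fixD φ t) = Nat.card (fixD φC t) * Nat.card (fixD φD t) := by
      intro t
      rw [← Nat.card_prod]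
      refine (Nat.card_congr (Equiv.ofBijective
        (fun x : fixD φC t × fixD φD t => (⟨x.1.1.1 * x.2.1.1, ?_⟩ : fixD φ t)) ⟨?_, ?_⟩)).symm
      · show φ t (x.1.1.1 * x.2.1.1) = x.1.1.1 * x.2.1.1
        rw [map_mul, show φ t x.1.1.1 = x.1.1.1 from congrArg Subtype.val x.1.2,
          show φ t x.2.1.1 = x.2.1.1 from congrArg Subtype.val x.2.2]
      · intro x y h
        have := @hfinj (x.1.1, x.2.1) (y.1.1, y.2.1) (congrArg Subtype.val h)
        exact Prod.ext (Subtype.ext (congrArg Prod.fst this)) (Subtype.ext (congrArg Prod.snd this))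
      · rintro ⟨v, hv⟩
        obtain ⟨⟨c, d⟩, rfl⟩ := hfsurj v
        have h1 : f (⟨φ t c.1, hCt t _ c.2⟩, ⟨φ t d.1, hDt t _ d.2⟩) = f (c, d) :=
          (map_mul (φ t) c.1 d.1).symm.trans hv
        have h2 := hfinj h1
        exact ⟨⟨⟨c, congrArg Prod.fst h2⟩, ⟨d, congrArg Prod.snd h2⟩⟩, rfl⟩
    have hClt : Nat.card C ≤ n := by
      have h1 : Nat.card C ≠ Nat.card V := fun h => hzne (MulEquiv.ext fun v => by
        have h2 : C = ⊤ := Subgroup.eq_top_of_card_eq C h
        have h3 : v ∈ C := h2 ▸ Subgroup.mem_top v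
        exact h3)
      have h2 : Nat.card C ≤ Nat.card V := Subgroup.card_le_card_group C
      omega
    have hIC := ih φC hClt (hcop.coprime_dvd_right (Subgroup.card_subgroup_dvd_card C))
      fun v hv => Subtype.ext (hfix v.1 fun t => congrArg Subtype.val (hv t))
    -- the fixed-point-free part
    have hpair : ∀ t, Nat.card (fixD φD t) * Nat.card (fixD φD (t * z)) ≤ Nat.card D := by
      intro t
      rw [← Nat.card_prod]
      refine Nat.card_le_card_of_injective
        (fun x : fixD φD t × fixD φD (t * z) => x.1.1 * x.2.1) ?_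
      intro x y h
      simp only at h
      have h1 : x.1.1 * y.1.1⁻¹ = y.2.1 * x.2.1⁻¹ := by
        rw [mul_inv_eq_iff_eq_mul, mul_comm y.2.1, mul_assoc, mul_comm y.2.1 y.1.1, ← h]
        rw [mul_comm x.2.1⁻¹, mul_assoc, mul_inv_cancel, mul_one]
      obtain ⟨w, hw⟩ : ∃ w, w = x.1.1 * y.1.1⁻¹ := ⟨_, rfl⟩
      rw [← hw] at h1
      have ha : φD t w = w := by
        rw [hw]; exact (fixD φD t).mul_mem x.1.2 ((fixD φD t).inv_mem y.1.2)
      have hb : φD (t * z) w = w := by
        rw [h1]; exact (fixD φD (t * z)).mul_mem y.2.2 ((fixD φD (t * z)).inv_mem x.2.2)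
      rw [map_mul, MulAut.mul_apply] at hb
      have hzw : φD z w = w := (φD t).injective (hb.trans ha.symm)
      have hw1 : w = 1 := Subtype.ext (hCD w.1 (congrArg Subtype.val hzw) w.2)
      have h3 : x.1.1 = y.1.1 := mul_inv_eq_one.1 (hw ▸ hw1)
      simp only [h3] at h
      exact Prod.ext (Subtype.ext h3) (Subtype.ext (mul_left_cancel h))
    have hID : ∏ t : Q, Nat.card (fixD φD t) ^ 2 ≤ Nat.card D ^ Nat.card Q := by
      simp only [pow_two, Finset.prod_mul_distrib]
      nth_rw 2 [← Equiv.prod_comp (Equiv.mulRight z) fun t => Nat.card (fixD φD t)]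
      rw [← Finset.prod_mul_distrib, Nat.card_eq_fintype_card (α := Q), ← Finset.card_univ]
      exact Finset.prod_le_pow_card _ _ _ fun t _ => hpair t
    calc ∏ t : Q, Nat.card (fixD φ t) ^ 2
        = (∏ t : Q, Nat.card (fixD φC t) ^ 2) * ∏ t : Q, Nat.card (fixD φD t) ^ 2 := by
          rw [← Finset.prod_mul_distrib]
          exact Finset.prod_congr rfl fun t _ => by rw [hfixt t, mul_pow]
      _ ≤ Nat.card C ^ Nat.card Q * Nat.card D ^ Nat.card Q := Nat.mul_le_mul hIC hID
      _ = Nat.card V ^ Nat.card Q := by rw [← mul_pow, hcard]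

/-- Some element fixes at most the square root of the group. -/
theorem exists_fix_sq_le [Group.IsNilpotent Q] {V : Type v} [CommGroup V] [Finite V]
    (φ : Q →* MulAut V) (hcop : (Nat.card Q).Coprime (Nat.card V))
    (hfix : ∀ v : V, (∀ t, φ t v = v) → v = 1) :
    ∃ t : Q, Nat.card (fixD φ t) ^ 2 ≤ Nat.card V := by
  classical
  haveI := Fintype.ofFinite Q
  by_contra! hcon
  have h := prod_card_fix_sq_le (Nat.card V) φ le_rfl hcop hfix
  refine absurd h (not_le.2 ?_)
  rw [Nat.card_eq_fintype_card (α := Q), ← Finset.card_univ, ← Finset.prod_const]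
  exact Finset.prod_lt_prod_of_nonempty (fun t _ => Nat.card_pos) (fun t _ => hcon t)
    Finset.univ_nonempty

end Count

/-! ## Quasi-primitive characters -/

variable {G : Type u} [Group G] [Finite G]

/-- Every restriction to a normal subgroup is homogeneous. -/
def QP (χ : G → ℂ) : Prop :=
  ∀ (N : Subgroup G), N.Normal → ∃ (θ : IrrCharacter N) (e : ℕ),
    (fun n : N => χ n) = (e : ℂ) • (θ : N → ℂ)

theorem qp_of_primitive [Fintype G] (χ : IrrCharacter G)
    (hprim : ¬ ∃ (H : Subgroup G), H ≠ ⊤ ∧ ∃ θ : ↥H → ℂ, IsCharacter ↥H θ ∧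
      indFun H θ = (χ : G → ℂ)) : QP (χ : G → ℂ) := by
  classical
  intro N hN
  haveI := hN
  haveI := Fintype.ofFinite N
  obtain ⟨θ, hθ⟩ := NormalRes.exists_mult_ne_zero N χ
  obtain ⟨e, he⟩ := NormalRes.mult_nat N (irr_isCharacter χ) θ
  set T := Clifford.inertia hN (θ : N → ℂ) with hT
  have hNT : N ≤ T := Clifford.le_inertia hN (irr_isClassFunction θ)
  haveI : Fintype T := Fintype.ofFinite T
  obtain ⟨ψ, hψ, hind, -⟩ := Clifford.correspondence hN θ.2 T hT hNT χ.2 hθ
  have htop : T = ⊤ := by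
    by_contra hne
    exact hprim ⟨T, hne, ψ, isCharacter_of_irr hψ, hind⟩
  refine ⟨θ, e, ?_⟩
  rw [Ramified.res_eq_smul_of_invariant N χ.2 θ.2 (fun g n =>
    (Clifford.mem_inertia.1 (show g ∈ T by rw [htop]; exact Subgroup.mem_top g) n)) hθ]
  exact congrArg (· • (θ : N → ℂ)) he

theorem qp_mult_ne_zero {χ : IrrCharacter G} {N : Subgroup G} {θ : IrrCharacter N} {e : ℕ}
    (h : (fun n : N => (χ : G → ℂ) n) = (e : ℂ) • (θ : N → ℂ)) : e ≠ 0 := fun h0 => by
  have h1 := congrFun h 1
  rw [h0] at h1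
  exact irr_one_ne_zero χ (by simpa using h1)

theorem qp_quotient [Fintype G] (K : Subgroup G) [K.Normal] [Fintype (G ⧸ K)]
    {χ : IrrCharacter (G ⧸ K)} (h : QP fun g : G => (χ : G ⧸ K → ℂ) (QuotientGroup.mk' K g)) :
    QP (χ : G ⧸ K → ℂ) := by
  classical
  intro N' hN'
  haveI := hN'
  haveI := Fintype.ofFinite N'
  set N := N'.comap (QuotientGroup.mk' K) with hN
  haveI : N.Normal := inferInstance
  haveI := Fintype.ofFinite N
  obtain ⟨θ, e, hθ⟩ := h N inferInstance
  let f : N →* N' := (QuotientGroup.mk' K).subgroupComap N'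
  have hf : Function.Surjective f := fun y => by
    obtain ⟨g, hg⟩ := QuotientGroup.mk'_surjective K y.1
    exact ⟨⟨g, show QuotientGroup.mk' K g ∈ N' by rw [hg]; exact y.2⟩, Subtype.ext hg⟩
  have hpull : (fun n : N => (χ : G ⧸ K → ℂ) (f n)) = (e : ℂ) • (θ : N → ℂ) := hθ
  obtain ⟨η, hη⟩ := NormalRes.exists_mult_ne_zero N' χ
  have hθη : (θ : N → ℂ) = fun n => (η : N' → ℂ) (f n) := by
    by_contra hne
    refine hη ?_
    show classInner (fun y : N' => (χ : G ⧸ K → ℂ) y) (η : N' → ℂ) = 0
    rw [← CharCorrQ.classInner_comp_surjective f hf, hpull, classInner_smul_left,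
      classInner_irr_ne θ.2 (Clifford.isIrrCharacter_pullback η.2 f hf) hne, mul_zero]
  refine ⟨η, e, funext fun y => ?_⟩
  obtain ⟨n, rfl⟩ := hf y
  have h1 := congrFun hpull n
  rw [Pi.smul_apply, hθη] at h1
  exact h1

variable [Fintype G]

theorem le_center_of_abelian (χ : IrrCharacter G) (hqp : QP (χ : G → ℂ))
    (hfaith : ∀ g, (χ : G → ℂ) g = (χ : G → ℂ) 1 → g = 1) (A : Subgroup G) (hA : A.Normal)
    (hab : ∀ a ∈ A, ∀ b ∈ A, a * b = b * a) : A ≤ center G := by
  classical
  obtain ⟨θ, e, hθ⟩ := hqp A hA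
  haveI : IsMulCommutative A := isMulCommutative_iff.mpr fun a b => Subtype.ext (hab a a.2 b b.2)
  have h1 : (θ : A → ℂ) 1 = 1 := CharIto.degree_one_of_comm θ.2
  set l := CharIto.linearHom (irr_isCharacter θ) h1 with hl
  intro a ha
  rw [mem_center_iff]
  intro g
  set c : A := ⟨g * a * g⁻¹, hA.conj_mem a ha g⟩ * (⟨a, ha⟩ : A)⁻¹ with hc
  have hval : ∀ b : A, (θ : A → ℂ) b = (l b : ℂ) := fun b => by simp [hl]
  have hχ : ∀ b : A, (χ : G → ℂ) b = (e : ℂ) * (l b : ℂ) := fun b => by
    rw [← hval]; exact congrFun hθ b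
  have hinv : l ⟨g * a * g⁻¹, hA.conj_mem a ha g⟩ = l ⟨a, ha⟩ := by
    apply Units.ext
    refine mul_left_cancel₀ (Nat.cast_ne_zero.2 (qp_mult_ne_zero hθ) : (e : ℂ) ≠ 0) ?_
    rw [← hχ, ← hχ]
    exact irr_isClassFunction χ a g
  have hc1 : (c : G) = 1 := hfaith _ (by
    rw [hχ c, hc, map_mul, map_inv, hinv, mul_inv_cancel, ← map_one l, ← hχ]
    rfl)
  simp only [hc, Subgroup.coe_mul, InvMemClass.coe_inv] at hc1
  exact mul_inv_eq_iff_eq_mul.1 (mul_inv_eq_one.1 hc1)

/-- If the quotient is nilpotent the restriction is irreducible. -/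
theorem res_irr_of_nilpotent_quotient (χ : IrrCharacter G) (hqp : QP (χ : G → ℂ))
    (K : Subgroup G) [hK : K.Normal] [hnil : Group.IsNilpotent (G ⧸ K)] :
    IsIrrCharacter K (fun k : K => (χ : G → ℂ) k) := by
  classical
  suffices ∀ (n : ℕ) (K : Subgroup G) [K.Normal], Group.IsNilpotent (G ⧸ K) → K.index ≤ n →
      IsIrrCharacter K (fun k : K => (χ : G → ℂ) k) from this K.index K hnil le_rfl
  intro n
  induction n with
  | zero => intro K _ _ h; exact absurd (Nat.le_zero.1 h) Subgroup.index_ne_zero_of_finite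
  | succ n ih =>
    intro K hKn hnil hle
    haveI := hnil
    haveI := Fintype.ofFinite K
    by_cases htop : K = ⊤
    · subst htop
      exact Clifford.isIrrCharacter_pullback χ.2 (⊤ : Subgroup G).subtype
        fun g => ⟨⟨g, Subgroup.mem_top g⟩, rfl⟩
    haveI : Nontrivial (G ⧸ K) := QuotientGroup.nontrivial_iff.2 htop
    obtain ⟨r, hr, hrdvd⟩ := Nat.exists_prime_and_dvd (n := Nat.card (center (G ⧸ K)))
      fun h => Group.IsNilpotent.center_ne_bot (G ⧸ K) (Subgroup.card_eq_one.1 h)
    haveI : Fact r.Prime := ⟨hr⟩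
    obtain ⟨z, hz⟩ := exists_prime_orderOf_dvd_card' (G := center (G ⧸ K)) r hrdvd
    set Z := Subgroup.zpowers (z : G ⧸ K) with hZ
    have hZn : Z.Normal := ⟨fun n hn g => by
      rw [Subgroup.mem_center_iff.1 (Subgroup.zpowers_le.2 z.2 hn) g, mul_inv_cancel_right]
      exact hn⟩
    set K1 := Z.comap (QuotientGroup.mk' K) with hK1
    haveI : K1.Normal := Normal.comap hZn _
    haveI := Fintype.ofFinite K1
    have hKK1 : K ≤ K1 := fun k hk => by
      rw [hK1, Subgroup.mem_comap, QuotientGroup.mk'_apply, (QuotientGroup.eq_one_iff k).2 hk]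
      exact Z.one_mem
    have hZc : Nat.card Z = r := by rw [hZ, Nat.card_zpowers, Subgroup.orderOf_coe, hz]
    have hidx : K1.index * r = K.index := by
      rw [hK1, index_comap_of_surjective Z (QuotientGroup.mk'_surjective K), ← hZc,
        Z.index_mul_card, Subgroup.index_eq_card]
    have hlt : K1.index ≤ n := by
      have h2 := hr.two_le
      have h0 : 0 < K1.index := Nat.pos_of_ne_zero Subgroup.index_ne_zero_of_finite
      nlinarith
    have hnil1 : Group.IsNilpotent (G ⧸ K1) := Group.nilpotent_of_surjective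
      (QuotientGroup.map K K1 (MonoidHom.id G) hKK1) fun y => by
        obtain ⟨g, rfl⟩ := QuotientGroup.mk'_surjective K1 y
        exact ⟨QuotientGroup.mk g, rfl⟩
    have hη := ih K1 hnil1 hlt
    obtain ⟨θ, e, hθ⟩ := hqp K hKn
    have he0 := qp_mult_ne_zero hθ
    have hrel : Nat.card K * r = Nat.card K1 := by
      have h1 := K.card_mul_index
      rw [← K1.card_mul_index, ← hidx, mul_comm K1.index, ← mul_assoc] at h1
      exact Nat.eq_of_mul_eq_mul_right (Nat.pos_of_ne_zero Subgroup.index_ne_zero_of_finite) h1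
    -- transport to the subgroup of index `r`
    let K' : Subgroup K1 := K.subgroupOf K1
    haveI : K'.Normal := hKn.subgroupOf K1
    haveI := Fintype.ofFinite K'
    let ε : K' →* K := (Subgroup.subgroupOfEquivOfLe hKK1).toMonoidHom
    have hε : Function.Surjective ε := (Subgroup.subgroupOfEquivOfLe hKK1).surjective
    have hθ' : IsIrrCharacter K' (fun x => (θ : K → ℂ) (ε x)) :=
      Clifford.isIrrCharacter_pullback θ.2 ε hε
    have hres : (fun x : K' => (fun k : K1 => (χ : G → ℂ) k) x) =
        (e : ℂ) • fun x => (θ : K → ℂ) (ε x) := funext fun x => congrFun hθ (ε x)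
    have hinner : classInner (fun x : K' => (fun k : K1 => (χ : G → ℂ) k) x)
        (fun x => (θ : K → ℂ) (ε x)) = (e : ℂ) := by
      rw [hres, classInner_smul_left, classInner_irr_self hθ', mul_one]
    obtain ⟨k, hk, hkdvd⟩ := Ramified.degree_ratio_dvd_index K' hη hθ'
      (by rw [hinner]; exact Nat.cast_ne_zero.2 he0)
    have hke : k = e := by
      have h1 : (e : ℂ) * (θ : K → ℂ) 1 = (χ : G → ℂ) 1 := (congrFun hθ 1).symm
      simp only [map_one, Subgroup.coe_one] at hk
      rw [← h1] at hk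
      exact_mod_cast (mul_right_cancel₀ (irr_one_ne_zero θ) hk).symm
    subst hke
    have hK'idx : K'.index = r := by
      have h1 := K'.card_mul_index
      rw [Nat.card_congr (Subgroup.subgroupOfEquivOfLe hKK1).toEquiv, ← hrel] at h1
      exact Nat.eq_of_mul_eq_mul_left Nat.card_pos h1
    rw [hK'idx] at hkdvd
    have hsq : k * k ≤ r := by
      have hsum1 : ∑ x : K', Complex.normSq ((χ : G → ℂ) ((x : K1) : G)) =
          ((k * k * Nat.card K' : ℕ) : ℝ) := by
        have h2 := classInner_irr_self hθ'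
        rw [classInner, inv_mul_eq_iff_eq_mul₀ (Nat.cast_ne_zero.2 Nat.card_pos.ne'), mul_one] at h2
        have h3 := congrArg Complex.re h2
        simp only [Complex.re_sum, Complex.natCast_re, Complex.mul_conj, Complex.ofReal_re] at h3
        rw [Finset.sum_congr rfl fun (x : K') _ => (show Complex.normSq ((χ : G → ℂ) ((x : K1) : G)) =
            (k * k : ℕ) * Complex.normSq ((θ : K → ℂ) (ε x)) by
          rw [show (χ : G → ℂ) ((x : K1) : G) = (k : ℂ) * (θ : K → ℂ) (ε x) from congrFun hres x,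
            Complex.normSq_mul, Complex.normSq_natCast, Nat.cast_mul]), ← Finset.mul_sum, h3]
        push_cast
        ring
      have hsum2 : ∑ x : K1, Complex.normSq ((χ : G → ℂ) (x : G)) = (Nat.card K1 : ℝ) := by
        have h2 := classInner_irr_self hη
        rw [classInner, inv_mul_eq_iff_eq_mul₀ (Nat.cast_ne_zero.2 Nat.card_pos.ne'), mul_one] at h2
        have h3 := congrArg Complex.re h2
        simpa only [Complex.re_sum, Complex.natCast_re, Complex.mul_conj, Complex.ofReal_re] using h3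
      have hle' : ∑ x : K', Complex.normSq ((χ : G → ℂ) ((x : K1) : G)) ≤
          ∑ x : K1, Complex.normSq ((χ : G → ℂ) (x : G)) := by
        rw [← Finset.sum_image (s := (Finset.univ : Finset K')) (g := fun x : K' => (x : K1))
          (f := fun x : K1 => Complex.normSq ((χ : G → ℂ) (x : G)))
          (fun a _ b _ h => Subtype.ext h)]
        exact Finset.sum_le_sum_of_subset_of_nonneg (Finset.subset_univ _)
          fun x _ _ => Complex.normSq_nonneg _
      rw [hsum1, hsum2, Nat.cast_le] at hle'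
      rw [← hK'idx]
      have h4 := K'.card_mul_index
      rw [← h4, mul_comm (Nat.card K') K'.index] at hle'
      exact Nat.le_of_mul_le_mul_right hle' Nat.card_pos
    have hk1 : k = 1 := by
      rcases hr.eq_one_or_self_of_dvd k hkdvd with h | h
      · exact h
      · subst h
        exact absurd hsq (not_le.2 (by nlinarith [hr.two_le]))
    rw [hθ, hk1, Nat.cast_one, one_smul]
    exact θ.2

theorem pCore_commutator_le_center (χ : IrrCharacter G) (hqp : QP (χ : G → ℂ))
    (hfaith : ∀ g, (χ : G → ℂ) g = (χ : G → ℂ) 1 → g = 1) {p : ℕ} [Fact p.Prime] :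
    ⁅pCore p G, pCore p G⁆ ≤ center G := by
  haveI hPn := Fitting.pCore_normal (G := G) p
  haveI := (Fitting.pCore_isPGroup (G := G) p).isNilpotent
  set P := pCore p G with hP
  let L : ℕ → Subgroup G := fun i => (Subgroup.lowerCentralSeries (⊤ : Subgroup P) i).map P.subtype
  have hL0 : L 0 = P := by
    simp only [L, Subgroup.lowerCentralSeries_zero]
    rw [← MonoidHom.range_eq_map, Subgroup.range_subtype]
  have hLs : ∀ i, L (i + 1) = ⁅L i, P⁆ := fun i => by
    simp only [L, Subgroup.lowerCentralSeries_succ, Subgroup.map_commutator]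
    rw [← MonoidHom.range_eq_map, Subgroup.range_subtype]
  have hLn : ∀ i, (L i).Normal := by
    intro i
    induction i with
    | zero => rw [hL0]; exact hPn
    | succ i ihi => rw [hLs]; exact Subgroup.commutator_normal (L i) P
  have hLle : ∀ i, L i ≤ P := fun i => Subgroup.map_subtype_le _
  have hL1 : ∀ i, L (i + 1) ≤ L 1 := fun i => by
    rw [hLs i, hLs 0, hL0]
    exact Subgroup.commutator_mono (hLle i) le_rfl
  obtain ⟨m, hm⟩ := Subgroup.nilpotent_iff_lowerCentralSeries.mp
    (inferInstance : Group.IsNilpotent P)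
  have hdown : ∀ j i, m ≤ i + j → L (i + 1) ≤ center G := by
    intro j
    induction j with
    | zero =>
      intro i hi
      have h1 : L (i + 1) = ⊥ := by
        simp only [L]
        rw [eq_bot_iff.2 ((Subgroup.lowerCentralSeries_antitone _ (show m ≤ i + 1 by omega)).trans
          hm.le), Subgroup.map_bot]
      rw [h1]; exact bot_le
    | succ j ihj =>
      intro i hi
      have h2 := ihj (i + 1) (by omega)
      have h3 : ⁅⁅P, L (i + 1)⁆, P⁆ = ⊥ := by
        rw [Subgroup.commutator_comm P, ← hLs, Subgroup.commutator_eq_bot_iff_le_centralizer]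
        exact h2.trans (Subgroup.center_le_centralizer _)
      have h4 : ⁅⁅L (i + 1), P⁆, P⁆ = ⊥ := by rw [Subgroup.commutator_comm (L (i + 1)) P, h3]
      have h5 : ⁅L 1, L (i + 1)⁆ = ⊥ := by
        rw [hLs 0, hL0]
        exact Subgroup.commutator_commutator_eq_bot_of_rotate h3 h4
      refine le_center_of_abelian χ hqp hfaith _ (hLn _) fun a ha b hb => ?_
      have h6 : ⁅a, b⁆ ∈ ⁅L 1, L (i + 1)⁆ := Subgroup.commutator_mem_commutator (hL1 i ha) hb
      rw [h5, Subgroup.mem_bot] at h6
      exact commutatorElement_eq_one_iff_mul_comm.1 h6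
  have := hdown m 0 (by omega)
  rwa [hLs 0, hL0] at this

/-- Conjugation on `O_p` modulo the centre. -/
def coreAct (p : ℕ) [((pCore p G)).Normal] :
    G →* MulAut (pCore p G ⧸ (center G).subgroupOf (pCore p G)) where
  toFun g := QuotientGroup.congr _ _ (MulAut.conjNormal g) (by
    ext x
    simp only [Subgroup.mem_map, Subgroup.mem_subgroupOf, MonoidHom.coe_coe]
    constructor
    · rintro ⟨y, hy, rfl⟩
      rw [MulAut.conjNormal_apply, Subgroup.mem_center_iff.1 hy g, mul_inv_cancel_right]
      exact hy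
    · intro hx
      refine ⟨x, hx, Subtype.ext ?_⟩
      rw [MulAut.conjNormal_apply, Subgroup.mem_center_iff.1 hx g, mul_inv_cancel_right])
  map_one' := MulEquiv.ext fun x => by
    induction x using QuotientGroup.induction_on with
    | _ x => simp
  map_mul' g h := MulEquiv.ext fun x => by
    induction x using QuotientGroup.induction_on with
    | _ x => simp

theorem coreAct_fix_iff {p : ℕ} [(pCore p G).Normal] (g : G) (x : pCore p G) :
    coreAct p g (x : pCore p G ⧸ (center G).subgroupOf (pCore p G)) =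
      (x : pCore p G ⧸ (center G).subgroupOf (pCore p G)) ↔
      ((MulAut.conjNormal g x : pCore p G) : G)⁻¹ * (x : G) ∈ center G := by
  show ((MulAut.conjNormal g x : pCore p G) : pCore p G ⧸ (center G).subgroupOf (pCore p G)) = _ ↔ _
  rw [QuotientGroup.eq, Subgroup.mem_subgroupOf]
  rfl

/-- The local statement at one of the two primes. -/
theorem exists_element (χ : IrrCharacter G) (hqp : QP (χ : G → ℂ))
    (hfaith : ∀ g, (χ : G → ℂ) g = (χ : G → ℂ) 1 → g = 1)
    [(fittingSubgroup G).Normal] [Group.IsNilpotent (G ⧸ fittingSubgroup G)] {p q : ℕ} [hp : Fact p.Prime] [hq : Fact q.Prime]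
    (hpq : p ≠ q) (hprimes : ∀ r : ℕ, r.Prime → r ∣ Nat.card G → r = p ∨ r = q) (S : Sylow q G) :
    ∃ t ∈ S, ∀ g : G, t ∈ Subgroup.zpowers g ⊔ fittingSubgroup G →
      (charDegree (χ : G → ℂ)).factorization p ≤
        (Subgroup.centralizer ({g} : Set G)).index.factorization p := by
  classical
  haveI hFn := Fitting.fitting_normal (G := G)
  haveI hPn := Fitting.pCore_normal (G := G) p
  set F := fittingSubgroup G with hF
  set P := pCore p G with hP
  have hPF : P ≤ F := Fitting.pCore_le_fitting hp.out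
  have hPp : IsPGroup p P := Fitting.pCore_isPGroup p
  have hcomm := pCore_commutator_le_center χ hqp hfaith (p := p)
  set Z0 := (center G).subgroupOf P with hZ0
  letI : CommGroup (P ⧸ Z0) := { (inferInstance : Group (P ⧸ Z0)) with
    mul_comm := fun a b => by
      refine QuotientGroup.induction_on a fun x => QuotientGroup.induction_on b fun y => ?_
      show (QuotientGroup.mk (x * y) : P ⧸ Z0) = QuotientGroup.mk (y * x)
      rw [QuotientGroup.eq, hZ0, Subgroup.mem_subgroupOf]
      have h1 := hcomm (Subgroup.commutator_mem_commutator (y⁻¹).2 (x⁻¹).2)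
      rw [commutatorElement_def] at h1
      simpa [mul_assoc] using h1 }
  -- elements of the Fitting subgroup act trivially
  have hFtriv : ∀ f ∈ F, coreAct p f = 1 := by
    have hle : F ≤ (coreAct (G := G) p).ker := by
      rw [hF, Fitting.fitting_eq_iSup_pCore]
      refine iSup_le fun r => fun f hf => MonoidHom.mem_ker.2 (MulEquiv.ext fun v => ?_)
      induction v using QuotientGroup.induction_on with
      | _ x =>
        rw [MulAut.one_apply, coreAct_fix_iff, MulAut.conjNormal_apply]
        by_cases hrp : (r : ℕ) = p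
        · rw [hrp] at hf
          have h1 := hcomm (Subgroup.commutator_mem_commutator hf
            ((pCore p G).inv_mem x.2))
          rw [commutatorElement_def, inv_inv] at h1
          simpa [mul_assoc] using h1
        · have h1 := Fitting.commute_pCore_of_ne (Nat.prime_of_mem_primeFactors r.2) hp.out hrp hf x.2
          rw [h1.eq, mul_inv_cancel_right, inv_mul_cancel]
          exact (center G).one_mem
    exact fun f hf => MonoidHom.mem_ker.1 (hle hf)
  let φ : (S : Subgroup G) →* MulAut (P ⧸ Z0) := (coreAct p).comp (S : Subgroup G).subtype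
  haveI : Group.IsNilpotent (S : Subgroup G) := S.2.isNilpotent
  have hcop : (Nat.card (S : Subgroup G)).Coprime (Nat.card (P ⧸ Z0)) := by
    obtain ⟨a, ha⟩ := IsPGroup.iff_card.1 S.2
    obtain ⟨b, hb⟩ := IsPGroup.iff_card.1 (hPp.to_quotient Z0)
    rw [ha, hb]
    exact Nat.Coprime.pow a b ((Nat.coprime_primes hq.out hp.out).2 (Ne.symm hpq))
  -- no fixed points
  have hfix : ∀ v : P ⧸ Z0, (∀ t, φ t v = v) → v = 1 := by
    set N := (S : Subgroup G) ⊔ F with hN
    haveI hNn : N.Normal := by
      have h1 : ((S : Subgroup G).map (QuotientGroup.mk' F)).Normal := by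
        rw [← Sylow.coe_mapSurjective (QuotientGroup.mk'_surjective F)]
        infer_instance
      have h2 := h1.comap (QuotientGroup.mk' F)
      rwa [Subgroup.comap_map_eq, QuotientGroup.ker_mk'] at h2
    let W : Subgroup P :=
      { carrier := {x | ∀ n ∈ N, coreAct p n (x : P ⧸ Z0) = (x : P ⧸ Z0)}
        one_mem' := fun n _ => by rw [QuotientGroup.mk_one, map_one]
        mul_mem' := fun {a b} ha hb n hn => by rw [QuotientGroup.mk_mul, map_mul, ha n hn, hb n hn]
        inv_mem' := fun {a} ha n hn => by rw [QuotientGroup.mk_inv, map_inv, ha n hn] }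
    have hWconj : ∀ g : G, ∀ x ∈ W, MulAut.conjNormal g x ∈ W := fun g x hx n hn => by
      have h1 := hx (g⁻¹ * n * g) (hNn.conj_mem' n hn g)
      show coreAct p n (coreAct p g (x : P ⧸ Z0)) = coreAct p g (x : P ⧸ Z0)
      conv_rhs => rw [← h1]
      rw [← MulAut.mul_apply, ← MulAut.mul_apply, ← map_mul, ← map_mul]
      congr 2
      group
    suffices hWle : W ≤ Z0 by
      intro v hv
      induction v using QuotientGroup.induction_on with
      | _ x =>
        refine (QuotientGroup.eq_one_iff x).2 (hWle fun n hn => ?_)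
        obtain ⟨s, hs, f, hf, rfl⟩ := Subgroup.mem_sup_of_normal_right.1 hn
        rw [map_mul, MulAut.mul_apply, hFtriv f hf, MulAut.one_apply]
        exact hv ⟨s, hs⟩
    obtain ⟨P0, hP0⟩ := hPp.exists_le_sylow
    by_contra hne
    -- pass to `P0` modulo the centre
    let Zc := (center G).subgroupOf (P0 : Subgroup G)
    haveI : Zc.Normal := inferInstance
    let M : Subgroup (P0 : Subgroup G) := (W.map P.subtype).subgroupOf (P0 : Subgroup G)
    haveI hMn : M.Normal := ⟨by
      rintro m ⟨x, hx, hxm⟩ g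
      refine ⟨MulAut.conjNormal (g : G) x, hWconj _ x hx, ?_⟩
      show ((MulAut.conjNormal (g : G) x : P) : G) = (g : G) * (m : G) * (g : G)⁻¹
      rw [MulAut.conjNormal_apply]
      exact congrArg (fun y => (g : G) * y * (g : G)⁻¹) hxm⟩
    haveI : (M.map (QuotientGroup.mk' Zc)).Normal := hMn.map _ (QuotientGroup.mk'_surjective Zc)
    have hMne : M.map (QuotientGroup.mk' Zc) ≠ ⊥ := by
      intro h
      refine hne fun x hx => ?_
      have h1 : QuotientGroup.mk' Zc ⟨(x : G), hP0 x.2⟩ ∈ M.map (QuotientGroup.mk' Zc) :=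
        ⟨_, ⟨x, hx, rfl⟩, rfl⟩
      rw [h, Subgroup.mem_bot] at h1
      exact (QuotientGroup.eq_one_iff (⟨(x : G), hP0 x.2⟩ : (P0 : Subgroup G))).1 h1
    obtain ⟨w, hw, hwc, hw1⟩ := Techniques.KInf.exists_mem_center (P0.2.to_quotient Zc) _ hMne
    obtain ⟨m, ⟨x, hx, hxm⟩, rfl⟩ := hw
    have hxm' : (x : G) = (m : G) := hxm
    have hall : ∀ g : G, coreAct p g (x : P ⧸ Z0) = (x : P ⧸ Z0) := by
      let St : Subgroup G :=
        { carrier := {g | coreAct p g (x : P ⧸ Z0) = (x : P ⧸ Z0)}
          one_mem' := by simp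
          mul_mem' := fun {a b} (ha : _ = _) (hb : _ = _) => by
            show coreAct p (a * b) _ = _
            rw [map_mul, MulAut.mul_apply, hb, ha]
          inv_mem' := fun {a} (ha : _ = _) => by
            show coreAct p a⁻¹ _ = _
            conv_lhs => rw [← ha]
            rw [← MulAut.mul_apply, ← map_mul, inv_mul_cancel, map_one, MulAut.one_apply] }
      have h1 : (P0 : Subgroup G) ≤ St := fun g hg => by
        show coreAct p g (x : P ⧸ Z0) = (x : P ⧸ Z0)
        rw [coreAct_fix_iff, MulAut.conjNormal_apply, hxm']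
        have h2 := Subgroup.mem_center_iff.1 hwc (QuotientGroup.mk' Zc ⟨g, hg⟩)
        rw [← map_mul, ← map_mul, QuotientGroup.mk'_apply, QuotientGroup.mk'_apply,
          QuotientGroup.eq, Subgroup.mem_subgroupOf] at h2
        have h3 : (g * (m : G) * g⁻¹)⁻¹ * (m : G) = g * ((g * (m : G))⁻¹ * ((m : G) * g)) * g⁻¹ := by
          group
        have h4 : (g * (m : G))⁻¹ * ((m : G) * g) ∈ center G := h2
        rw [h3, Subgroup.mem_center_iff.1 h4 g, mul_inv_cancel_right]
        exact h4
      have h2 : (S : Subgroup G) ≤ St := fun g hg => hx g (Subgroup.mem_sup_left hg)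
      have h3 : St.index = 1 := by
        by_contra h
        obtain ⟨r, hr, hrd⟩ := Nat.exists_prime_and_dvd h
        rcases hprimes r hr (hrd.trans (Subgroup.index_dvd_card St)) with rfl | rfl
        · exact P0.not_dvd_index (hrd.trans (Subgroup.index_dvd_of_le h1))
        · exact S.not_dvd_index (hrd.trans (Subgroup.index_dvd_of_le h2))
      intro g
      have h4 : g ∈ St := by rw [Subgroup.index_eq_one.1 h3]; exact Subgroup.mem_top g
      exact h4
    -- an abelian normal subgroup
    have hAn : ((center G) ⊔ Subgroup.zpowers (x : G)).Normal := ⟨by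
      have hmem : ∀ g : G, g * (x : G) * g⁻¹ ∈ (center G) ⊔ Subgroup.zpowers (x : G) := fun g => by
        have h1 := (coreAct_fix_iff g x).1 (hall g)
        rw [MulAut.conjNormal_apply] at h1
        rw [show g * (x : G) * g⁻¹ = (x : G) * ((g * (x : G) * g⁻¹)⁻¹ * (x : G))⁻¹ by group]
        exact Subgroup.mul_mem _ (Subgroup.mem_sup_right (Subgroup.mem_zpowers _))
          (Subgroup.mem_sup_left ((center G).inv_mem h1))
      intro a ha g
      have hle : ((center G) ⊔ Subgroup.zpowers (x : G)) ≤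
          ((center G) ⊔ Subgroup.zpowers (x : G)).comap (MulAut.conj g).toMonoidHom := by
        refine sup_le (fun c hc => ?_) (Subgroup.zpowers_le.2 (hmem g))
        rw [Subgroup.mem_comap]
        show g * c * g⁻¹ ∈ _
        rw [Subgroup.mem_center_iff.1 hc g, mul_inv_cancel_right]
        exact Subgroup.mem_sup_left hc
      exact hle ha⟩
    have hxc : (x : G) ∈ center G := by
      refine le_center_of_abelian χ hqp hfaith _ hAn (fun a ha b hb => ?_)
        (Subgroup.mem_sup_right (Subgroup.mem_zpowers _))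
      obtain ⟨c, hc, y, hy, rfl⟩ := Subgroup.mem_sup_of_normal_left.1 ha
      obtain ⟨d, hd, y', hy', rfl⟩ := Subgroup.mem_sup_of_normal_left.1 hb
      obtain ⟨i, rfl⟩ := Subgroup.mem_zpowers_iff.1 hy
      obtain ⟨j, rfl⟩ := Subgroup.mem_zpowers_iff.1 hy'
      have e1 : Commute ((x : G) ^ i) ((x : G) ^ j) := Commute.zpow_zpow (Commute.refl _) i j
      have e2 : ∀ (c : G), c ∈ center G → ∀ y, Commute c y := fun c hc y =>
        (Subgroup.mem_center_iff.1 hc y).symm
      exact (Commute.mul_left ((e2 c hc _)) (Commute.mul_right (e2 d hd _).symm e1)).eq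
    refine hw1 ((QuotientGroup.eq_one_iff m).2 ?_)
    rw [Subgroup.mem_subgroupOf, ← hxm']
    exact hxc
  obtain ⟨t, ht⟩ := exists_fix_sq_le φ hcop hfix
  refine ⟨t, t.2, fun g hg => ?_⟩
  -- the degree
  haveI := Fintype.ofFinite F
  haveI := Fintype.ofFinite P
  have hθ : IsIrrCharacter F (fun f : F => (χ : G → ℂ) f) := res_irr_of_nilpotent_quotient χ hqp F
  obtain ⟨η, e, hη⟩ := hqp P hPn
  have he0 := qp_mult_ne_zero hη
  let P' : Subgroup F := P.subgroupOf F
  haveI : P'.Normal := hPn.subgroupOf F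
  haveI := Fintype.ofFinite P'
  let ε : P' →* P := (Subgroup.subgroupOfEquivOfLe hPF).toMonoidHom
  have hη' : IsIrrCharacter P' (fun x => (η : P → ℂ) (ε x)) :=
    Clifford.isIrrCharacter_pullback η.2 ε (Subgroup.subgroupOfEquivOfLe hPF).surjective
  have hres : (fun x : P' => (fun f : F => (χ : G → ℂ) f) x) =
      (e : ℂ) • fun x => (η : P → ℂ) (ε x) := funext fun x => congrFun hη (ε x)
  have hinner : classInner (fun x : P' => (fun f : F => (χ : G → ℂ) f) x)
      (fun x => (η : P → ℂ) (ε x)) = (e : ℂ) := by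
    rw [hres, classInner_smul_left, classInner_irr_self hη', mul_one]
  obtain ⟨k, hk, hkdvd⟩ := Ramified.degree_ratio_dvd_index P' hθ hη'
    (by rw [hinner]; exact Nat.cast_ne_zero.2 he0)
  have hdeg : charDegree (χ : G → ℂ) = k * charDegree (η : P → ℂ) := by
    simp only [map_one, Subgroup.coe_one] at hk
    rw [(ClassCount.degree_eq χ).1, (ClassCount.degree_eq η).1] at hk
    exact_mod_cast hk
  have hpk : ¬ p ∣ k := fun hd => by
    obtain ⟨T⟩ : Nonempty (Sylow p F) := inferInstance
    have h1 := Fitting.sylow_fitting_eq_pCore T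
    have h2 : P' = (T : Subgroup F) := by
      show P.subgroupOf F = _
      rw [hP, ← h1, Subgroup.subgroupOf, Subgroup.comap_map_eq_self_of_injective
        (Subgroup.subtype_injective _)]
    exact T.not_dvd_index (h2 ▸ hd.trans hkdvd)
  obtain ⟨a, ha⟩ : ∃ a, charDegree (η : P → ℂ) = p ^ a := by
    obtain ⟨n, hn⟩ := IsPGroup.iff_card.1 hPp
    obtain ⟨a, -, ha⟩ := (Nat.dvd_prime_pow hp.out).1 (hn ▸ (ClassCount.degree_eq η).2.1)
    exact ⟨a, ha⟩
  have hfac : (charDegree (χ : G → ℂ)).factorization p = a := by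
    have hk0 : k ≠ 0 := fun h => hpk (h ▸ dvd_zero p)
    rw [hdeg, ha, Nat.factorization_mul hk0 (pow_ne_zero _ hp.out.ne_zero), Finsupp.add_apply,
      Nat.factorization_eq_zero_of_not_dvd hpk, hp.out.factorization_pow, Finsupp.single_eq_same,
      zero_add]
  -- the bound
  have hηle : (p ^ a) ^ 2 ≤ Nat.card (P ⧸ Z0) := by
    rw [← ha, ← Subgroup.index_eq_card]
    refine (OnePrimeDegree.degree_sq_le η).trans (Nat.le_of_dvd
      (Nat.pos_of_ne_zero Subgroup.index_ne_zero_of_finite) (Subgroup.index_dvd_of_le ?_))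
    intro z hz
    exact Subgroup.mem_center_iff.2 fun y => Subtype.ext
      (Subgroup.mem_center_iff.1 (Subgroup.mem_subgroupOf.1 hz) y)
  set Cg := Subgroup.centralizer ({g} : Set G) with hCg
  have hsub : Cg.subgroupOf P ≤ (fixD φ t).comap (QuotientGroup.mk' Z0) := by
    intro x hx
    have hxg : (x : G) * g = g * (x : G) := Subgroup.mem_centralizer_singleton_iff.1 hx
    let St : Subgroup G :=
      { carrier := {h | coreAct p h (x : P ⧸ Z0) = (x : P ⧸ Z0)}
        one_mem' := by simp
        mul_mem' := fun {a b} (ha : _ = _) (hb : _ = _) => by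
          show coreAct p (a * b) _ = _
          rw [map_mul, MulAut.mul_apply, hb, ha]
        inv_mem' := fun {a} (ha : _ = _) => by
          show coreAct p a⁻¹ _ = _
          conv_lhs => rw [← ha]
          rw [← MulAut.mul_apply, ← map_mul, inv_mul_cancel, map_one, MulAut.one_apply] }
    have h1 : Subgroup.zpowers g ⊔ F ≤ St := by
      refine sup_le (Subgroup.zpowers_le.2 ?_) fun f hf => ?_
      · show coreAct p g (x : P ⧸ Z0) = (x : P ⧸ Z0)
        rw [coreAct_fix_iff, MulAut.conjNormal_apply, ← hxg, mul_inv_cancel_right, inv_mul_cancel]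
        exact (center G).one_mem
      · show coreAct p f (x : P ⧸ Z0) = (x : P ⧸ Z0)
        rw [hFtriv f hf, MulAut.one_apply]
    exact h1 hg
  have hidx : (fixD φ t).index ∣ Cg.relIndex P := by
    rw [← Subgroup.index_comap_of_surjective _ (QuotientGroup.mk'_surjective Z0)]
    exact Subgroup.index_dvd_of_le hsub
  have hbig : p ^ a ≤ (fixD φ t).index := by
    have h1 := (fixD φ t).card_mul_index
    have h2 : (p ^ a) ^ 2 * Nat.card (fixD φ t) ^ 2 ≤
        (Nat.card (fixD φ t) * (fixD φ t).index) ^ 2 := by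
      rw [h1, pow_two (Nat.card (P ⧸ Z0))]
      exact Nat.mul_le_mul hηle ht
    rw [← mul_pow] at h2
    have h3 := (Nat.pow_le_pow_iff_left (by norm_num)).1 h2
    rw [mul_comm] at h3
    exact Nat.le_of_mul_le_mul_left h3 Nat.card_pos
  obtain ⟨n, hn⟩ : ∃ n, Cg.relIndex P = p ^ n := by
    obtain ⟨N, hN⟩ := IsPGroup.iff_card.1 hPp
    obtain ⟨n, -, hn⟩ := (Nat.dvd_prime_pow hp.out).1 (hN ▸ Subgroup.relIndex_dvd_card Cg P)
    exact ⟨n, hn⟩
  have han : a ≤ n := by
    refine (Nat.pow_le_pow_iff_right hp.out.one_lt).1 (hbig.trans ?_)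
    exact hn ▸ Nat.le_of_dvd (hn ▸ Nat.pos_of_ne_zero (pow_ne_zero _ hp.out.ne_zero)) hidx
  rw [hfac]
  refine (hp.out.pow_dvd_iff_le_factorization Subgroup.index_ne_zero_of_finite).1 ?_
  exact ((pow_dvd_pow p han).trans (hn ▸ dvd_rfl)).trans (Squarefree.relIndex_dvd_index_swap P Cg)

/-- Faithful case of the theorem. -/
theorem exists_class_dvd_of_faithful (χ : IrrCharacter G) (hqp : QP (χ : G → ℂ))
    (hfaith : ∀ g, (χ : G → ℂ) g = (χ : G → ℂ) 1 → g = 1)
    [(fittingSubgroup G).Normal] [Group.IsNilpotent (G ⧸ fittingSubgroup G)] {p q : ℕ} [hp : Fact p.Prime] [hq : Fact q.Prime]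
    (hpq : p ≠ q) (hprimes : ∀ r : ℕ, r.Prime → r ∣ Nat.card G → r = p ∨ r = q) :
    ∃ g : G, charDegree (χ : G → ℂ) ∣ (Subgroup.centralizer ({g} : Set G)).index := by
  classical
  haveI hFn := Fitting.fitting_normal (G := G)
  set F := fittingSubgroup G with hF
  obtain ⟨S⟩ : Nonempty (Sylow q G) := inferInstance
  obtain ⟨R⟩ : Nonempty (Sylow p G) := inferInstance
  obtain ⟨t, htS, ht⟩ := exists_element χ hqp hfaith hpq hprimes S
  obtain ⟨u, huR, hu⟩ := exists_element χ hqp hfaith hpq.symm
    (fun r hr hd => (hprimes r hr hd).symm) R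
  let π := QuotientGroup.mk' F
  have hcore : ∀ {r : ℕ} [Fact r.Prime] (T : Sylow r G) {x : G}, x ∈ T →
      π x ∈ pCore r (G ⧸ F) := by
    intro r _ T x hx
    have hn : ((T.mapSurjective (QuotientGroup.mk'_surjective F) : Sylow r (G ⧸ F)) :
        Subgroup (G ⧸ F)).Normal := inferInstance
    exact Fitting.le_pCore hn (T.mapSurjective (QuotientGroup.mk'_surjective F)).2 ⟨x, hx, rfl⟩
  have hc : Commute (π u) (π t) :=
    Fitting.commute_pCore_of_ne hp.out hq.out hpq (hcore R huR) (hcore S htS)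
  have hcop : (orderOf (π u)).Coprime (orderOf (π t)) := by
    obtain ⟨i, hi⟩ := IsPGroup.iff_orderOf.1 (R.2.map π) ⟨π u, u, huR, rfl⟩
    obtain ⟨j, hj⟩ := IsPGroup.iff_orderOf.1 (S.2.map π) ⟨π t, t, htS, rfl⟩
    rw [← Subgroup.orderOf_coe] at hi hj
    rw [show orderOf (π u) = _ from hi, show orderOf (π t) = _ from hj]
    exact Nat.Coprime.pow i j ((Nat.coprime_primes hp.out hq.out).2 hpq)
  have hgen : ∀ {a b : G ⧸ F}, Commute a b → (orderOf a).Coprime (orderOf b) →
      b ∈ Subgroup.zpowers (a * b) := by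
    intro a b hab hco
    have h1 : (a * b) ^ orderOf a = b ^ orderOf a := by
      rw [hab.mul_pow, pow_orderOf_eq_one, one_mul]
    obtain ⟨k, hk⟩ := exists_pow_eq_self_of_coprime (x := b) hco
    have h2 := Subgroup.pow_mem _ (Subgroup.pow_mem _ (Subgroup.mem_zpowers (a * b)) (orderOf a)) k
    rwa [h1, hk] at h2
  have hlift : ∀ {x g : G}, π x ∈ Subgroup.zpowers (π g) → x ∈ Subgroup.zpowers g ⊔ F := by
    intro x g hx
    obtain ⟨i, hi⟩ := Subgroup.mem_zpowers_iff.1 hx
    rw [← map_zpow] at hi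
    have h1 : (g ^ i)⁻¹ * x ∈ F := QuotientGroup.eq.1 hi
    rw [show x = g ^ i * ((g ^ i)⁻¹ * x) by group]
    exact Subgroup.mul_mem_sup (Subgroup.zpow_mem _ (Subgroup.mem_zpowers g) i) h1
  refine ⟨u * t, ?_⟩
  have hd0 : charDegree (χ : G → ℂ) ≠ 0 := (ClassCount.degree_eq χ).2.2.ne'
  refine (Nat.factorization_le_iff_dvd hd0 Subgroup.index_ne_zero_of_finite).1 fun r => ?_
  by_cases hr : r.Prime ∧ r ∣ charDegree (χ : G → ℂ)
  · rcases hprimes r hr.1 (hr.2.trans (ClassCount.degree_eq χ).2.1) with rfl | rfl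
    · exact ht _ (hlift (by rw [map_mul]; exact hgen hc hcop))
    · exact hu _ (hlift (by rw [map_mul, hc.eq]; exact hgen hc.symm hcop.symm))
  · have h0 : (charDegree (χ : G → ℂ)).factorization r = 0 := by
      by_cases hp' : r.Prime
      · exact Nat.factorization_eq_zero_of_not_dvd fun h => hr ⟨hp', h⟩
      · exact Nat.factorization_eq_zero_of_not_prime _ hp'
    rw [h0]; exact Nat.zero_le _

/-- **A quasi-primitive degree divides a class size.** -/
theorem exists_class_dvd (χ : IrrCharacter G) (hqp : QP (χ : G → ℂ))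
    [hF : (fittingSubgroup G).Normal] [Group.IsNilpotent (G ⧸ fittingSubgroup G)]
    {p q : ℕ} [Fact p.Prime] [Fact q.Prime]
    (hpq : p ≠ q) (hprimes : ∀ r : ℕ, r.Prime → r ∣ Nat.card G → r = p ∨ r = q) :
    ∃ g : G, charDegree (χ : G → ℂ) ∣ (Subgroup.centralizer ({g} : Set G)).index := by
  classical
  obtain ⟨n, ρ, hρ, hchar⟩ := χ.2
  let K : Subgroup G := MonoidHom.ker ρ
  haveI : Fintype (G ⧸ K) := Fintype.ofFinite _
  let π := QuotientGroup.mk' K
  let χb : G ⧸ K → ℂ := fun y => (χ : G → ℂ) y.out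
  have hb : ∀ g : G, χb (π g) = (χ : G → ℂ) g := fun g => by
    obtain ⟨k, hk⟩ := QuotientGroup.mk_out_eq_mul K g
    show (χ : G → ℂ) (QuotientGroup.mk g : G ⧸ K).out = _
    rw [hk, ← hchar]
    simp only [Representation.character, map_mul, MonoidHom.mem_ker.1 k.2, mul_one]
  have hirr : IsIrrCharacter (G ⧸ K) χb := CharCorrQ.isIrrCharacter_of_pullback π
    (QuotientGroup.mk'_surjective K) (by simp only [hb]; exact χ.2)
  let χ' : IrrCharacter (G ⧸ K) := ⟨χb, hirr⟩
  have hqp' : QP (χ' : G ⧸ K → ℂ) := qp_quotient K (by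
    simp only [χ']
    rw [show (fun g : G => χb (QuotientGroup.mk' K g)) = (χ : G → ℂ) from funext hb]
    exact hqp)
  have hfaith : ∀ y, (χ' : G ⧸ K → ℂ) y = (χ' : G ⧸ K → ℂ) 1 → y = 1 := by
    intro y
    obtain ⟨g, rfl⟩ := QuotientGroup.mk'_surjective K y
    intro h
    rw [← map_one π] at h
    simp only [χ', π] at h
    rw [hb, hb, ← hchar] at h
    exact (QuotientGroup.eq_one_iff g).2
      (MonoidHom.mem_ker.2 ((char_eq_degree_iff ρ g).1 (h.trans ρ.char_one)))
  haveI := Fitting.fitting_normal (G := G ⧸ K)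
  haveI : Group.IsNilpotent ((G ⧸ K) ⧸ fittingSubgroup (G ⧸ K)) :=
    Group.nilpotent_of_surjective
      (QuotientGroup.map (fittingSubgroup G) (fittingSubgroup (G ⧸ K)) π
        (Subgroup.map_le_iff_le_comap.1 (Fitting.map_fitting_le π (QuotientGroup.mk'_surjective K))))
      fun y => by
        obtain ⟨z, rfl⟩ := QuotientGroup.mk'_surjective (fittingSubgroup (G ⧸ K)) y
        obtain ⟨g, rfl⟩ := QuotientGroup.mk'_surjective K z
        exact ⟨QuotientGroup.mk g, rfl⟩
  obtain ⟨y, hy⟩ := exists_class_dvd_of_faithful χ' hqp' hfaith hpq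
    fun r hr hd => hprimes r hr (hd.trans (Subgroup.card_quotient_dvd_card K))
  obtain ⟨g, rfl⟩ := QuotientGroup.mk'_surjective K y
  refine ⟨g, ?_⟩
  have hdeg : charDegree (χ' : G ⧸ K → ℂ) = charDegree (χ : G → ℂ) := by
    show ⌊(χb 1).re⌋₊ = ⌊((χ : G → ℂ) 1).re⌋₊
    rw [← map_one π, hb]
  rw [hdeg] at hy
  refine hy.trans ?_
  rw [← Subgroup.index_comap_of_surjective _ (QuotientGroup.mk'_surjective K)]
  refine Subgroup.index_dvd_of_le fun c hc => ?_
  rw [Subgroup.mem_comap, Subgroup.mem_centralizer_singleton_iff, ← map_mul, ← map_mul,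
    Subgroup.mem_centralizer_singleton_iff.1 hc]

end CfsgLib.KGV.PrimitiveNilpotent
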