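import Cfsg.Agent.Lib.KGV.Heisenberg

/-!
# The witness for a self-dual coprime module
-/

set_option autoImplicit false
set_option linter.style.haveILetI false

noncomputable section

namespace CfsgLib.KGV

open Cfsg
open LinearMap (BilinForm)

variable {p : ℕ} [Fact p.Prime] {V : Type*} [AddCommGroup V] [Module (ZMod p) V] [Finite V]
  {C : Type*} [Group C] [Finite C] {M : Ideal AlgInt}

/-- An invariant alternating form is the skew part of an invariant bilinear form. -/
theorem exists_invariant_half (ρ : Representation (ZMod p) C V) (hcop : ¬ p ∣ Nat.card C)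
    (A : BilinForm (ZMod p) V) (hA : SelfDual.Alt A) (hinv : SelfDual.BInv ρ A) :
    ∃ β : BilinForm (ZMod p) V, SelfDual.BInv ρ β ∧ ∀ a b, β a b - β b a = A a b := by
  classical
  haveI : Fintype C := Fintype.ofFinite C
  let b := Module.finBasis (ZMod p) V
  let β₁ : BilinForm (ZMod p) V :=
    b.constr (ZMod p) fun i => b.constr (ZMod p) fun j => if i < j then A (b i) (b j) else 0
  have hβ₁ : β₁ - LinearMap.flip β₁ = A := by
    refine LinearMap.BilinForm.ext_basis b fun i j => ?_
    simp only [β₁, LinearMap.sub_apply, LinearMap.flip_apply, Module.Basis.constr_basis]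
    have hskew : A (b j) (b i) = - A (b i) (b j) := by
      have h := hA (b i + b j)
      simp only [map_add, LinearMap.add_apply, hA (b i), hA (b j), zero_add, add_zero] at h
      linear_combination h
    rcases lt_trichotomy i j with h | h | h
    · simp [h, not_lt.2 h.le]
    · subst h; simp [hA (b i)]
    · simp [h, not_lt.2 h.le, hskew]
  let β : BilinForm (ZMod p) V := (Nat.card C : ZMod p)⁻¹ • ∑ g : C, β₁.comp (ρ g) (ρ g)
  refine ⟨β, fun g x y => ?_, fun x y => ?_⟩
  · simp only [β, LinearMap.smul_apply, LinearMap.sum_apply, LinearMap.BilinForm.comp_apply]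
    congr 1
    rw [← Equiv.sum_comp (Equiv.mulRight g) (fun h => β₁ (ρ h x) (ρ h y))]
    exact Finset.sum_congr rfl fun h _ => by simp
  · have hC : (Nat.card C : ZMod p) ≠ 0 := by rwa [Ne, ZMod.natCast_eq_zero_iff]
    simp only [β, LinearMap.smul_apply, LinearMap.sum_apply, LinearMap.BilinForm.comp_apply,
      ← smul_sub, ← Finset.sum_sub_distrib]
    have h1 : ∀ g : C, β₁ (ρ g x) (ρ g y) - β₁ (ρ g y) (ρ g x) = A x y := fun g => by
      rw [← hinv g x y, ← hβ₁]
      simp
    rw [Finset.sum_congr rfl fun g _ => h1 g, Finset.sum_const, Finset.card_univ, nsmul_eq_mul,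
      ← Nat.card_eq_fintype_card, smul_eq_mul, inv_mul_cancel_left₀ hC]

/-- The witness of a self-dual module. -/
theorem hasPsi_selfDual (ρ : Representation (ZMod p) C V) (hM : IsPModular p M)
    (hcop : ¬ p ∣ Nat.card C) (B : BilinForm (ZMod p) V) (hB : SelfDual.BInv ρ B)
    (hnd : SelfDual.LND B ⊤) :
    HasPsi p M C (fun y => Nat.card (fix ρ y)) (fun y => ρ y = 1) (Nat.card V) := by
  classical
  haveI : NeZero (Nat.card C : ZMod p) := ⟨by rwa [Ne, ZMod.natCast_eq_zero_iff]⟩
  obtain ⟨U, -, W, -, hU, hW, hd, hs, hA, hS, htr⟩ :=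
    SelfDual.exists_decomp hB ⊤ (fun _ _ _ => trivial) hnd
  let ρU : Representation (ZMod p) C U :=
    (⟨U, fun g v hv => hU g v hv⟩ : Subrepresentation ρ).toRepresentation
  let ρW : Representation (ZMod p) C W :=
    (⟨W, fun g v hv => hW g v hv⟩ : Subrepresentation ρ).toRepresentation
  obtain ⟨A, hA1, hA2, hA3⟩ := hA
  obtain ⟨S, hS1, hS2, hS3⟩ := hS
  have h1 : HasPsi p M C (fun y => Nat.card (fix ρU y)) (fun y => ρU y = 1) (Nat.card U) := by
    obtain ⟨β, hβ, hβA⟩ := exists_invariant_half ρU hcop (A.comp U.subtype U.subtype)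
      (fun x => hA1 (x : V)) (fun g x y => hA2 g x x.2 y y.2)
    refine hasPsi_alt ρU hM hcop β hβ fun v hv => ?_
    refine Subtype.ext (hA3 v v.2 fun w hw => ?_)
    have := hβA v ⟨w, hw⟩
    rw [hv ⟨w, hw⟩, sub_self] at this
    exact this.symm
  have h2 : HasPsi p M C (fun y => Nat.card (fix ρW y)) (fun y => ρW y = 1) (Nat.card W) := by
    by_cases hp2 : p = 2
    · refine hasPsi_one (fun y => ?_) (fun y => Nat.card_le_card_of_injective _ Subtype.val_injective)
      have h20 : (2 : ZMod p) = 0 := by subst hp2; rfl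
      exact LinearMap.ext fun x => Subtype.ext (htr h20 y x x.2)
    · exact hasPsi_symm ρW (S.comp W.subtype W.subtype) hM hp2 hcop (fun x y => hS1 _ _)
        (fun g x y => hS2 g x x.2 y y.2)
        (fun x _ h => Subtype.ext (hS3 x x.2 fun y hy => h ⟨y, hy⟩ trivial))
  let e := Submodule.prodEquivOfIsCompl U W (IsCompl.of_eq hd.eq_bot hs)
  have he : ∀ (y : C) (q : U × W), ρ y (e q) = e (ρU y q.1, ρW y q.2) := fun y q => by
    simp only [e, Submodule.coe_prodEquivOfIsCompl', map_add]
    rfl
  refine HasPsi.mul hM h1 h2 (fun y => le_of_eq ?_) (fun y a b => ?_) (le_of_eq ?_)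
  · have hfe : ∀ q : U × W, (q.1 ∈ fix ρU y ∧ q.2 ∈ fix ρW y) ↔ e q ∈ fix ρ y := fun q => by
      rw [mem_fix, mem_fix, mem_fix, he]
      exact ⟨fun h => by rw [h.1, h.2], fun h => Prod.ext_iff.1 (e.injective h)⟩
    rw [← Nat.card_prod]
    exact ((Nat.card_congr (Equiv.subtypeEquiv e.toEquiv hfe)).symm).trans
      (Nat.card_congr Equiv.subtypeProdEquivProd)
  · refine LinearMap.ext fun x => ?_
    obtain ⟨q, rfl⟩ := e.surjective x
    rw [he, a, b]
    rfl
  · rw [← Nat.card_prod]
    exact Nat.card_congr e.toEquiv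

end CfsgLib.KGV
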